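import Groth.Agent.Sga3B.DimFib

/-!
# Dimension of the base change to a field
-/

set_option autoImplicit false
universe u

open CategoryTheory AlgebraicGeometry Limits IsLocalRing

namespace K216.DimPt

open Groth.Agent.Sga3B

/-- The dimension of the base change to a field depends only on the image point. -/
theorem dim_pullback_field {X S : Scheme.{u}} {K : Type u} [Field K] (F : Spec (CommRingCat.of K) ⟶ S)
    (f : X ⟶ S) [LocallyOfFiniteType f] (s : S) (hs : s ∈ Set.range F) :
    topologicalKrullDim ↥(pullback f F) = topologicalKrullDim ↥(f.fiber s) := by
  obtain ⟨p, rfl⟩ := hs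
  have hp : p = closedPoint K := Subsingleton.elim (α := PrimeSpectrum K) _ _
  subst hp
  let b : Spec (CommRingCat.of K) ⟶ Spec (S.residueField (F (closedPoint K))) :=
    Spec.map (S.descResidueField (Scheme.stalkClosedPointTo F))
  have hb : b ≫ S.fromSpecResidueField _ = F := Scheme.descResidueField_stalkClosedPointTo_fromSpecResidueField K S F
  have sq1 : IsPullback (pullback.fst f (S.fromSpecResidueField (F (closedPoint K))))
      (pullback.snd f (S.fromSpecResidueField (F (closedPoint K))))
      f (S.fromSpecResidueField (F (closedPoint K))) := IsPullback.of_hasPullback _ _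
  have sq2 : IsPullback (pullback.fst f F) (pullback.snd f F) f F := IsPullback.of_hasPullback _ _
  have sq3 : IsPullback (sq1.lift (pullback.fst f F) (pullback.snd f F ≫ b)
      (by rw [Category.assoc, hb]; exact sq2.w))
      (pullback.snd f F) (pullback.snd f (S.fromSpecResidueField (F (closedPoint K)))) b := by
    refine IsPullback.of_right (t := sq1) ?_ (by simp)
    rw [IsPullback.lift_fst, hb]
    exact sq2
  have h0 : LocallyOfFiniteType (pullback.snd f (S.fromSpecResidueField (F (closedPoint K)))) := inferInstance
  exact @DimFib.topologicalKrullDim_baseChange_eq (S.residueField (F (closedPoint K)))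
    (CommRingCat.of K) (Field.toIsField _) (Field.toIsField _) _ _
    (pullback.snd f (S.fromSpecResidueField (F (closedPoint K)))) h0 b _ _ sq3

end K216.DimPt
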