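import Groth.Agent.Sga3B.RG.SimpleSub
import Groth.Agent.Sga3B.RG.UnipRep
import Groth.Agent.Sga3B.RG.RedExt885
import Groth.Agent.Sga3B.RG.SsCrit989
import Groth.Agent.RedSub.H653.SolvRed

/-!
# Normal subgroups of reductive and semisimple groups, in terms of points

`K` algebraically closed, `A` a finitely generated reduced commutative Hopf algebra, `H` a closed connected normal
subgroup of `Pt K A`.

* `isRedPt_of_normal`: if `Pt K A` is reductive then so is `H`;
* `eq_bot_of_comm`: a closed connected commutative normal subgroup of a semisimple group is trivial;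
* `finite_center_of_normal`, `eq_bot_of_torus`: the centre of `H` is finite and `H` has no nontrivial normal tori if
  `Pt K A` is semisimple.
-/

set_option autoImplicit false
universe u

open WithConv TensorProduct Coalgebra

namespace K216.NormalPts

open Groth.Agent.Sga3B.RG
open K8 (simpleKer isUnip_of_mem_simpleKer isCl_simpleKer)
open BcPt (finite_of_normal_unip)

variable {K : Type u} [Field K] [IsAlgClosed K] {A : Type u} [CommRing A] [HopfAlgebra K A]
  [Algebra.FiniteType K A]

omit [Algebra.FiniteType K A] in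
lemma le_simpleKer {N : Subgroup (Pt K A)} (hN : N.Normal) (hu : ∀ g ∈ N, IsUnip g) :
    N ≤ simpleKer K A := by
  intro g hg V _ _ _ ρ hρ hs
  ext v
  exact act_trivially_of_isSimpleRep hρ hs hN hu g hg v

section normal

variable {H : Subgroup (Pt K A)} (hcl : IsCl (H : Set (Pt K A))) (hn : H.Normal)

/-- the Hopf algebra of the closed subgroup -/
local notation "BH" => A ⧸ vanIdeal (H : Set (Pt K A))

include hcl hn in
omit [IsAlgClosed K] [Algebra.FiniteType K A] in
lemma normal_map {N : Subgroup (Pt K (A ⧸ vanIdeal (H : Set (Pt K A))))}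
    (hN : ∀ P : Subgroup (Pt K (A ⧸ vanIdeal (H : Set (Pt K A)))), P.Normal →
      (∃ (g : Pt K A), ∀ x ∈ P, ∃ y ∈ N, g⁻¹ * quotMap (vanIdeal (H : Set (Pt K A))) x * g =
        quotMap (vanIdeal (H : Set (Pt K A))) y) → P ≤ N) (hNn : N.Normal) :
    (N.map (quotMap (vanIdeal (H : Set (Pt K A))))).Normal := by
  set q := quotMap (K := K) (vanIdeal (H : Set (Pt K A))) with hq
  have hinj : Function.Injective q := quotMap_injective _
  have hr : q.range = H := range_quotMap_vanIdeal H hcl
  have hmem : ∀ (g : Pt K A) (x : Pt K (A ⧸ vanIdeal (H : Set (Pt K A)))), ∃ y, g * q x * g⁻¹ = q y := by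
    intro g x
    have h1 : q x ∈ H := hr.le ⟨x, rfl⟩
    have h2 := hr.ge (hn.conj_mem _ h1 g)
    obtain ⟨y, hy⟩ := h2
    exact ⟨y, hy.symm⟩
  refine ⟨?_⟩
  rintro _ ⟨n, hnN, rfl⟩ g
  -- the subgroup of the elements which become elements of `N` under conjugation by `g⁻¹`
  let P : Subgroup (Pt K (A ⧸ vanIdeal (H : Set (Pt K A)))) :=
    ((N.map q).comap (MulAut.conj g⁻¹).toMonoidHom).comap q
  have hP : ∀ x, x ∈ P ↔ ∃ y ∈ N, g⁻¹ * q x * g = q y := by
    intro x
    change (g⁻¹ * q x * (g⁻¹)⁻¹) ∈ N.map q ↔ _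
    rw [inv_inv]
    constructor
    · rintro ⟨y, hy, h⟩
      exact ⟨y, hy, h.symm⟩
    · rintro ⟨y, hy, h⟩
      exact ⟨y, hy, h.symm⟩
  have hPn : P.Normal := by
    refine ⟨fun x hx y => ?_⟩
    rw [hP] at hx ⊢
    obtain ⟨z, hz, hxz⟩ := hx
    obtain ⟨y', hy'⟩ := hmem g⁻¹ y
    rw [inv_inv] at hy'
    refine ⟨y' * z * y'⁻¹, hNn.conj_mem z hz y', ?_⟩
    rw [map_mul, map_mul, map_inv, map_mul, map_mul, map_inv, ← hxz, ← hy']
    group
  have hle := hN P hPn ⟨g, fun x hx => (hP x).1 hx⟩
  obtain ⟨x, hx⟩ := hmem g n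
  refine ⟨x, hle ((hP x).2 ⟨n, hnN, ?_⟩), hx.symm⟩
  rw [← hx]
  group

/-- Closed connected normal subgroups of reductive groups are reductive. -/
theorem isRedPt_of_normal [IsReduced A] (hred : IsRedPt K A) (hcl : IsCl (H : Set (Pt K A))) (hn : H.Normal) :
    IsRedPt K (A ⧸ vanIdeal (H : Set (Pt K A))) := by
  set q := quotMap (K := K) (vanIdeal (H : Set (Pt K A))) with hq
  have hsurj : Function.Surjective (Bialgebra.Quotient.mkBialgHom (R := K) (vanIdeal (H : Set (Pt K A)))) :=
    Ideal.Quotient.mk_surjective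
  have hinj : Function.Injective q := quotMap_injective _
  have hN' : ((simpleKer K (A ⧸ vanIdeal (H : Set (Pt K A)))).map q).Normal := by
    refine normal_map hcl hn ?_ inferInstance
    rintro P hP ⟨g, hg⟩
    refine le_simpleKer hP fun x hx => ?_
    obtain ⟨y, hy, hxy⟩ := hg x hx
    have h1 : IsUnip (q y) := (isUnip_map_iff hsurj).2 (isUnip_of_mem_simpleKer hy)
    have h2 : q x = g * q y * g⁻¹ := by
      have h3 : g⁻¹ * q x * g = q y := hxy
      rw [← h3]
      group
    have h3 : IsUnip (q x) := by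
      rw [h2]
      exact h1.conj g
    exact (isUnip_map_iff hsurj).1 h3
  have hfin := finite_of_normal_unip hred hN' (by
      rw [Subgroup.coe_map]
      exact IsCl.image_map hsurj isCl_simpleKer) (by
      rintro _ ⟨y, hy, rfl⟩
      exact (isUnip_map_iff hsurj).2 (isUnip_of_mem_simpleKer hy))
  intro U hU _ hconn hu
  refine SsCrit989.eq_bot_of_finite hconn ?_
  have h1 : U ≤ simpleKer K (A ⧸ vanIdeal (H : Set (Pt K A))) := le_simpleKer hU hu
  rw [Subgroup.coe_map] at hfin
  exact (hfin.of_finite_image hinj.injOn).subset h1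

end normal

section semisimple

variable [IsDomain A] (hred : IsRedPt K A)
  (htor : ∀ T : Subgroup (Pt K A), T.Normal → IsTorusSub T → T = ⊥)

include hred htor in
/-- A closed connected commutative normal subgroup of a semisimple group is trivial. -/
theorem eq_bot_of_comm {D : Subgroup (Pt K A)} (hcl : IsCl (D : Set (Pt K A))) (hn : D.Normal)
    (hconn : IsConn (D : Set (Pt K A))) (hcomm : ∀ x ∈ D, ∀ y ∈ D, x * y = y * x) : D = ⊥ := by
  have h1 := isRedPt_of_normal hred hcl hn
  have hdom : IsDomain (A ⧸ vanIdeal (D : Set (Pt K A))) := by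
    have : (vanIdeal (D : Set (Pt K A))).IsPrime := hconn
    infer_instance
  have hsurj : Function.Surjective (Bialgebra.Quotient.mkBialgHom (R := K) (vanIdeal (D : Set (Pt K A)))) :=
    Ideal.Quotient.mk_surjective
  have hr : (quotMap (K := K) (vanIdeal (D : Set (Pt K A)))).range = D := range_quotMap_vanIdeal D hcl
  have hsolv : Group.IsSolvable (Pt K (A ⧸ vanIdeal (D : Set (Pt K A)))) := by
    refine Group.isSolvable_of_comm fun x y => ?_
    apply quotMap_injective (K := K) (vanIdeal (D : Set (Pt K A)))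
    rw [map_mul, map_mul]
    refine hcomm _ ?_ _ ?_
    · exact hr.le ⟨x, rfl⟩
    · exact hr.le ⟨y, rfl⟩
  have h2 := Groth.Agent.RedSub.H653.SolvRed.isMaxTorusSub_top h1 hsolv
  have h3 : IsTorusSub ((⊤ : Subgroup (Pt K (A ⧸ vanIdeal (D : Set (Pt K A))))).map
      (quotMap (vanIdeal (D : Set (Pt K A))))) := (isTorusSub_map_iff hsurj).2 h2.1
  rw [← MonoidHom.range_eq_map] at h3
  exact htor D hn (hr ▸ h3)

variable {H : Subgroup (Pt K A)} (hcl : IsCl (H : Set (Pt K A))) (hn : H.Normal)

include hred htor hcl hn in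
/-- The centre of a closed normal subgroup of a semisimple group is finite. -/
theorem idComp_center_eq_bot :
    idComp (Subgroup.centralizer (H : Set (Pt K A)) ⊓ H) = ⊥ := by
  have hZcl : IsCl ((Subgroup.centralizer (H : Set (Pt K A)) ⊓ H : Subgroup (Pt K A)) : Set (Pt K A)) :=
    (isCl_centralizer _).inter hcl
  have hZn : (Subgroup.centralizer (H : Set (Pt K A)) ⊓ H).Normal := by
    refine ⟨fun z hz g => ⟨?_, hn.conj_mem z hz.2 g⟩⟩
    have hz1 := Subgroup.mem_centralizer_iff.1 hz.1
    refine Subgroup.mem_centralizer_iff.2 fun h hh => ?_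
    have h1 := hz1 (g⁻¹ * h * g) (by simpa using hn.conj_mem h hh g⁻¹)
    have h2 : g * (g⁻¹ * h * g * z) * g⁻¹ = g * (z * (g⁻¹ * h * g)) * g⁻¹ := by rw [h1]
    calc h * (g * z * g⁻¹) = g * (g⁻¹ * h * g * z) * g⁻¹ := by group
      _ = g * (z * (g⁻¹ * h * g)) * g⁻¹ := h2
      _ = g * z * g⁻¹ * h := by group
  refine eq_bot_of_comm hred htor (isCl_idComp _) (normal_idComp hZcl hZn) (isConn_idComp _) ?_
  intro x hx y hy
  have hx' := idComp_le hZcl hx
  have hy' := idComp_le hZcl hy
  exact (Subgroup.mem_centralizer_iff.1 hx'.1 y hy'.2).symm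

include hred htor hcl hn in
/-- The centre of a closed normal subgroup of a semisimple group is finite. -/
theorem finite_center : ((Subgroup.centralizer (H : Set (Pt K A)) ⊓ H : Subgroup (Pt K A)) : Set (Pt K A)).Finite :=
  (SsCrit989.finite_iff_idComp ((isCl_centralizer _).inter hcl)).2 (idComp_center_eq_bot hred htor hcl hn)

include hred htor hcl hn in
/-- A closed connected normal subgroup of a semisimple group has no nontrivial normal torus. -/
theorem eq_bot_of_torus (hconn : IsConn (H : Set (Pt K A)))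
    {T : Subgroup (Pt K (A ⧸ vanIdeal (H : Set (Pt K A))))} (hTn : T.Normal) (hT : IsTorusSub T) : T = ⊥ := by
  have hdom : IsDomain (A ⧸ vanIdeal (H : Set (Pt K A))) := by
    have : (vanIdeal (H : Set (Pt K A))).IsPrime := hconn
    infer_instance
  have hsurj : Function.Surjective (Bialgebra.Quotient.mkBialgHom (R := K) (vanIdeal (H : Set (Pt K A)))) :=
    Ideal.Quotient.mk_surjective
  set q := quotMap (K := K) (vanIdeal (H : Set (Pt K A))) with hq
  have hinj : Function.Injective q := quotMap_injective _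
  have hr : q.range = H := range_quotMap_vanIdeal H hcl
  have hc := Rigid.le_center_of_normal hT hTn isConn_univ
  have h1 : T.map q ≤ Subgroup.centralizer (H : Set (Pt K A)) ⊓ H := by
    rintro _ ⟨t, ht, rfl⟩
    refine ⟨Subgroup.mem_centralizer_iff.2 fun h hh => ?_, hr.le ⟨t, rfl⟩⟩
    obtain ⟨y, rfl⟩ := hr.ge hh
    rw [← map_mul, ← map_mul, (Subgroup.mem_center_iff.1 (hc ht)) y]
  have h2 : T.map q = ⊥ := by
    refine le_bot_iff.1 ?_
    rw [← idComp_center_eq_bot hred htor hcl hn]
    exact le_idComp (((isTorusSub_map_iff hsurj).2 hT).isConn) h1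
  rwa [Subgroup.map_eq_bot_iff_of_injective _ hinj] at h2

end semisimple

end K216.NormalPts
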