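import Groth.Agent.Sga3B.IsomLocal2
import Groth.Agent.Sga3B.IsomHb885
import Groth.Agent.Sga3B.ChartGood
import Groth.Agent.Sga3B.IsomHe832
import Groth.Agent.Sga3B.IsomHdPin848
import Groth.Agent.Sga3B.PinModelOf
import Groth.Agent.Sga3B.IsomHa505
import Groth.Agent.Sga3B.RepDescent8
import Groth.Agent.Sga3B.SplitBc264
import Groth.Agent.Sga3B.SplitFin885
import Groth.Prelude.Def_RedSub

/-!
# The locus where a family of automorphisms of a reductive group is inner

`G` a group scheme over `S`, `φ : G ⊗ X ⟶ G` a family of automorphisms parametrised by `X`.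
`Rel F φ x`: near the point `x` of `X`, locally for the fppf topology, `φ` is the composition of the
automorphism `F` of `G` and of an inner automorphism.

* `isClopen_inn`: if `G` is étale locally pinned, then the locus where `φ` is inner is open and closed.
* `inn_pull_iff`: compatibility with base change of the parameter scheme.
-/

set_option autoImplicit false
open CategoryTheory MonoidalCategory CartesianMonoidalCategory MonObj GrpObj AlgebraicGeometry Limits
universe u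

namespace K216.Inner

open Groth.Agent.Sga3B Groth.Agent.Sga3B.BcPts Groth.Agent.Sga3B.IsomDefs Groth.Agent.Sga3B.IsomLocal
open Groth.Agent.Sga3B.IsoFam Groth.Agent.Sga3B.RepDescent

variable {S : Scheme.{u}} {G : Over S} [GrpObj G]

/-- Near `x`, fppf locally, the family `φ` is `F` up to an inner automorphism. -/
def Rel (F : G ⟶ G) {X : Over S} (φ : G ⊗ X ⟶ G) (x : X.left) : Prop :=
  ∃ (V : Over S) (v : V ⟶ X) (_ : Flat v.left) (_ : LocallyOfFinitePresentation v.left)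
    (_ : x ∈ Set.range v.left) (g : V ⟶ G), ∀ (X' : Over S) (x' : X' ⟶ V) (y : X' ⟶ G),
      lift y (x' ≫ v) ≫ φ = (x' ≫ g) * (y ≫ F) * (x' ≫ g)⁻¹

/-- Fibre products in `Over S`: given `v : V ⟶ X` and `w : W ⟶ X` there is `P` over both. -/
lemma exists_prod {X V W : Over S} (v : V ⟶ X) (w : W ⟶ X) :
    ∃ (P : Over S) (p : P ⟶ V) (q : P ⟶ W), p ≫ v = q ≫ w ∧ IsPullback p.left q.left v.left w.left := by
  refine ⟨Over.mk (pullback.fst v.left w.left ≫ V.hom), Over.homMk (pullback.fst v.left w.left),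
    Over.homMk (pullback.snd v.left w.left) ?_, ?_, ?_⟩
  · have h := congrArg (· ≫ X.hom) (pullback.condition (f := v.left) (g := w.left))
    simp only [Category.assoc, Over.w] at h
    exact h.symm
  · ext1
    exact pullback.condition
  · exact IsPullback.of_hasPullback _ _

lemma exists_mem_prod {P V W X : Scheme.{u}} {p : P ⟶ V} {q : P ⟶ W} {v : V ⟶ X} {w : W ⟶ X}
    (h : IsPullback p q v w) (a : V) (b : W) (hab : v a = w b) : ∃ c : P, p c = a ∧ q c = b := by
  obtain ⟨c, hc1, hc2⟩ := Scheme.Pullback.exists_preimage_pullback a b hab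
  refine ⟨h.isoPullback.inv c, ?_, ?_⟩
  · rw [← Scheme.Hom.comp_apply, h.isoPullback_inv_fst, hc1]
  · rw [← Scheme.Hom.comp_apply, h.isoPullback_inv_snd, hc2]

omit [GrpObj G] in
lemma pull_lift {X X' Y : Over S} (a : X' ⟶ X) (φ : G ⊗ X ⟶ G) (y : Y ⟶ G) (x : Y ⟶ X') :
    lift y x ≫ (G ◁ a) ≫ φ = lift y (x ≫ a) ≫ φ := by
  rw [← Category.assoc, lift_whiskerLeft]

/-- base change of the parameter scheme -/
lemma Rel.pull {F : G ⟶ G} {X X' : Over S} {φ : G ⊗ X ⟶ G} (a : X' ⟶ X) (x' : X'.left)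
    (h : Rel F φ (a.left x')) : Rel F ((G ◁ a) ≫ φ) x' := by
  obtain ⟨V, v, hv1, hv2, ⟨y, hy⟩, g, hg⟩ := h
  obtain ⟨P, p, q, hpq, hP⟩ := exists_prod v a
  obtain ⟨c, -, hc⟩ := exists_mem_prod hP y x' hy
  refine ⟨P, q, MorphismProperty.of_isPullback hP hv1, MorphismProperty.of_isPullback hP hv2, ⟨c, hc⟩,
    p ≫ g, fun Z z y => ?_⟩
  rw [pull_lift, Category.assoc, ← hpq, ← Category.assoc, hg, Category.assoc]

/-- openness -/
lemma Rel.exists_nhd {F : G ⟶ G} {X : Over S} {φ : G ⊗ X ⟶ G} {x : X.left} (h : Rel F φ x) :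
    ∃ N : Set X.left, IsOpen N ∧ x ∈ N ∧ ∀ x' ∈ N, Rel F φ x' := by
  obtain ⟨V, v, hv1, hv2, hx, g, hg⟩ := h
  exact ⟨Set.range v.left, v.left.isOpenMap.isOpen_range, hx, fun x' hx' => ⟨V, v, hv1, hv2, hx', g, hg⟩⟩

section pinned

variable (D : Red.Pinning G)

/-- the identity -/
noncomputable def idEquiv : BaseEquiv D D := ⟨RootPairing.Equiv.id D.P, fun _ => Iff.rfl⟩

lemma feProp_refl : FeProp D D (idEquiv D) (Iso.refl (Grp.mk G)) := by
  refine ⟨fun X t => ?_, fun a' _ => ?_⟩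
  · change IsomCore.dT D.toSplitRed t ≫ 𝟙 G = _
    rw [Category.comp_id]
    congr 1
    have : (idEquiv D).1.weightMap.toAddMonoidHom = AddMonoidHom.id D.M := rfl
    rw [this, IsomCore.DSmap_id]
  · change D.u a' ≫ 𝟙 G = _
    rw [Category.comp_id]

lemma exists_f [Nonempty S] : ∃ f : BaseEquiv D D → (Grp.mk G ≅ Grp.mk G), (∀ e, FeProp D D e (f e)) ∧
    f (idEquiv D) = Iso.refl _ := by
  classical
  choose f hf using IsomLocal2.exists_fe D D
  refine ⟨fun e => if h : e = idEquiv D then Iso.refl _ else f e, fun e => ?_, by simp⟩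
  by_cases h : e = idEquiv D
  · subst h
    simpa using feProp_refl D
  · simpa [h] using hf e

variable {D}

lemma exists_rel [Nonempty S] {f : BaseEquiv D D → (Grp.mk G ≅ Grp.mk G)} (hf : ∀ e, FeProp D D e (f e))
    {X : Over S} {φ : G ⊗ X ⟶ G} (hφ : AutFam.IsIsoFamily G G φ) (x : X.left) :
    ∃ e, Rel (f e).hom.hom.hom φ x := by
  obtain ⟨V, v, h1, h2, h3, e, g, h4⟩ := h1_of D D
    (IsomHa505.haStmt D.toSplitRed D.toSplitRed)
    (ChartFam.hbStmt D.toSplitRed D.toSplitRed) (IsomHd848.hdStmt D D)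
    (IsomHe832.heStmt_of_models D (fun R _ s => PinModelOf.nonempty_pinModel D R s))
    f hf X φ hφ x
  exact ⟨e, V, v, h1, h2, h3, g, h4⟩

lemma rel_unique {f : BaseEquiv D D → (Grp.mk G ≅ Grp.mk G)} (hf : ∀ e, FeProp D D e (f e))
    {X : Over S} {φ : G ⊗ X ⟶ G} {x : X.left} {e e' : BaseEquiv D D}
    (h : Rel (f e).hom.hom.hom φ x) (h' : Rel (f e').hom.hom.hom φ x) : e = e' := by
  obtain ⟨V, v, _, _, ⟨a, ha⟩, g, hg⟩ := h
  obtain ⟨V', v', _, _, ⟨a', ha'⟩, g', hg'⟩ := h'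
  obtain ⟨P, p, q, hpq, hP⟩ := exists_prod v v'
  obtain ⟨c, -, -⟩ := exists_mem_prod hP a a' (ha.trans ha'.symm)
  refine h0_of D D (SplitCmp588.h0Stmt D.toSplitRed) f hf e e' P ⟨c⟩ ((q ≫ g')⁻¹ * (p ≫ g)) ?_
  intro X' x y
  have h1 := hg X' (x ≫ p) y
  have h2 := hg' X' (x ≫ q) y
  rw [Category.assoc, hpq, ← Category.assoc, h2] at h1
  rw [MonObj.comp_mul, GrpObj.comp_inv]
  simp only [Category.assoc] at h1
  calc (x ≫ q ≫ g')⁻¹ * (x ≫ p ≫ g) * (y ≫ (f e).hom.hom.hom) * ((x ≫ q ≫ g')⁻¹ * (x ≫ p ≫ g))⁻¹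
      = (x ≫ q ≫ g')⁻¹ * ((x ≫ p ≫ g) * (y ≫ (f e).hom.hom.hom) * (x ≫ p ≫ g)⁻¹) * (x ≫ q ≫ g') := by
        group
    _ = y ≫ (f e').hom.hom.hom := by rw [← h1]; group

/-- Over a pinned base the locus where a family is inner is locally constant. -/
theorem exists_nhd_of_pinned [Nonempty S] (D : Red.Pinning G) {X : Over S} {φ : G ⊗ X ⟶ G}
    (hφ : AutFam.IsIsoFamily G G φ) (x : X.left) :
    ∃ N : Set X.left, IsOpen N ∧ x ∈ N ∧ ∀ x' ∈ N, (Rel (𝟙 G) φ x' ↔ Rel (𝟙 G) φ x) := by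
  obtain ⟨f, hf, hf1⟩ := exists_f D
  have h1 : (f (idEquiv D)).hom.hom.hom = 𝟙 G := by rw [hf1]; rfl
  obtain ⟨e, he⟩ := exists_rel hf hφ x
  obtain ⟨N, hN, hxN, hN'⟩ := he.exists_nhd
  refine ⟨N, hN, hxN, fun x' hx' => ?_⟩
  rw [← h1]
  constructor
  · intro h
    rw [rel_unique hf h (hN' x' hx')]
    exact he
  · intro h
    rw [rel_unique hf h he]
    exact hN' x' hx'

theorem rel_pull_iff_of_pinned [Nonempty S] (D : Red.Pinning G) {X X' : Over S} {φ : G ⊗ X ⟶ G}
    (hφ : AutFam.IsIsoFamily G G φ) (a : X' ⟶ X) (x' : X'.left) :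
    Rel (𝟙 G) ((G ◁ a) ≫ φ) x' ↔ Rel (𝟙 G) φ (a.left x') := by
  refine ⟨fun h => ?_, fun h => h.pull a x'⟩
  obtain ⟨f, hf, hf1⟩ := exists_f D
  have h1 : (f (idEquiv D)).hom.hom.hom = 𝟙 G := by rw [hf1]; rfl
  obtain ⟨e, he⟩ := exists_rel hf hφ (a.left x')
  rw [← h1] at h ⊢
  rw [rel_unique hf h (he.pull a x')]
  exact he

end pinned

section descent

variable {U : Scheme.{u}} (v : U ⟶ S)

/-- The projection of the base change, over `S`. -/
noncomputable def pr (X : Over S) : (Over.map v).obj (Red.bc v X) ⟶ X :=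
  (bcEquiv v _ X).symm (𝟙 _)

lemma pr_left (X : Over S) : (pr v X).left = pullback.fst X.hom v := by
  simp [pr, bcEquiv, Adjunction.homEquiv_counit]

lemma pr_naturality {X Y : Over S} (a : X ⟶ Y) :
    (Over.map v).map ((Over.pullback v).map a) ≫ pr v Y = pr v X ≫ a := by
  rw [pr, ← comp_bcEquiv_symm, Category.comp_id, pr, ← bcEquiv_symm_comp, Category.id_comp]

/-- The family over `U` deduced from a family over `S`. -/
noncomputable def down {X : Over S} (φ : G ⊗ X ⟶ G) : Red.bc v G ⊗ Red.bc v X ⟶ Red.bc v G :=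
  toV v ((G ◁ pr v X) ≫ φ)

omit [GrpObj G] in
lemma lift_down {X : Over S} (φ : G ⊗ X ⟶ G) {Y : Over U} (y : Y ⟶ Red.bc v G) (x : Y ⟶ Red.bc v X) :
    lift y x ≫ down v φ = bcEquiv v Y G (lift ((bcEquiv v Y G).symm y) ((bcEquiv v Y X).symm x) ≫ φ) := by
  rw [down, lift_toV, pull_lift, pr, ← comp_bcEquiv_symm, Category.comp_id]

lemma isIsoFamily_down {X : Over S} {φ : G ⊗ X ⟶ G} (h : AutFam.IsIsoFamily G G φ) :
    AutFam.IsIsoFamily (Red.bc v G) (Red.bc v G) (down v φ) :=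
  isIsoFamily_toV v (isIsoFamily_pull h (pr v X))

lemma down_pull {X X' : Over S} (a : X' ⟶ X) (φ : G ⊗ X ⟶ G) :
    down v ((G ◁ a) ≫ φ) = (Red.bc v G ◁ (Over.pullback v).map a) ≫ down v φ := by
  apply fam_ext
  intro Y x y
  rw [lift_down, pull_lift, pull_lift, lift_down]
  congr 3
  exact (bcEquiv_symm_comp v x a).symm

/-- inner at a point over `S` implies inner over `U` -/
lemma rel_down {X : Over S} {φ : G ⊗ X ⟶ G} {x : X.left} (h : Rel (𝟙 G) φ x) (x' : (Red.bc v X).left)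
    (hx' : (pr v X).left x' = x) : Rel (𝟙 (Red.bc v G)) (down v φ) x' := by
  obtain ⟨V, w, hw1, hw2, ⟨a, ha⟩, g, hg⟩ := h
  have hP : IsPullback (pullback.fst V.hom v) ((Over.pullback v).map w).left w.left (pullback.fst X.hom v) :=
    SplitBc264.isPullback_map_left v w
  rw [pr_left] at hx'
  obtain ⟨c, -, hc⟩ := exists_mem_prod hP a x' (ha.trans hx'.symm)
  refine ⟨Red.bc v V, (Over.pullback v).map w, MorphismProperty.of_isPullback hP hw1,
    MorphismProperty.of_isPullback hP hw2, ⟨c, hc⟩, (Over.pullback v).map g, fun Y y z => ?_⟩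
  rw [lift_down, bcEquiv_symm_comp, hg]
  rw [show ((bcEquiv v Y V).symm y ≫ g) * ((bcEquiv v Y G).symm z ≫ 𝟙 G) * ((bcEquiv v Y V).symm y ≫ g)⁻¹ =
    (bcMulEquiv v Y G).symm ((y ≫ (Over.pullback v).map g) * z * (y ≫ (Over.pullback v).map g)⁻¹) from ?_]
  · rw [Category.comp_id]
    exact (bcMulEquiv v Y G).apply_symm_apply _
  · rw [map_mul, map_mul, map_inv, Category.comp_id]
    have : (bcMulEquiv v Y G).symm (y ≫ (Over.pullback v).map g) = (bcEquiv v Y V).symm y ≫ g :=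
      bcEquiv_symm_comp v y g
    rw [this]
    rfl

/-- inner over `U` implies inner over `S` -/
lemma rel_up [Flat v] [LocallyOfFinitePresentation v] {X : Over S} {φ : G ⊗ X ⟶ G} {x' : (Red.bc v X).left}
    (h : Rel (𝟙 (Red.bc v G)) (down v φ) x') : Rel (𝟙 G) φ ((pr v X).left x') := by
  obtain ⟨V, w, hw1, hw2, ⟨a, ha⟩, g, hg⟩ := h
  have h1 : Flat (pr v X).left := by rw [pr_left]; infer_instance
  have h2 : LocallyOfFinitePresentation (pr v X).left := by rw [pr_left]; infer_instance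
  have e1 : ((Over.map v).map w ≫ pr v X).left = w.left ≫ (pr v X).left := rfl
  refine ⟨(Over.map v).obj V, (Over.map v).map w ≫ pr v X, ?_, ?_, ⟨a, ?_⟩, (bcEquiv v V G).symm g,
    fun Z z y => ?_⟩
  · rw [e1]; infer_instance
  · rw [e1]; infer_instance
  · rw [e1, Scheme.Hom.comp_apply, ha]
  · have e2 := hg (dn v z) (dnHom v z) (bcEquiv v (dn v z) G ((dnIso v z).hom ≫ y))
    rw [lift_down, Equiv.symm_apply_apply] at e2
    have e3 := congrArg (fun t => (dnIso v z).inv ≫ (bcEquiv v (dn v z) G).symm t) e2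
    simp only [Equiv.symm_apply_apply, comp_bcEquiv_symm] at e3
    have e4 : ∀ p q : dn v z ⟶ Red.bc v G, (dnIso v z).inv ≫ (bcEquiv v (dn v z) G).symm (p * q * p⁻¹) =
        ((dnIso v z).inv ≫ (bcEquiv v (dn v z) G).symm p) * ((dnIso v z).inv ≫ (bcEquiv v (dn v z) G).symm q) *
          ((dnIso v z).inv ≫ (bcEquiv v (dn v z) G).symm p)⁻¹ := by
      intro p q
      have : (bcEquiv v (dn v z) G).symm (p * q * p⁻¹) = (bcEquiv v (dn v z) G).symm p *
          (bcEquiv v (dn v z) G).symm q * ((bcEquiv v (dn v z) G).symm p)⁻¹ := by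
        change (bcMulEquiv v _ G).symm _ = (bcMulEquiv v _ G).symm _ * (bcMulEquiv v _ G).symm _ *
          ((bcMulEquiv v _ G).symm _)⁻¹
        rw [map_mul, map_mul, map_inv]
      rw [this, MonObj.comp_mul, MonObj.comp_mul, GrpObj.comp_inv]
    rw [e4, Category.comp_id, Equiv.symm_apply_apply, Iso.inv_hom_id_assoc, comp_bcEquiv_symm, ← Category.assoc _ _ ((bcEquiv v V G).symm g),
      dnIso_inv_comp] at e3
    have e5 : (z ≫ (Over.map v).map w) ≫ pr v X = z ≫ (bcEquiv v V X).symm w := by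
      rw [Category.assoc, pr, ← comp_bcEquiv_symm, Category.comp_id]
    rw [Category.comp_id, ← e3, ← Category.assoc _ (lift _ _) φ, comp_lift, Iso.inv_hom_id_assoc,
      ← Category.assoc (dnIso v z).inv, dnIso_inv_comp, ← e5, Category.assoc]

end descent

section locally_pinned

/-- étale locally on the base the group has a pinning -/
def LocPin (G : Over S) [GrpObj G] : Prop :=
  ∀ s : S, ∃ (U : Scheme.{u}) (v : U ⟶ S) (_ : Flat v) (_ : LocallyOfFinitePresentation v) (_ : s ∈ Set.range v),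
    Nonempty (Red.Pinning (Red.bc v G))

theorem locPin_of_isReductive (hG : Red.IsReductive G) : LocPin G := by
  intro s
  obtain ⟨B, v, hv, hs, h1, -⟩ := IsomPin848.exists_pinnings G G s (SplitFin885.splitNear G hG s)
    (SplitFin885.splitNear G hG s)
  exact ⟨Spec B, v, inferInstance, inferInstance, hs, h1⟩

lemma exists_point {U : Scheme.{u}} (v : U ⟶ S) (X : Over S) (x : X.left) (h : X.hom x ∈ Set.range v) :
    ∃ x' : (Red.bc v X).left, (pr v X).left x' = x := by
  obtain ⟨u, hu⟩ := h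
  obtain ⟨c, hc, -⟩ := Scheme.Pullback.exists_preimage_pullback (f := X.hom) (g := v) x u hu.symm
  exact ⟨c, by rw [pr_left]; exact hc⟩

theorem isOpen_rel (X : Over S) (φ : G ⊗ X ⟶ G) : IsOpen {x | Rel (𝟙 G) φ x} := by
  rw [isOpen_iff_forall_mem_open]
  intro x hx
  obtain ⟨N, hN, hx, h⟩ := Rel.exists_nhd hx
  exact ⟨N, h, hN, hx⟩

/-- The locus where a family of automorphisms is inner is open and closed. -/
theorem isClosed_rel (hG : LocPin G) {X : Over S} {φ : G ⊗ X ⟶ G} (hφ : AutFam.IsIsoFamily G G φ) :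
    IsClosed {x | Rel (𝟙 G) φ x} := by
  rw [← isOpen_compl_iff, isOpen_iff_forall_mem_open]
  intro x hx
  obtain ⟨U, v, h1, h2, h3, ⟨D⟩⟩ := hG (X.hom x)
  obtain ⟨x', hx'⟩ := exists_point v X x h3
  have : Nonempty U := ⟨(Red.bc v X).hom x'⟩
  obtain ⟨N, hN, hxN, h⟩ := exists_nhd_of_pinned D (isIsoFamily_down v hφ) x'
  have h4 : Flat (pr v X).left := by rw [pr_left]; infer_instance
  have h5 : LocallyOfFinitePresentation (pr v X).left := by rw [pr_left]; infer_instance
  refine ⟨(pr v X).left '' N, ?_, (pr v X).left.isOpenMap N hN, ⟨x', hxN, hx'⟩⟩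
  rintro _ ⟨y, hy, rfl⟩ hy'
  apply hx
  have h6 := (h y hy).mp (rel_down v hy' y rfl)
  have h7 := rel_up v h6
  rw [hx'] at h7
  exact h7

theorem rel_pull_iff (hG : LocPin G) {X X' : Over S} {φ : G ⊗ X ⟶ G}
    (hφ : AutFam.IsIsoFamily G G φ) (a : X' ⟶ X) (x : X'.left) :
    Rel (𝟙 G) ((G ◁ a) ≫ φ) x ↔ Rel (𝟙 G) φ (a.left x) := by
  refine ⟨fun h => ?_, fun h => h.pull a x⟩
  have e0 : X'.hom x = X.hom (a.left x) := by
    rw [← Scheme.Hom.comp_apply, Over.w]
  obtain ⟨U, v, h1, h2, h3, ⟨D⟩⟩ := hG (X'.hom x)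
  obtain ⟨x', hx'⟩ := exists_point v X' x h3
  have : Nonempty U := ⟨(Red.bc v X').hom x'⟩
  have h4 := rel_down v h x' hx'
  rw [down_pull, rel_pull_iff_of_pinned D (isIsoFamily_down v hφ)] at h4
  have h5 := rel_up v h4
  have h6 : (pr v X).left (((Over.pullback v).map a).left x') = a.left ((pr v X').left x') := by
    rw [← Scheme.Hom.comp_apply, ← Scheme.Hom.comp_apply]
    have := congrArg (·.left) (pr_naturality v a)
    exact congrArg (fun t => t x') this
  rw [h6, hx'] at h5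
  exact h5

/-- A family of automorphisms parametrised by a scheme with connected fibres, which is the identity along a
section, is inner. -/
theorem rel_of_section (hG : LocPin G) {X : Over S} (hX : RedSub.HasConnectedFibres X) {φ : G ⊗ X ⟶ G}
    (hφ : AutFam.IsIsoFamily G G φ) (e : 𝟙_ (Over S) ⟶ X) (he : (G ◁ e) ≫ φ = fst G _) (x : X.left) :
    Rel (𝟙 G) φ x := by
  set s : S := X.hom x with hs
  have hc := hX s
  let F : Set X.left := X.hom ⁻¹' {s}
  have hcl : IsClopen {x | Rel (𝟙 G) φ x} := ⟨isClosed_rel hG hφ, isOpen_rel X φ⟩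
  have h0 : Rel (𝟙 G) φ (e.left s) := by
    rw [← rel_pull_iff hG hφ e s, he]
    refine ⟨𝟙_ _, 𝟙 _, by rw [Over.id_left]; infer_instance, by rw [Over.id_left]; infer_instance, ⟨s, rfl⟩, 1,
      fun Z z y => ?_⟩
    rw [Category.comp_id, lift_fst, MonObj.comp_one, Category.comp_id]
    group
  have h1 : e.left s ∈ F := by
    have := Over.w e
    change X.hom (e.left s) = s
    rw [← Scheme.Hom.comp_apply, this]
    rfl
  have h2 := hc.isPreconnected.subset_isClopen hcl ⟨e.left s, h1, h0⟩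
  exact h2 rfl

end locally_pinned

section cover

/-- Glue the local conjugating elements on a disjoint union. -/
theorem exists_cover {F : G ⟶ G} {X : Over S} {φ : G ⊗ X ⟶ G} (h : ∀ x, Rel F φ x) :
    ∃ (W : Over S) (c : W ⟶ X) (g : W ⟶ G), Flat c.left ∧ Surjective c.left ∧
      LocallyOfFinitePresentation c.left ∧
      ∀ (Y : Over S) (x : Y ⟶ W) (y : Y ⟶ G), lift y (x ≫ c) ≫ φ = (x ≫ g) * (y ≫ F) * (x ≫ g)⁻¹ := by
  choose V v hv1 hv2 hv3 g hg using h
  let f : X.left → Scheme.{u} := fun x => (V x).left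
  let W : Over S := Over.mk (Sigma.desc (fun x => (V x).hom) : (∐ f) ⟶ S)
  let inj (x : X.left) : V x ⟶ W := Over.homMk (Sigma.ι f x) (Sigma.ι_desc (fun x => (V x).hom) x)
  have hc : (Sigma.desc (fun x => (v x).left) : (∐ f) ⟶ X.left) ≫ X.hom = W.hom := by
    apply Limits.Sigma.hom_ext
    intro x
    rw [← Category.assoc, Sigma.ι_desc, Over.w]
    exact (Sigma.ι_desc (fun x => (V x).hom) x).symm
  have hg' : (Sigma.desc (fun x => (g x).left) : (∐ f) ⟶ G.left) ≫ G.hom = W.hom := by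
    apply Limits.Sigma.hom_ext
    intro x
    rw [← Category.assoc, Sigma.ι_desc, Over.w]
    exact (Sigma.ι_desc (fun x => (V x).hom) x).symm
  let c : W ⟶ X := Over.homMk (Sigma.desc (fun x => (v x).left)) hc
  let gg : W ⟶ G := Over.homMk (Sigma.desc (fun x => (g x).left)) hg'
  have e1 : ∀ x, inj x ≫ c = v x := by
    intro x
    ext1
    exact Sigma.ι_desc (fun x => (v x).left) x
  have e2 : ∀ x, inj x ≫ gg = g x := by
    intro x
    ext1
    exact Sigma.ι_desc (fun x => (g x).left) x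
  have hc1 : Flat c.left := inferInstanceAs (Flat (Sigma.desc (fun x => (v x).left)))
  have hc2 : LocallyOfFinitePresentation c.left := by
    have : IsZariskiLocalAtSource (@LocallyOfFinitePresentation.{u}) :=
      HasRingHomProperty.instIsZariskiLocalAtSource
    change LocallyOfFinitePresentation (Sigma.desc (fun x => (v x).left))
    exact IsZariskiLocalAtSource.sigmaDesc (P := @LocallyOfFinitePresentation) fun i => hv2 i
  refine ⟨W, c, gg, hc1, ⟨fun x => ?_⟩, hc2, fun Y x y => ?_⟩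
  · obtain ⟨a, ha⟩ := hv3 x
    refine ⟨(inj x).left a, ?_⟩
    rw [← Scheme.Hom.comp_apply, ← Over.comp_left, e1, ha]
  · ext1
    let 𝒰 := (sigmaOpenCover f).pullback₁ x.left
    refine Scheme.Cover.hom_ext 𝒰 _ _ fun (i : X.left) => ?_
    let Z : Over S := Over.mk (𝒰.f i ≫ Y.hom)
    let u : Z ⟶ Y := Over.homMk (𝒰.f i)
    have hw : pullback.snd x.left (Sigma.ι f i) ≫ (V i).hom = 𝒰.f i ≫ Y.hom := by
      have h1 : Sigma.ι f i ≫ W.hom = (V i).hom := Sigma.ι_desc (fun x => (V x).hom) i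
      rw [← h1, ← Category.assoc, ← pullback.condition, Category.assoc, Over.w]
      rfl
    let t : Z ⟶ V i := Over.homMk (pullback.snd x.left (Sigma.ι f i)) hw
    have e3 : u ≫ x = t ≫ inj i := by
      ext1
      exact pullback.condition
    have e4 := hg i Z t (u ≫ y)
    have e5 : u ≫ lift y (x ≫ c) ≫ φ = u ≫ ((x ≫ gg) * (y ≫ F) * (x ≫ gg)⁻¹) := by
      have e6 : u ≫ x ≫ c = t ≫ v i := by rw [← Category.assoc, e3, Category.assoc, e1]
      have e7 : u ≫ x ≫ gg = t ≫ g i := by rw [← Category.assoc, e3, Category.assoc, e2]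
      rw [← Category.assoc, comp_lift, MonObj.comp_mul, MonObj.comp_mul, GrpObj.comp_inv, e6, e7, e4, Category.assoc]
    exact congrArg (·.left) e5

end cover

end K216.Inner
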