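import Groth.Agent.Sga3C.QuotProps
import Groth.Agent.Sga3B.Parab.ConjLocal

/-!
# Covers for the fppf topology over a base: pullback, descent of morphisms and of factorisations
-/

set_option autoImplicit false
open CategoryTheory MonoidalCategory CartesianMonoidalCategory MonObj GrpObj AlgebraicGeometry Limits
universe u

namespace K216.Fppf

open Groth.Agent Groth.Agent.Sga3C

variable {S : Scheme.{u}}

/-- `c` is flat, surjective and locally of finite presentation. -/
structure Cov {X' X : Over S} (c : X' ⟶ X) : Prop where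
  flat : Flat c.left
  surj : Surjective c.left
  lfp : LocallyOfFinitePresentation c.left

lemma Cov.comp {X'' X' X : Over S} {c : X' ⟶ X} {d : X'' ⟶ X'} (hd : Cov d) (hc : Cov c) : Cov (d ≫ c) := by
  obtain ⟨h1, h2, h3⟩ := hc
  obtain ⟨h4, h5, h6⟩ := hd
  exact ⟨by rw [Over.comp_left]; infer_instance, by rw [Over.comp_left]; infer_instance,
    by rw [Over.comp_left]; infer_instance⟩

lemma Cov.id (X : Over S) : Cov (𝟙 X) :=
  ⟨by rw [Over.id_left]; infer_instance, by rw [Over.id_left]; infer_instance,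
    by rw [Over.id_left]; infer_instance⟩

/-- Fibre products in `Over S`: given `v : V ⟶ X` and `w : W ⟶ X` there is `P` over both. -/
lemma exists_prod {X V W : Over S} (v : V ⟶ X) (w : W ⟶ X) :
    ∃ (P : Over S) (p : P ⟶ V) (q : P ⟶ W), p ≫ v = q ≫ w ∧ IsPullback p.left q.left v.left w.left := by
  refine ⟨Over.mk (pullback.fst v.left w.left ≫ V.hom), Over.homMk (pullback.fst v.left w.left),
    Over.homMk (pullback.snd v.left w.left) ?_, ?_, ?_⟩
  · have h := congrArg (· ≫ X.hom) (pullback.condition (f := v.left) (g := w.left))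
    simp only [Category.assoc, Over.w] at h
    exact h.symm
  · ext1
    exact pullback.condition
  · exact IsPullback.of_hasPullback _ _

/-- Covers can be pulled back. -/
lemma Cov.exists_pull {X V W : Over S} {v : V ⟶ X} (hv : Cov v) (w : W ⟶ X) :
    ∃ (P : Over S) (p : P ⟶ V) (q : P ⟶ W), p ≫ v = q ≫ w ∧ Cov q := by
  obtain ⟨h1, h2, h3⟩ := hv
  obtain ⟨P, p, q, h, hP⟩ := exists_prod v w
  exact ⟨P, p, q, h, MorphismProperty.of_isPullback hP h1, MorphismProperty.of_isPullback hP h2,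
    MorphismProperty.of_isPullback hP h3⟩

lemma Cov.hom_ext {X' X Y : Over S} {c : X' ⟶ X} (hc : Cov c) {f g : X ⟶ Y} (h : c ≫ f = c ≫ g) : f = g := by
  obtain ⟨h1, h2, h3⟩ := hc
  have := QuotProps.epi_of_flat_surjective c
  exact (cancel_epi c).1 h

lemma Cov.factor {X' X N G : Over S} {c : X' ⟶ X} (hc : Cov c) (i : N ⟶ G) [Mono i] (x : X ⟶ G)
    (h : ∃ y, y ≫ i = c ≫ x) : ∃ y, y ≫ i = x := by
  obtain ⟨h1, h2, h3⟩ := hc
  exact Sga3B.Parab.ConjLocal.factors_of_flat i c x h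

lemma Cov.desc {X' X Y : Over S} {c : X' ⟶ X} (hc : Cov c) (f : X' ⟶ Y)
    (hf : ∀ (T : Over S) (x y : T ⟶ X'), x ≫ c = y ≫ c → x ≫ f = y ≫ f) : ∃ g : X ⟶ Y, c ≫ g = f := by
  obtain ⟨h1, h2, h3⟩ := hc
  exact QuotProps.exists_desc c f hf

/-- Two covers of the factors give a cover of the product (weak form sufficient for descent). -/
lemma Cov.exists_two {X Y V W : Over S} {v : V ⟶ X} (hv : Cov v) {w : W ⟶ Y} (hw : Cov w) :
    ∃ (P : Over S) (p : P ⟶ V) (q : P ⟶ W) (r : P ⟶ X ⊗ Y), Cov r ∧ p ≫ v = r ≫ fst X Y ∧ q ≫ w = r ≫ snd X Y := by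
  obtain ⟨P₁, p₁, q₁, h₁, hq₁⟩ := hv.exists_pull (fst X Y)
  obtain ⟨P₂, p₂, q₂, h₂, hq₂⟩ := hw.exists_pull (q₁ ≫ snd X Y)
  refine ⟨P₂, q₂ ≫ p₁, p₂, q₂ ≫ q₁, hq₂.comp hq₁, ?_, ?_⟩
  · rw [Category.assoc, h₁, Category.assoc]
  · rw [h₂, Category.assoc]

end K216.Fppf
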