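import Groth.Agent.S16637
import Groth.Agent.Red.K216.Fppf

/-!
# A reductive normal subgroup and its centralizer

`i : N ⟶ G` a reductive normal subgroup scheme of a group scheme `G` with connected fibres.

* `exists_decomp`: fppf-locally every point of `G` is the product of a point of `N` and a point commuting with `N`;
* `exists_gamma`: there is a morphism `γ : G ⊗ G ⟶ G` such that `γ(n₁ z₁, n₂ z₂) = [z₁, z₂]` whenever `n₁, n₂` are
  points of `N` and `z₁, z₂` commute with `N`.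
-/

set_option autoImplicit false
open CategoryTheory MonoidalCategory CartesianMonoidalCategory MonObj GrpObj AlgebraicGeometry Limits
universe u

namespace K216.Comm

open K216.Fppf

variable {S : Scheme.{u}} {N G : Over S} [GrpObj N] [GrpObj G]

/-- `z` commutes with all points of `N`. -/
def Com (i : N ⟶ G) {X : Over S} (z : X ⟶ G) : Prop :=
  ∀ (X' : Over S) (x : X' ⟶ X) (y : X' ⟶ N), (x ≫ z) * (y ≫ i) = (y ≫ i) * (x ≫ z)

omit [GrpObj N] in
lemma Com.comp {i : N ⟶ G} {X X' : Over S} {z : X ⟶ G} (h : Com i z) (x : X' ⟶ X) : Com i (x ≫ z) := by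
  intro Y y n
  have := h Y (y ≫ x) n
  rwa [Category.assoc] at this

omit [GrpObj N] in
lemma Com.mul {i : N ⟶ G} {X : Over S} {z w : X ⟶ G} (h : Com i z) (h' : Com i w) : Com i (z * w) := by
  intro Y y n
  rw [MonObj.comp_mul, _root_.mul_assoc, h' Y y n, ← _root_.mul_assoc, h Y y n, _root_.mul_assoc]

omit [GrpObj N] in
lemma Com.inv {i : N ⟶ G} {X : Over S} {z : X ⟶ G} (h : Com i z) : Com i z⁻¹ := by
  intro Y y n
  rw [GrpObj.comp_inv, inv_mul_eq_iff_eq_mul, ← _root_.mul_assoc, h Y y n, _root_.mul_assoc, mul_inv_cancel,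
    _root_.mul_one]

omit [GrpObj N] in
lemma Com.one (i : N ⟶ G) (X : Over S) : Com i (1 : X ⟶ G) := by
  intro Y y n
  rw [MonObj.comp_one, _root_.one_mul, _root_.mul_one]

omit [GrpObj N] in
lemma Com.self {i : N ⟶ G} {X : Over S} {z : X ⟶ G} (h : Com i z) (n : X ⟶ N) :
    z * (n ≫ i) = (n ≫ i) * z := by
  have := h X (𝟙 X) n
  rwa [Category.id_comp] at this

section gamma

variable (i : N ⟶ G) [IsMonHom i]

/-- The commutator of the centralizing parts does not depend on the decompositions. -/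
lemma comm_eq {X : Over S} {z₁ z₂ w₁ w₂ : X ⟶ G} (h₁ : Com i z₁) (h₂ : Com i z₂) (h₃ : Com i w₁) (_ : Com i w₂)
    {n₁ n₂ m₁ m₂ : X ⟶ N} (e₁ : (n₁ ≫ i) * z₁ = (m₁ ≫ i) * w₁) (e₂ : (n₂ ≫ i) * z₂ = (m₂ ≫ i) * w₂) :
    z₁ * z₂ * z₁⁻¹ * z₂⁻¹ = w₁ * w₂ * w₁⁻¹ * w₂⁻¹ := by
  -- `w = a z` with `a` in `N` commuting with `N`
  have f₁ : w₁ = ((m₁⁻¹ * n₁) ≫ i) * z₁ := by
    rw [MonObj.mul_comp, GrpObj.inv_comp, _root_.mul_assoc, e₁, inv_mul_cancel_left]
  have f₂ : w₂ = ((m₂⁻¹ * n₂) ≫ i) * z₂ := by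
    rw [MonObj.mul_comp, GrpObj.inv_comp, _root_.mul_assoc, e₂, inv_mul_cancel_left]
  set a : X ⟶ N := m₁⁻¹ * n₁ with ha
  set b : X ⟶ N := m₂⁻¹ * n₂ with hb
  have hca : Com i (a ≫ i) := by
    have : a ≫ i = w₁ * z₁⁻¹ := by rw [f₁, mul_inv_cancel_right]
    rw [this]
    exact h₃.mul h₁.inv
  have c1 := h₁.self a
  have c2 := h₂.self a
  have c3 := h₁.self b
  have c4 := h₂.self b
  have c5 := hca.self b
  rw [f₁, f₂]
  set A := a ≫ i
  set B := b ≫ i
  symm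
  have d1 : Commute A z₁ := c1.symm
  have d2 : Commute A z₂ := c2.symm
  have d3 : Commute B z₁ := c3.symm
  have d4 : Commute B z₂ := c4.symm
  have d5 : Commute A B := c5
  have k1 : (A * z₁) * (B * z₂) = (A * B) * (z₁ * z₂) := by
    rw [_root_.mul_assoc, ← _root_.mul_assoc z₁, ← d3.eq, _root_.mul_assoc, _root_.mul_assoc]
  have k2 : (B * z₂) * (A * z₁) = (A * B) * (z₂ * z₁) := by
    rw [_root_.mul_assoc, ← _root_.mul_assoc z₂, ← d2.eq, _root_.mul_assoc, ← _root_.mul_assoc B, ← d5.eq]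
  calc A * z₁ * (B * z₂) * (A * z₁)⁻¹ * (B * z₂)⁻¹ = ((A * z₁) * (B * z₂)) * ((B * z₂) * (A * z₁))⁻¹ := by
        simp only [_root_.mul_inv_rev, _root_.mul_assoc]
    _ = (A * B) * (z₁ * z₂) * ((A * B) * (z₂ * z₁))⁻¹ := by rw [k1, k2]
    _ = (A * B) * (z₁ * z₂ * z₁⁻¹ * z₂⁻¹) * (A * B)⁻¹ := by group
    _ = z₁ * z₂ * z₁⁻¹ * z₂⁻¹ := by
        have hz1 : Commute (A * B) z₁ := d1.mul_left d3
        have hz2 : Commute (A * B) z₂ := d2.mul_left d4
        have : Commute (A * B) (z₁ * z₂ * z₁⁻¹ * z₂⁻¹) :=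
          ((hz1.mul_right hz2).mul_right hz1.inv_right).mul_right hz2.inv_right
        rw [this.eq, mul_inv_cancel_right]

variable (hN : Red.IsReductive N) (hG : RedSub.HasConnectedFibres G) (hn : AlgGrp.IsNormalHom i) [Mono i]

include hN hG hn in
/-- fppf-locally every point of `G` is the product of a point of `N` and a point commuting with `N` -/
theorem exists_decomp : ∃ (W : Over S) (c : W ⟶ G) (n : W ⟶ N) (z : W ⟶ G),
    Cov c ∧ c = (n ≫ i) * z ∧ Com i z := by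
  obtain ⟨act, hact⟩ := hn (G ⊗ N) (fst G N) (snd G N)
  have hpt : ∀ (X : Over S) (g : X ⟶ G) (y : X ⟶ N), lift g y ≫ act ≫ i = g * (y ≫ i) * g⁻¹ := by
    intro X g y
    rw [← hact, MonObj.comp_mul, MonObj.comp_mul, GrpObj.comp_inv, lift_fst, ← Category.assoc, lift_snd]
  let a : AlgGrp.Action G N :=
    { act := act
      one_act := by
        rw [← cancel_mono i, Category.assoc]
        have h1 : η[G] ▷ N = lift (1 : _ ⟶ G) (snd _ _) := by
          apply CartesianMonoidalCategory.hom_ext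
          · rw [whiskerRight_fst, lift_fst, MonObj.one_eq_one, MonObj.comp_one]
          · rw [whiskerRight_snd, lift_snd]
        rw [h1, hpt, _root_.one_mul, inv_one, _root_.mul_one, leftUnitor_hom]
      mul_act := by
        rw [← cancel_mono i, Category.assoc, Category.assoc, Category.assoc]
        have h1 : μ[G] ▷ N = lift ((fst _ _ ≫ fst _ _) * (fst _ _ ≫ snd _ _)) (snd (G ⊗ G) N) := by
          apply CartesianMonoidalCategory.hom_ext
          · rw [whiskerRight_fst, lift_fst, ← MonObj.comp_mul]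
            congr 1
            rw [Hom.mul_def, lift_fst_snd, Category.id_comp]
          · rw [whiskerRight_snd, lift_snd]
        have h2 : (α_ G G N).hom = lift (fst _ _ ≫ fst _ _) (lift (fst _ _ ≫ snd _ _) (snd _ _)) := by
          apply CartesianMonoidalCategory.hom_ext
          · simp
          · apply CartesianMonoidalCategory.hom_ext <;> simp
        rw [h1, hpt, h2, ← Category.assoc (lift _ _) (G ◁ act), lift_whiskerLeft, hpt, Category.assoc, hpt]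
        group }
  have hmul : ∀ (X : Over S) (h : X ⟶ G) (g g' : X ⟶ N),
      lift h (g * g') ≫ a.act = (lift h g ≫ a.act) * (lift h g' ≫ a.act) := by
    intro X h g g'
    rw [← cancel_mono i, MonObj.mul_comp, Category.assoc, Category.assoc, Category.assoc]
    change lift h (g * g') ≫ act ≫ i = (lift h g ≫ act ≫ i) * (lift h g' ≫ act ≫ i)
    rw [hpt, hpt, hpt, MonObj.mul_comp]
    group
  obtain ⟨W, c, n, h1, h2, h3, h4⟩ := Groth.Agent.S16637.result hN hG a hmul G (𝟙 G)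
  refine ⟨W, c, n, (n ≫ i)⁻¹ * c, ⟨h1, h2, h3⟩, by rw [mul_inv_cancel_left], ?_⟩
  intro X x y
  have h5 := congrArg (· ≫ i) (h4 X x y)
  simp only [MonObj.mul_comp, GrpObj.inv_comp, Category.assoc, Category.comp_id] at h5
  have h6 : lift (x ≫ c) y ≫ a.act ≫ i = (x ≫ c) * (y ≫ i) * (x ≫ c)⁻¹ := hpt X _ _
  rw [h6] at h5
  rw [MonObj.comp_mul, GrpObj.comp_inv]
  have h7 : (x ≫ c) * (y ≫ i) = (x ≫ n ≫ i) * (y ≫ i) * (x ≫ n ≫ i)⁻¹ * (x ≫ c) := by
    rw [← h5]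
    group
  rw [_root_.mul_assoc, h7]
  group

include hN hG hn in
theorem exists_gamma : ∃ γ' : G ⊗ G ⟶ G, ∀ (X : Over S) (n₁ n₂ : X ⟶ N) (z₁ z₂ : X ⟶ G), Com i z₁ → Com i z₂ →
    lift ((n₁ ≫ i) * z₁) ((n₂ ≫ i) * z₂) ≫ γ' = z₁ * z₂ * z₁⁻¹ * z₂⁻¹ := by
  obtain ⟨W, c, n, z, hc, hcz, hz⟩ := exists_decomp i hN hG hn
  obtain ⟨P, p, q, r, hr, hp, hq⟩ := hc.exists_two hc
  obtain ⟨g, hg⟩ := hr.desc ((p ≫ z) * (q ≫ z) * (p ≫ z)⁻¹ * (q ≫ z)⁻¹) (by
    intro T x y hxy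
    rw [MonObj.comp_mul, MonObj.comp_mul, MonObj.comp_mul, GrpObj.comp_inv, GrpObj.comp_inv,
      MonObj.comp_mul, MonObj.comp_mul, MonObj.comp_mul, GrpObj.comp_inv, GrpObj.comp_inv]
    refine comm_eq i ((hz.comp p).comp x) ((hz.comp q).comp x) ((hz.comp p).comp y) ((hz.comp q).comp y)
      (n₁ := x ≫ p ≫ n) (n₂ := x ≫ q ≫ n) (m₁ := y ≫ p ≫ n) (m₂ := y ≫ q ≫ n) ?_ ?_
    · have h1 : ∀ t : T ⟶ P, ((t ≫ p ≫ n) ≫ i) * (t ≫ p ≫ z) = t ≫ r ≫ fst G G := by
        intro t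
        rw [← hp, hcz, MonObj.comp_mul, MonObj.comp_mul]
        simp only [Category.assoc]
      rw [h1, h1, ← Category.assoc, hxy, Category.assoc]
    · have h1 : ∀ t : T ⟶ P, ((t ≫ q ≫ n) ≫ i) * (t ≫ q ≫ z) = t ≫ r ≫ snd G G := by
        intro t
        rw [← hq, hcz, MonObj.comp_mul, MonObj.comp_mul]
        simp only [Category.assoc]
      rw [h1, h1, ← Category.assoc, hxy, Category.assoc])
  refine ⟨g, fun X n₁ n₂ z₁ z₂ hz₁ hz₂ => ?_⟩
  obtain ⟨V, v, w, hvw, hw⟩ := hr.exists_pull (lift ((n₁ ≫ i) * z₁) ((n₂ ≫ i) * z₂))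
  apply hw.hom_ext
  rw [← Category.assoc, ← hvw, Category.assoc, hg, MonObj.comp_mul, MonObj.comp_mul, MonObj.comp_mul,
    GrpObj.comp_inv, GrpObj.comp_inv, MonObj.comp_mul, MonObj.comp_mul, MonObj.comp_mul,
    GrpObj.comp_inv, GrpObj.comp_inv]
  refine comm_eq i ((hz.comp p).comp v) ((hz.comp q).comp v) (hz₁.comp w) (hz₂.comp w)
    (n₁ := v ≫ p ≫ n) (n₂ := v ≫ q ≫ n) (m₁ := w ≫ n₁) (m₂ := w ≫ n₂) ?_ ?_
  · have h1 : ((v ≫ p ≫ n) ≫ i) * (v ≫ p ≫ z) = v ≫ r ≫ fst G G := by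
      rw [← hp, hcz, MonObj.comp_mul, MonObj.comp_mul]
      simp only [Category.assoc]
    rw [h1, ← Category.assoc, hvw, Category.assoc, lift_fst, MonObj.comp_mul]
    simp only [Category.assoc]
  · have h1 : ((v ≫ q ≫ n) ≫ i) * (v ≫ q ≫ z) = v ≫ r ≫ snd G G := by
      rw [← hq, hcz, MonObj.comp_mul, MonObj.comp_mul]
      simp only [Category.assoc]
    rw [h1, ← Category.assoc, hvw, Category.assoc, lift_snd, MonObj.comp_mul]
    simp only [Category.assoc]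

end gamma

end K216.Comm
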