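import Mathlib.AlgebraicGeometry.AlgClosed.Basic
import Groth.Prelude.Def_Red
import Groth.Agent.Sga3B.BcPts

/-!
# Schemes of finite type over a field with finitely many geometric points are discrete
-/

set_option autoImplicit false
open CategoryTheory MonoidalCategory CartesianMonoidalCategory AlgebraicGeometry Limits
universe u

namespace K216.DiscPts

open Groth.Agent.Sga3B.BcPts

lemma closedPoints_eq_univ_of_finite {X : Type*} [TopologicalSpace X] [JacobsonSpace X]
    (h : (closedPoints X).Finite) : closedPoints X = Set.univ := by
  have h1 : IsClosed (closedPoints X) := by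
    have h2 : closedPoints X = ⋃ x ∈ closedPoints X, {x} := (Set.biUnion_of_singleton _).symm
    rw [h2]
    exact h.isClosed_biUnion fun x hx => hx
  rw [← closure_closedPoints (X := X), h1.closure_eq]

lemma finite_of_closedPoints {X : Type*} [TopologicalSpace X] [JacobsonSpace X]
    (h : (closedPoints X).Finite) : Finite X := by
  rw [closedPoints_eq_univ_of_finite h] at h
  exact Set.finite_univ_iff.1 h

lemma discrete_of_finite {X : Type*} [TopologicalSpace X] [JacobsonSpace X] [Finite X] : DiscreteTopology X := by
  have h1 := closedPoints_eq_univ_of_finite (X := X) (Set.toFinite _)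
  have : T1Space X := ⟨fun x => by
    have : x ∈ closedPoints X := by rw [h1]; trivial
    exact this⟩
  infer_instance

theorem discrete_of_points {k : Type u} [Field k] (Z : Over (Spec (CommRingCat.of k))) [LocallyOfFiniteType Z.hom]
    {Ω : Type u} [Field Ω] [IsAlgClosed Ω] (p : Spec (CommRingCat.of Ω) ⟶ Spec (CommRingCat.of k))
    (h : Finite (𝟙_ (Over (Spec (CommRingCat.of Ω))) ⟶ Red.bc p Z)) : DiscreteTopology Z.left := by
  have hlft : LocallyOfFiniteType (Red.bc p Z).hom := by
    change LocallyOfFiniteType (pullback.snd Z.hom p)
    infer_instance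
  have hJ : JacobsonSpace (Red.bc p Z).left := LocallyOfFiniteType.jacobsonSpace (Red.bc p Z).hom
  have hJ' : JacobsonSpace Z.left := LocallyOfFiniteType.jacobsonSpace Z.hom
  have h1 : (closedPoints (Red.bc p Z).left).Finite := by
    have h2 : Finite {q : Spec (.of Ω) ⟶ (Red.bc p Z).left // q ≫ (Red.bc p Z).hom = 𝟙 _} := by
      refine Finite.of_injective (β := 𝟙_ (Over (Spec (CommRingCat.of Ω))) ⟶ Red.bc p Z)
        (fun q => Over.homMk q.1 q.2) ?_
      intro q q' hq
      have := congrArg (fun t => t.left) hq
      exact Subtype.ext this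
    exact (pointEquivClosedPoint (Red.bc p Z).hom).finite_iff.1 h2
  have h3 : Finite (Red.bc p Z).left := finite_of_closedPoints h1
  have h4 : Surjective (pullback.fst Z.hom p) := inferInstance
  have h5 : Finite Z.left := @Finite.of_surjective _ _ h3 _ h4.surj
  exact discrete_of_finite

end K216.DiscPts
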