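import Groth.Agent.Red.K216.NormalPts
import Groth.Agent.Sga3B.RG.BrRed2
import Groth.Agent.Sga3B.RG.BrHc
import Groth.Agent.Sga3B.NormBc
import Groth.Agent.Sga3B.SplitBc264
import Groth.Agent.Sga3B.RadOpen.Main
import Groth.Prelude.Def_RedSub

/-!
# Normal smooth connected subgroups of semisimple groups, scheme form

* `isSemisimpleOver_of_normal`: over an algebraically closed field they are semisimple, with finite centre;
* `isSemisimple_of_normal`: over any field they are semisimple.
-/

set_option autoImplicit false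
universe u

open CategoryTheory MonoidalCategory CartesianMonoidalCategory MonObj GrpObj AlgebraicGeometry Limits
open Groth.Agent.Books.AffBridge Groth.Agent.Books.AffBridge2

namespace K216.NormalSub

open Groth.Agent.Sga3B Groth.Agent.Sga3B.RG Groth.Agent.Sga3B.RG.BrPts

section AlgClosed

variable {K : Type u} [Field K] [IsAlgClosed K] {N G : Over (Spec (CommRingCat.of K))} [GrpObj N] [GrpObj G]

theorem isSemisimpleOver_of_normal (i : N ⟶ G) [IsMonHom i] (hcl : IsClosedImmersion i.left) (hs : Smooth N.hom)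
    (hc : ConnectedSpace N.left) (hn : AlgGrp.IsNormalHom i) (hG : Red.IsSemisimpleOver K G) :
    Red.IsSemisimpleOver K N ∧
      {n : 𝟙_ (Over (Spec (CommRingCat.of K))) ⟶ N | ∀ n' : 𝟙_ (Over (Spec (CommRingCat.of K))) ⟶ N,
        n * n' = n' * n}.Finite := by
  obtain ⟨A, _, _, e, he, hft, hdom, hred⟩ := BrHc.exists_hopf_of_isReductiveOver G hG.1
  have hG' : Red.IsSemisimpleOver K (SpecOver K A) := BrRed2.isSemisimpleOver_of_iso e hG
  obtain ⟨-, -, htor⟩ := BrRed2.isSemisimpleOver_iff.1 hG'
  let i' : N ⟶ SpecOver K A := i ≫ e.hom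
  have hcl' : IsClosedImmersion i'.left := by
    have h1 : IsIso e.hom.left := inferInstanceAs (IsIso ((Over.forget _).map e.hom))
    rw [Over.comp_left]
    infer_instance
  have hn' : AlgGrp.IsNormalHom i' := BrRed2.isNormalHom_comp_iso i e hn
  have hN : (ptsSub i').Normal := normal_ptsSub i' hn'
  obtain ⟨hclH, hopf, e', he', hfac⟩ := exists_iso_vanIdeal i'
  have hconn := isConn_ptsSub i'
  have hpr : (vanIdeal (ptsSub i' : Set (Pt K A))).IsPrime := hconn
  have hd : IsDomain (A ⧸ vanIdeal (ptsSub i' : Set (Pt K A))) := (Ideal.Quotient.isDomain_iff_prime _).2 hpr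
  refine ⟨?_, ?_⟩
  · have h1 : Red.IsSemisimpleOver K (SpecOver K (A ⧸ vanIdeal (ptsSub i' : Set (Pt K A)))) := by
      rw [BrRed2.isSemisimpleOver_iff]
      exact ⟨hd, NormalPts.isRedPt_of_normal hred hclH hN,
        fun T hT1 hT2 => NormalPts.eq_bot_of_torus hred htor hclH hN hconn hT1 hT2⟩
    have : IsMonHom e'.symm.hom := inferInstanceAs (IsMonHom e'.inv)
    exact BrRed2.isSemisimpleOver_of_iso e'.symm h1
  · have hfin := NormalPts.finite_center hred htor hclH hN
    have hmono : Mono i' := Groth.Agent.Books.AlgPtsGrp.mono_of_isClosedImmersion i'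
    refine Set.Finite.of_finite_image (f := fun n => (ptEquiv K A).symm (n ≫ i')) (hfin.subset ?_) ?_
    · rintro _ ⟨n, hnn, rfl⟩
      refine ⟨Subgroup.mem_centralizer_iff.2 ?_, ⟨n, by simp⟩⟩
      rintro h ⟨m, hm⟩
      apply (ptEquiv K A).injective
      rw [map_mul, map_mul, ← hm, MulEquiv.apply_symm_apply, ← MonObj.mul_comp, ← MonObj.mul_comp, hnn m]
    · intro n _ m _ h
      have h1 := (ptEquiv K A).symm.injective h
      exact (cancel_mono i').1 h1

end AlgClosed

section Field

variable {k : Type u} [Field k] {N G : Over (Spec (CommRingCat.of k))} [GrpObj N] [GrpObj G]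

omit [GrpObj N] in
lemma hasConnectedFibres [ConnectedSpace N.left] (s : Spec (CommRingCat.of k)) :
    _root_.IsConnected (N.hom.base ⁻¹' {s}) := by
  have : N.hom.base ⁻¹' {s} = Set.univ := by
    ext x
    simp only [Set.mem_preimage, Set.mem_singleton_iff, Set.mem_univ, iff_true]
    exact Subsingleton.elim (α := ↥(Spec (CommRingCat.of k))) _ _
  rw [this]
  exact isConnected_univ

theorem isSemisimple_of_normal (i : N ⟶ G) [IsMonHom i] (hcl : IsClosedImmersion i.left) (hs : Smooth N.hom)
    (hc : ConnectedSpace N.left) (hn : AlgGrp.IsNormalHom i) (hG : Red.IsSemisimple G) :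
    Red.IsSemisimple N := by
  have hGa := hG.1
  have hNa : IsAffineHom N.hom := by
    rw [← Over.w i]
    infer_instance
  refine ⟨hNa, hs, fun s => ?_⟩
  have h1 : ConnectedSpace (Red.geomFibre s N).left :=
    RadOpen.connectedSpace_bc N hasConnectedFibres (Red.geomPt s)
  have h2 : IsClosedImmersion ((Over.pullback (Red.geomPt s)).map i).left :=
    MorphismProperty.of_isPullback (SplitBc264.isPullback_map_left (Red.geomPt s) i) hcl
  have h3 : Smooth (Red.geomFibre s N).hom := by
    change Smooth (pullback.snd N.hom (Red.geomPt s))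
    infer_instance
  exact (isSemisimpleOver_of_normal _ h2 h3 h1 (NormBc.isNormalHom_bc _ i hn) (hG.2.2 s)).1

end Field

end K216.NormalSub
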