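import Groth.Agent.S3278
import Groth.Agent.S3972
import Groth.Agent.Red.K216.Fppf

/-!
# Semisimple groups over a field are perfect

`isIso_of_commutators`: a closed subgroup of a semisimple group over a field which contains all commutators is
the whole group.
-/

set_option autoImplicit false
open CategoryTheory MonoidalCategory CartesianMonoidalCategory MonObj GrpObj AlgebraicGeometry Limits
universe u

namespace K216.Perfect

open K216.Fppf

variable {k : Type u} [Field k]

/-- A flat surjective morphism between schemes locally of finite type over a field is an fppf cover. -/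
lemma cov_of_flat {G Q : Over (Spec (CommRingCat.of k))} (q : G ⟶ Q) [LocallyOfFiniteType G.hom]
    [LocallyOfFiniteType Q.hom] (h1 : Flat q.left) (h2 : Surjective q.left) : Cov q := by
  have h3 : LocallyOfFiniteType q.left := by
    have : LocallyOfFiniteType (q.left ≫ Q.hom) := by rw [Over.w]; infer_instance
    exact locallyOfFiniteType_of_comp q.left Q.hom
  have h4 : IsLocallyNoetherian Q.left := LocallyOfFiniteType.isLocallyNoetherian Q.hom
  exact ⟨h1, h2, inferInstance⟩

theorem isIso_of_commutators {M G : Over (Spec (CommRingCat.of k))} [GrpObj M] [GrpObj G] (i : M ⟶ G) [IsMonHom i]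
    (hcl : IsClosedImmersion i.left) (hG : Red.IsSemisimple G)
    (hcomm : ∀ (X : Over (Spec (CommRingCat.of k))) (g h : X ⟶ G), ∃ m : X ⟶ M, m ≫ i = g * h * g⁻¹ * h⁻¹) :
    IsIso i := by
  have hGa : IsAffineHom G.hom := hG.1
  have hGaff : IsAffine G.left := isAffine_of_isAffineHom G.hom
  have hGs : Smooth G.hom := hG.2.1
  have hmono : Mono i := by
    have : Mono i.left := inferInstance
    exact (Over.forget _).mono_of_mono_map this
  have hn : AlgGrp.IsNormalHom i := by
    intro X g n
    obtain ⟨m, hm⟩ := hcomm X g (n ≫ i)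
    refine ⟨m * n, ?_⟩
    rw [MonObj.mul_comp, hm]
    group
  obtain ⟨Q, _, q, hq, _, hQft, hqf, hqs, hker⟩ := Groth.Agent.S3278.result k G M i hn
  have hcov : Cov q := cov_of_flat q hqf hqs
  have hiq : i ≫ q = toUnit M ≫ η[Q] := hker.w
  have hQc : ∀ (X : Over (Spec (CommRingCat.of k))) (a b : X ⟶ Q), a * b = b * a := by
    intro X a b
    obtain ⟨P₁, g, c₁, h₁, hc₁⟩ := hcov.exists_pull a
    obtain ⟨P₂, h, c₂, h₂, hc₂⟩ := hcov.exists_pull (c₁ ≫ b)
    apply (hc₂.comp hc₁).hom_ext
    obtain ⟨m, hm⟩ := hcomm P₂ (c₂ ≫ g) h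
    have h3 : m ≫ i ≫ q = 1 := by
      rw [hiq, ← Category.assoc, MonObj.one_eq_one, MonObj.comp_one]
    rw [← Category.assoc, hm, MonObj.mul_comp, MonObj.mul_comp, MonObj.mul_comp, GrpObj.inv_comp,
      GrpObj.inv_comp, Category.assoc, h₁, h₂] at h3
    rw [MonObj.comp_mul, MonObj.comp_mul, Category.assoc, Category.assoc]
    rwa [mul_inv_eq_one, mul_inv_eq_iff_eq_mul] at h3
  obtain ⟨C, _, f₀, D, _, d, -, -, -, -, -, -, -, -, hkill, -, hiso⟩ := Groth.Agent.S3972.result G
    ⟨hG.1, hG.2.1, fun s => (hG.2.2 s).1⟩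
  have hd := hiso hG
  have h1 := hkill Q q hQc
  have h2 : q = toUnit G ≫ η[Q] := by
    rw [← cancel_epi d, h1]
    rw [← Category.assoc, MonObj.one_eq_one, MonObj.comp_one]
  obtain ⟨s, hs, -⟩ := hker.exists_lift (𝟙 G) (toUnit G) (by rw [Category.id_comp]; exact h2)
  refine ⟨s, ?_, hs⟩
  rw [← cancel_mono i, Category.assoc, hs, Category.comp_id, Category.id_comp]

end K216.Perfect
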