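import Groth.Agent.S3028
import Groth.Agent.S3031
import Groth.Agent.S3034
import Groth.Agent.S3037
import Groth.Agent.Flat2B.SmoothGeom
import Groth.Agent.Sga3B.CentNorm900
import Groth.Agent.Sga3C.GrpIrr
import Groth.Agent.Red.K216.Comm
import Groth.Agent.Red.K216.NormalSub
import Groth.Agent.Red.K216.Perfect
import Groth.Agent.Red.K216.DiscPts
import Groth.Agent.Sga3B.KerGrp

/-!
# The complement of a normal subgroup of a semisimple group over a field
-/

set_option autoImplicit false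
open CategoryTheory MonoidalCategory CartesianMonoidalCategory MonObj GrpObj AlgebraicGeometry Limits
universe u

namespace K216.Complement

open K216.Fppf K216.Comm Groth.Agent Groth.Agent.Sga3B

variable {k : Type u} [Field k]

lemma mono_of_closed {S : Scheme.{u}} {M G : Over S} (i : M ⟶ G) (hcl : IsClosedImmersion i.left) : Mono i := by
  have : Mono i.left := inferInstance
  exact (Over.forget _).mono_of_mono_map this

lemma mul_fst {S : Scheme.{u}} {A B X : Over S} [GrpObj A] [GrpObj B] (x y : X ⟶ A ⊗ B) :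
    (x * y) ≫ fst A B = (x ≫ fst A B) * (y ≫ fst A B) := by
  rw [Hom.mul_def, Hom.mul_def, tensorObj.mul_def]
  simp

lemma mul_snd {S : Scheme.{u}} {A B X : Over S} [GrpObj A] [GrpObj B] (x y : X ⟶ A ⊗ B) :
    (x * y) ≫ snd A B = (x ≫ snd A B) * (y ≫ snd A B) := by
  rw [Hom.mul_def, Hom.mul_def, tensorObj.mul_def]
  simp

lemma mulMap_eq {S : Scheme.{u}} {A B G X : Over S} [GrpObj G] (i : A ⟶ G) (j : B ⟶ G) (x : X ⟶ A ⊗ B) :
    x ≫ (i ⊗ₘ j) ≫ μ[G] = (x ≫ fst A B ≫ i) * (x ≫ snd A B ≫ j) := by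
  have h1 : (i ⊗ₘ j) ≫ μ[G] = (fst A B ≫ i) * (snd A B ≫ j) := by
    rw [Hom.mul_def]
    congr 1
  rw [h1, MonObj.comp_mul]

lemma isMonHom_mulMap {S : Scheme.{u}} {A B G : Over S} [GrpObj A] [GrpObj B] [GrpObj G] (i : A ⟶ G) (j : B ⟶ G)
    [IsMonHom i] [IsMonHom j]
    (h : ∀ (X : Over S) (x : X ⟶ A) (y : X ⟶ B), (x ≫ i) * (y ≫ j) = (y ≫ j) * (x ≫ i)) :
    IsMonHom ((i ⊗ₘ j) ≫ μ[G]) := by
  refine Sga3B.Pts.isMonHom_of_points _ fun X x y => ?_
  rw [mulMap_eq, mulMap_eq, mulMap_eq, ← Category.assoc (x * y), ← Category.assoc (x * y), mul_fst, mul_snd,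
    MonObj.mul_comp, MonObj.mul_comp]
  simp only [Category.assoc]
  have h1 := h X (y ≫ fst A B) (x ≫ snd A B)
  simp only [Category.assoc] at h1
  calc (x ≫ fst A B ≫ i) * (y ≫ fst A B ≫ i) * ((x ≫ snd A B ≫ j) * (y ≫ snd A B ≫ j))
      = (x ≫ fst A B ≫ i) * ((y ≫ fst A B ≫ i) * (x ≫ snd A B ≫ j)) * (y ≫ snd A B ≫ j) := by
        simp only [_root_.mul_assoc]
    _ = _ := by rw [h1]; simp only [_root_.mul_assoc]


lemma of_cov {S : Scheme.{u}} {N G X X' : Over S} [GrpObj G] {i : N ⟶ G} {c : X' ⟶ X} (hc : Cov c) {z : X ⟶ G}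
    (h : Com i (c ≫ z)) : Com i z := by
  intro Y y n
  obtain ⟨P, p, q, hpq, hq⟩ := hc.exists_pull y
  apply hq.hom_ext
  have h1 := h P p (q ≫ n)
  rw [← Category.assoc, hpq, Category.assoc, Category.assoc] at h1
  rw [MonObj.comp_mul, MonObj.comp_mul, h1]

lemma irr (N : Over (Spec (CommRingCat.of k))) [GrpObj N] [LocallyOfFiniteType N.hom] [ConnectedSpace N.left] :
    GeometricallyIrreducible N.hom := by
  have : GrpObj (Over.mk N.hom) := inferInstanceAs (GrpObj N)
  exact Sga3C.GrpIrr.geometricallyIrreducible_of_connected_fibres N.hom NormalSub.hasConnectedFibres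

section ker

open Sga3B.BcPts Sga3B.KerGrp

variable {N N' G : Over (Spec (CommRingCat.of k))} [GrpObj N] [GrpObj N'] [GrpObj G]

/-- The kernel of the multiplication map is discrete. -/
theorem discrete_ker (i : N ⟶ G) [IsMonHom i] (i' : N' ⟶ G) [IsMonHom i'] (hG : Red.IsSemisimple G)
    (hcl : IsClosedImmersion i.left) (hcl' : IsClosedImmersion i'.left) (hs : Smooth N.hom)
    (hs' : LocallyOfFiniteType N'.hom)
    (hc : ConnectedSpace N.left) (hn : AlgGrp.IsNormalHom i)
    (hcomm : ∀ (X : Over (Spec (CommRingCat.of k))) (x : X ⟶ N) (y : X ⟶ N'),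
      (x ≫ i) * (y ≫ i') = (y ≫ i') * (x ≫ i)) :
    DiscreteTopology (kerObj ((i ⊗ₘ i') ≫ μ[G])).left := by
  have hmi : Mono i := mono_of_closed i hcl
  have hmi' : Mono i' := mono_of_closed i' hcl'
  have hGs : Smooth G.hom := hG.2.1
  let s : Spec (CommRingCat.of k) := IsLocalRing.closedPoint k
  let p := Red.geomPt s
  have h1 : ConnectedSpace (Red.bc p N).left :=
    RadOpen.connectedSpace_bc N NormalSub.hasConnectedFibres p
  have h2 : IsClosedImmersion ((Over.pullback p).map i).left :=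
    MorphismProperty.of_isPullback (SplitBc264.isPullback_map_left p i) hcl
  have h3 : Smooth (Red.bc p N).hom := by
    change Smooth (pullback.snd N.hom p)
    infer_instance
  have hfin := (NormalSub.isSemisimpleOver_of_normal _ h2 h3 h1 (NormBc.isNormalHom_bc _ i hn) (hG.2.2 s)).2
  set m := (i ⊗ₘ i') ≫ μ[G] with hm
  have hlft : LocallyOfFiniteType (kerObj m).hom := by
    have h4 : LocallyOfFiniteType (N ⊗ N').hom := by
      change LocallyOfFiniteType (pullback.fst N.hom N'.hom ≫ N.hom)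
      infer_instance
    have h5 : LocallyOfFiniteType m.left := by
      have : LocallyOfFiniteType (m.left ≫ G.hom) := by rw [Over.w]; exact h4
      exact locallyOfFiniteType_of_comp m.left G.hom
    exact inferInstanceAs (LocallyOfFiniteType (pullback.snd m.left _))
  apply DiscPts.discrete_of_points (kerObj m) p
  have hfin' := hfin.to_subtype
  -- the two components
  have hxy : ∀ {T : Over (Spec (CommRingCat.of k))} (t : T ⟶ kerObj m),
      (t ≫ kerι m ≫ fst N N' ≫ i) * (t ≫ kerι m ≫ snd N N' ≫ i') = 1 := by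
    intro T t
    have h4 := congrArg (t ≫ ·) (kerι_comp m)
    simp only [MonObj.comp_one] at h4
    have h5 := mulMap_eq i i' (t ≫ kerι m)
    simp only [Category.assoc] at h5
    exact h5.symm.trans h4
  refine Finite.of_injective (β := {n : 𝟙_ (Over (Spec (CommRingCat.of (AlgebraicClosure
      ((Spec (CommRingCat.of k)).residueField s))))) ⟶ Red.bc p N |
      ∀ n' : 𝟙_ (Over (Spec (CommRingCat.of (AlgebraicClosure
      ((Spec (CommRingCat.of k)).residueField s))))) ⟶ Red.bc p N, n * n' = n' * n})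
    (fun t => ⟨bcEquiv p _ N ((bcEquiv p _ _).symm t ≫ kerι m ≫ fst N N'), fun n' => ?_⟩) ?_
  · apply (bcMulEquiv p _ N).symm.injective
    rw [map_mul, map_mul]
    change (bcEquiv p _ N).symm (bcEquiv p _ N _) * (bcEquiv p _ N).symm n' =
      (bcEquiv p _ N).symm n' * (bcEquiv p _ N).symm (bcEquiv p _ N _)
    rw [Equiv.symm_apply_apply, ← cancel_mono i, MonObj.mul_comp, MonObj.mul_comp]
    have h4 := hxy ((bcEquiv p _ _).symm t)
    have h5 : ((bcEquiv p _ _).symm t ≫ kerι m ≫ fst N N') ≫ i =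
        ((bcEquiv p _ _).symm t ≫ kerι m ≫ snd N N' ≫ i')⁻¹ := by
      rw [eq_inv_iff_mul_eq_one]
      simpa only [Category.assoc] using h4
    rw [h5]
    have h6 := hcomm _ ((bcEquiv p _ N).symm n') ((bcEquiv p _ _).symm t ≫ kerι m ≫ snd N N')
    simp only [Category.assoc] at h6
    have h7 : Commute ((bcEquiv p _ N).symm n' ≫ i) ((bcEquiv p _ _).symm t ≫ kerι m ≫ snd N N' ≫ i') := h6
    exact h7.inv_right.symm.eq
  · intro t t' htt
    have h4 := congrArg Subtype.val htt
    simp only at h4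
    have h5 := (bcEquiv p _ N).injective h4
    apply (bcEquiv p _ _).symm.injective
    rw [← cancel_mono (kerι m)]
    have h6 := hxy ((bcEquiv p _ _).symm t)
    have h7 := hxy ((bcEquiv p _ _).symm t')
    apply CartesianMonoidalCategory.hom_ext
    · simpa only [Category.assoc] using h5
    · rw [← cancel_mono i']
      have h8 := congrArg (· ≫ i) h5
      simp only [Category.assoc] at h8
      rw [h8] at h6
      have h9 := h6.trans h7.symm
      simpa only [Category.assoc] using mul_left_cancel h9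

end ker

section main

variable {N G : Over (Spec (CommRingCat.of k))} [GrpObj N] [GrpObj G]

lemma connected_prod [LocallyOfFiniteType G.hom] [ConnectedSpace G.left] : ConnectedSpace (G ⊗ G).left := by
  have h1 := irr G
  have h2 : IrreducibleSpace G.left := GeometricallyIrreducible.irreducibleSpace_of_subsingleton G.hom
  have h3 : IrreducibleSpace ↥(pullback G.hom G.hom) := inferInstance
  exact inferInstanceAs (ConnectedSpace ↥(pullback G.hom G.hom))

omit [GrpObj G] in
lemma connected_of_geomFibre (s : Spec (CommRingCat.of k)) (h : ConnectedSpace (Red.geomFibre s G).left) :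
    ConnectedSpace G.left := by
  have h1 : Surjective (pullback.fst G.hom (Red.geomPt s)) := inferInstance
  have h2 : ConnectedSpace ↥(pullback G.hom (Red.geomPt s)) := h
  exact h1.surj.connectedSpace (pullback.fst G.hom (Red.geomPt s)).continuous

/-- **The complement.** -/
theorem exists_compl (hG : Red.IsSemisimple G) (i : N ⟶ G) [IsMonHom i] (hcl : IsClosedImmersion i.left)
    (hs : Smooth N.hom) (hc : ConnectedSpace N.left) (hn : AlgGrp.IsNormalHom i) :
    ∃ (N' : Over (Spec (CommRingCat.of k))) (_ : GrpObj N') (i' : N' ⟶ G), IsMonHom i' ∧ IsClosedImmersion i'.left ∧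
      Smooth N'.hom ∧ ConnectedSpace N'.left ∧ AlgGrp.IsNormalHom i' ∧ Com i i' ∧
      Cov ((i ⊗ₘ i') ≫ μ[G]) ∧ IsFinite ((i ⊗ₘ i') ≫ μ[G]).left ∧
      (∀ (X : Over (Spec (CommRingCat.of k))) (z₁ z₂ : X ⟶ G), Com i z₁ → Com i z₂ →
        ∃ y : X ⟶ N', y ≫ i' = z₁ * z₂ * z₁⁻¹ * z₂⁻¹) ∧
      (∀ (M : Over (Spec (CommRingCat.of k))) [GrpObj M] (j : M ⟶ G) [IsMonHom j], IsClosedImmersion j.left →
        Com i j → Cov ((i ⊗ₘ j) ≫ μ[G]) → ∃ f : N' ⟶ M, f ≫ j = i') := by
  have hGa : IsAffineHom G.hom := hG.1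
  have hGs : Smooth G.hom := hG.2.1
  have hmi : Mono i := mono_of_closed i hcl
  have hNss := NormalSub.isSemisimple_of_normal i hcl hs hc hn hG
  have hNr : Red.IsReductive N := ⟨hNss.1, hNss.2.1, fun s => (hNss.2.2 s).1⟩
  have hGc : ConnectedSpace G.left :=
    connected_of_geomFibre (IsLocalRing.closedPoint k) (hG.2.2 _).1.2.2.1
  have hGcf : RedSub.HasConnectedFibres G := fun s => NormalSub.hasConnectedFibres s
  obtain ⟨W, c, n, z, hcov, hcz, hz⟩ := exists_decomp i hNr hGcf hn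
  obtain ⟨γ', hγ⟩ := exists_gamma i hNr hGcf hn
  have hγ1 : ∀ (X : Over (Spec (CommRingCat.of k))) (z₁ z₂ : X ⟶ G), Com i z₁ → Com i z₂ →
      lift z₁ z₂ ≫ γ' = z₁ * z₂ * z₁⁻¹ * z₂⁻¹ := by
    intro X z₁ z₂ h₁ h₂
    have := hγ X 1 1 z₁ z₂ h₁ h₂
    rwa [MonObj.one_comp, _root_.one_mul, _root_.one_mul] at this
  have hGG : Smooth (G ⊗ G).hom := by
    change Smooth (pullback.fst G.hom G.hom ≫ G.hom)
    infer_instance
  have hGGr : GeometricallyReduced (G ⊗ G).hom := Flat2B.SmoothGeom.geometricallyReduced_of_smooth _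
  have hGGc : ConnectedSpace (G ⊗ G).left := connected_prod
  obtain ⟨N', _, i', hi'1, hi'2, ⟨f', hf'⟩, hgr, hmin⟩ := Groth.Agent.S3028.result k G (G ⊗ G) γ'
  have hmi' : Mono i' := mono_of_closed i' hi'2
  have hlft' : LocallyOfFiniteType N'.hom := by
    rw [← Over.w i']
    infer_instance
  have hs' : Smooth N'.hom := by
    have : GrpObj (Over.mk N'.hom) := inferInstanceAs (GrpObj N')
    exact smooth_of_grpObj N'.hom
  have hc' : ConnectedSpace N'.left := by
    refine Groth.Agent.S3031.result k G (G ⊗ G) (lift 1 1) γ' ?_ N' i' ⟨f', hf'⟩ hmin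
    rw [hγ1 _ _ _ (Com.one i _) (Com.one i _), MonObj.one_eq_one]
    group
  -- commutators of points commuting with `N`
  have hF1 : ∀ (X : Over (Spec (CommRingCat.of k))) (z₁ z₂ : X ⟶ G), Com i z₁ → Com i z₂ →
      ∃ y : X ⟶ N', y ≫ i' = z₁ * z₂ * z₁⁻¹ * z₂⁻¹ := by
    intro X z₁ z₂ h₁ h₂
    exact ⟨lift z₁ z₂ ≫ f', by rw [Category.assoc, hf', hγ1 X z₁ z₂ h₁ h₂]⟩
  -- `N'` commutes with `N`
  obtain ⟨P, p, q, r, hr, hp, hq⟩ := hcov.exists_two hcov
  have hPr : r = lift (((p ≫ n) ≫ i) * (p ≫ z)) (((q ≫ n) ≫ i) * (q ≫ z)) := by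
    apply CartesianMonoidalCategory.hom_ext
    · rw [lift_fst, ← hp, hcz, MonObj.comp_mul, Category.assoc]
    · rw [lift_snd, ← hq, hcz, MonObj.comp_mul, Category.assoc]
  have hPγ : r ≫ γ' = (p ≫ z) * (q ≫ z) * (p ≫ z)⁻¹ * (q ≫ z)⁻¹ := by
    conv_lhs => rw [hPr]
    exact hγ P _ _ _ _ (hz.comp p) (hz.comp q)
  have hcomγ : Com i γ' := by
    apply of_cov hr
    rw [hPγ]
    exact (((hz.comp p).mul (hz.comp q)).mul (hz.comp p).inv).mul (hz.comp q).inv
  have hirr := irr N
  obtain ⟨⟨Z, _, zZ, hZ, hZcl, -⟩, -⟩ := CentNorm900.exists_centralizer_normalizer i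
  have hcom : Com i i' := by
    have hmz := hZ.1
    obtain ⟨j, hj⟩ := hmin Z _ zZ hmz hZcl ((hZ.2.2 _ γ').2 hcomγ)
    exact (hZ.2.2 _ i').1 ⟨j, hj⟩
  have hcomm : ∀ (X : Over (Spec (CommRingCat.of k))) (x : X ⟶ N) (y : X ⟶ N'),
      (x ≫ i) * (y ≫ i') = (y ≫ i') * (x ≫ i) := fun X x y => (hcom X y x).symm
  -- the multiplication map
  set m := (i ⊗ₘ i') ≫ μ[G] with hm
  have hmm : IsMonHom m := isMonHom_mulMap i i' hcomm
  have hNN : Smooth (N ⊗ N').hom := by
    change Smooth (pullback.fst N.hom N'.hom ≫ N.hom)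
    infer_instance
  have hlftm : LocallyOfFiniteType m.left := by
    have : LocallyOfFiniteType (m.left ≫ G.hom) := by rw [Over.w]; infer_instance
    exact locallyOfFiniteType_of_comp m.left G.hom
  have hNa : IsAffineHom N.hom := hNss.1
  have hNa' : IsAffineHom N'.hom := by
    rw [← Over.w i']
    infer_instance
  have hqcm : QuasiCompact m.left := by
    have h1 : IsAffine N.left := isAffine_of_isAffineHom N.hom
    have h2 : IsAffine N'.left := isAffine_of_isAffineHom N'.hom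
    have h3 : IsAffine G.left := isAffine_of_isAffineHom G.hom
    have h4 : IsAffine (pullback N.hom N'.hom) := inferInstance
    have h5 : IsAffine (N ⊗ N').left := h4
    infer_instance
  have hflk : Flat (Limits.pullback.snd m.left (η[G] : 𝟙_ (Over (Spec (CommRingCat.of k))) ⟶ G).left) := by
    have h1 : Subsingleton ↥(𝟙_ (Over (Spec (CommRingCat.of k)))).left :=
      inferInstanceAs (Subsingleton ↥(Spec (CommRingCat.of k)))
    have h2 : IsIntegral (𝟙_ (Over (Spec (CommRingCat.of k)))).left :=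
      inferInstanceAs (IsIntegral (Spec (CommRingCat.of k)))
    infer_instance
  obtain ⟨C, _, pC, iC, hpC, hiC, hpi, hpf, hps, hpl, hicl⟩ :=
    Groth.Agent.S3034.result k (N ⊗ N') G m hflk
  have hmiC : Mono iC := mono_of_closed iC hicl
  have hcommut : ∀ (X : Over (Spec (CommRingCat.of k))) (g h : X ⟶ G), ∃ t : X ⟶ C,
      t ≫ iC = g * h * g⁻¹ * h⁻¹ := by
    intro X g h
    obtain ⟨V, v, w, hvw, hw⟩ := hr.exists_pull (lift g h)
    apply hw.factor iC
    have e1 : w ≫ g = ((v ≫ p ≫ n) ≫ i) * (v ≫ p ≫ z) := by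
      have := congrArg (· ≫ fst G G) hvw
      simp only [Category.assoc, lift_fst] at this
      rw [← this, ← hp, hcz, MonObj.comp_mul, MonObj.comp_mul]
      simp only [Category.assoc]
    have e2 : w ≫ h = ((v ≫ q ≫ n) ≫ i) * (v ≫ q ≫ z) := by
      have := congrArg (· ≫ snd G G) hvw
      simp only [Category.assoc, lift_snd] at this
      rw [← this, ← hq, hcz, MonObj.comp_mul, MonObj.comp_mul]
      simp only [Category.assoc]
    obtain ⟨y, hy⟩ := hF1 V _ _ ((hz.comp p).comp v) ((hz.comp q).comp v)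
    set a := v ≫ p ≫ n
    set b := v ≫ q ≫ n
    set z₁ := v ≫ p ≫ z with hz₁
    set z₂ := v ≫ q ≫ z with hz₂
    have k1 : z₁ * (a ≫ i) = (a ≫ i) * z₁ := ((hz.comp p).comp v).self a
    have k2 : z₁ * (b ≫ i) = (b ≫ i) * z₁ := ((hz.comp p).comp v).self b
    have k3 : z₂ * (a ≫ i) = (a ≫ i) * z₂ := ((hz.comp q).comp v).self a
    have k4 : z₂ * (b ≫ i) = (b ≫ i) * z₂ := ((hz.comp q).comp v).self b
    refine ⟨lift (a * b * a⁻¹ * b⁻¹) y ≫ pC, ?_⟩
    rw [Category.assoc, hpi, hm, mulMap_eq, ← Category.assoc, lift_fst, ← Category.assoc, lift_snd, hy,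
      MonObj.comp_mul, MonObj.comp_mul, MonObj.comp_mul, GrpObj.comp_inv, GrpObj.comp_inv, e1, e2,
      MonObj.mul_comp, MonObj.mul_comp, MonObj.mul_comp, GrpObj.inv_comp, GrpObj.inv_comp]
    generalize a ≫ i = A at *
    generalize b ≫ i = B at *
    have c1 : Commute z₁ A := k1
    have c2 : Commute z₁ B := k2
    have c3 : Commute z₂ A := k3
    have c4 : Commute z₂ B := k4
    have l1 : A * z₁ * (B * z₂) = (A * B) * (z₁ * z₂) := by
      rw [_root_.mul_assoc, ← _root_.mul_assoc z₁, c2.eq, _root_.mul_assoc, _root_.mul_assoc]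
    have l2 : B * z₂ * (A * z₁) = (B * A) * (z₂ * z₁) := by
      rw [_root_.mul_assoc, ← _root_.mul_assoc z₂, c3.eq, _root_.mul_assoc, _root_.mul_assoc]
    have l3 : Commute (z₁ * z₂ * (z₂ * z₁)⁻¹) (B * A)⁻¹ := by
      have h1 : Commute z₁ (B * A) := c2.mul_right c1
      have h2 : Commute z₂ (B * A) := c4.mul_right c3
      exact ((h1.mul_left h2).mul_left (h2.mul_left h1).inv_left).inv_right
    calc A * B * A⁻¹ * B⁻¹ * (z₁ * z₂ * z₁⁻¹ * z₂⁻¹) = (A * B) * ((B * A)⁻¹ * (z₁ * z₂ * (z₂ * z₁)⁻¹)) := by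
          simp only [_root_.mul_inv_rev, _root_.mul_assoc]
      _ = (A * B) * ((z₁ * z₂ * (z₂ * z₁)⁻¹) * (B * A)⁻¹) := by rw [l3.eq]
      _ = (A * z₁ * (B * z₂)) * (B * z₂ * (A * z₁))⁻¹ := by
          rw [l1, l2]
          simp only [_root_.mul_inv_rev, _root_.mul_assoc]
      _ = A * z₁ * (B * z₂) * (A * z₁)⁻¹ * (B * z₂)⁻¹ := by
          simp only [_root_.mul_inv_rev, _root_.mul_assoc]
  have hisoC : IsIso iC := Perfect.isIso_of_commutators iC hicl hG hcommut
  have hmcov : Cov m := by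
    rw [← hpi]
    have h1 : IsIso iC.left := inferInstanceAs (IsIso ((Over.forget _).map iC))
    exact ⟨by rw [Over.comp_left]; infer_instance, by rw [Over.comp_left]; infer_instance,
      by rw [Over.comp_left]; infer_instance⟩
  refine ⟨N', inferInstance, i', hi'1, hi'2, hs', hc', ?_, hcom, hmcov, ?_, hF1, ?_⟩
  · -- normality
    intro X g x
    obtain ⟨V, v, w, hvw, hw⟩ := hmcov.exists_pull g
    obtain ⟨y, hy⟩ := hw.factor i' (g * (x ≫ i') * g⁻¹) (by
      refine ⟨(v ≫ snd N N') * (w ≫ x) * (v ≫ snd N N')⁻¹, ?_⟩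
      have h1 : w ≫ g = ((v ≫ fst N N') ≫ i) * ((v ≫ snd N N') ≫ i') := by
        rw [← hvw, hm, mulMap_eq]
        simp only [Category.assoc]
      rw [MonObj.comp_mul, MonObj.comp_mul, GrpObj.comp_inv, h1, MonObj.mul_comp, MonObj.mul_comp, GrpObj.inv_comp]
      have h2 := hcomm V (v ≫ fst N N') ((v ≫ snd N N') * (w ≫ x) * (v ≫ snd N N')⁻¹)
      rw [MonObj.mul_comp, MonObj.mul_comp, GrpObj.inv_comp] at h2
      rw [Category.assoc w x i'] at h2 ⊢
      generalize (v ≫ fst N N') ≫ i = A at *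
      generalize (v ≫ snd N N') ≫ i' = B at *
      generalize w ≫ x ≫ i' = X at *
      calc B * X * B⁻¹ = (A * (B * X * B⁻¹)) * A⁻¹ := by rw [h2, mul_inv_cancel_right]
        _ = A * B * X * (A * B)⁻¹ := by simp only [_root_.mul_inv_rev, _root_.mul_assoc])
    exact ⟨y, hy.symm⟩
  · rw [Groth.Agent.S3037.result k (N ⊗ N') G m]
    exact discrete_ker i i' hG hcl hi'2 hs hlft' hc hn hcomm
  · intro M _ j _ hjcl hjcom hjcov
    refine hmin M _ j inferInstance hjcl ?_
    have hmj : Mono j := mono_of_closed j hjcl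
    -- both points of the product are products of points of `N` and `M`
    obtain ⟨Q, a, b, s, hs1, hs2, hs3⟩ := hjcov.exists_two hjcov
    apply hs1.factor j
    have h1 : s = lift (((a ≫ fst N M) ≫ i) * ((a ≫ snd N M) ≫ j)) (((b ≫ fst N M) ≫ i) * ((b ≫ snd N M) ≫ j)) := by
      apply CartesianMonoidalCategory.hom_ext
      · rw [lift_fst, ← hs2, mulMap_eq]
        simp only [Category.assoc]
      · rw [lift_snd, ← hs3, mulMap_eq]
        simp only [Category.assoc]
    refine ⟨(a ≫ snd N M) * (b ≫ snd N M) * (a ≫ snd N M)⁻¹ * (b ≫ snd N M)⁻¹, ?_⟩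
    conv_rhs => rw [h1]
    rw [hγ Q _ _ _ _ (hjcom.comp _) (hjcom.comp _)]
    simp only [MonObj.mul_comp, GrpObj.inv_comp]

end main

end K216.Complement
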