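import Groth.Agent.Sga3C.CWFam
import Groth.Agent.Sga3C.CWMain
import Groth.Agent.Sga3B.CentNorm900
import Groth.Agent.S3031

/-!
# The largest normalised closed subgroup contained in a closed subgroup

* `exists_core`: for a closed subgroup `i : Γ ⟶ G` of a smooth group with geometrically irreducible fibres the points
  all of whose conjugates lie in `Γ` form a closed subgroup;
* `isNormalHom_of_min`: the smallest closed subgroup through a morphism is normal if all conjugates of the points
  of the morphism lie in it;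
* `factor_of_range`: a reduced scheme whose image lies in the image of a closed subscheme maps to it.
-/

set_option autoImplicit false
open CategoryTheory MonoidalCategory CartesianMonoidalCategory MonObj GrpObj AlgebraicGeometry Limits
universe u

namespace K216.Core

open Groth.Agent Groth.Agent.Sga3C Groth.Agent.Sga3C.CWFam Groth.Agent.Sga3C.CWMain Groth.Agent.Sga3C.CWGroup

variable {S : Scheme.{u}} {G D : Over S} [GrpObj G] [GrpObj D]

theorem exists_core [Smooth G.hom] [GeometricallyIrreducible G.hom] (i : D ⟶ G) [IsMonHom i]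
    (hcl : IsClosedImmersion i.left) :
    ∃ (Z : Over S) (_ : GrpObj Z) (z : Z ⟶ G), IsMonHom z ∧ IsClosedImmersion z.left ∧
      ∀ (T : Over S) (g : T ⟶ G), (∃ w : T ⟶ Z, w ≫ z = g) ↔
        ∀ (T' : Over S) (t : T' ⟶ T) (h : T' ⟶ G), ∃ y : T' ⟶ D, y ≫ i = h * (t ≫ g) * h⁻¹ := by
  have hmi : Mono i := by
    have : Mono i.left := inferInstance
    exact (Over.forget _).mono_of_mono_map this
  let c : G ⊗ G ⟶ G := snd G G * fst G G * (snd G G)⁻¹
  have hc : ∀ (T : Over S) (g h : T ⟶ G), lift g h ≫ c = h * g * h⁻¹ := by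
    intro T g h
    rw [MonObj.comp_mul, MonObj.comp_mul, GrpObj.comp_inv, lift_fst, lift_snd]
  let f : (G ⊗ G).left ⟶ G.left := (fst G G).left
  have hf : Smooth f := by
    change Smooth (pullback.fst _ _)
    infer_instance
  have hf' : GeometricallyIrreducible f := by
    change GeometricallyIrreducible (pullback.fst _ _)
    infer_instance
  let j₀ : pullback c i ⟶ G ⊗ G := pullback.fst c i
  have hj : IsClosedImmersion j₀.left := by
    have h1 : IsPullback j₀.left (pullback.snd c i).left c.left i.left :=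
      isPullback_left (IsPullback.of_hasPullback c i)
    exact MorphismProperty.of_isPullback (P := @IsClosedImmersion) h1.flip hcl
  obtain ⟨T₀, t₀, ht₀, hT₀, -⟩ := exists_closed_weilRestriction f j₀.left
  let Z : Over S := Over.mk (t₀ ≫ G.hom)
  let z : Z ⟶ G := Over.homMk t₀
  have hzcl : IsClosedImmersion z.left := ht₀
  have hmz : Mono z := by
    have : Mono z.left := inferInstance
    exact (Over.forget _).mono_of_mono_map this
  have hZ : ∀ (T : Over S) (g : T ⟶ G), (∃ w : T ⟶ Z, w ≫ z = g) ↔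
      ∀ (T' : Over S) (t : T' ⟶ T) (h : T' ⟶ G), ∃ y : T' ⟶ D, y ≫ i = h * (t ≫ g) * h⁻¹ := by
    intro T g
    have h1 : (∃ w : T ⟶ Z, w ≫ z = g) ↔ ∃ g' : T.left ⟶ T₀, g' ≫ t₀ = g.left := by
      constructor
      · rintro ⟨w, hw⟩
        exact ⟨w.left, congrArg (fun t => t.left) hw⟩
      · rintro ⟨g', hg'⟩
        refine ⟨Over.homMk g' ?_, ?_⟩
        · change g' ≫ t₀ ≫ G.hom = T.hom
          rw [← Category.assoc, hg', Over.w]
        · ext1
          exact hg'
    rw [h1, hT₀, cond_iff]
    have h2 : g ▷ G = lift (fst T G ≫ g) (snd T G) := by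
      apply CartesianMonoidalCategory.hom_ext <;> simp
    constructor
    · rintro ⟨a, ha⟩ T' t h
      refine ⟨lift t h ≫ a, ?_⟩
      rw [Category.assoc, ha, h2, hc, MonObj.comp_mul, MonObj.comp_mul, GrpObj.comp_inv, lift_snd, ← Category.assoc,
        lift_fst]
    · intro h
      obtain ⟨y, hy⟩ := h (T ⊗ G) (fst T G) (snd T G)
      exact ⟨y, by rw [hy, h2, hc]⟩
  obtain ⟨hgrp, hmon⟩ := Groth.Agent.Sga3B.CentNorm900.exists_grpObj z
    (fun X g => ∀ (T' : Over S) (t : T' ⟶ X) (h : T' ⟶ G), ∃ y : T' ⟶ D, y ≫ i = h * (t ≫ g) * h⁻¹) hZ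
    (by
      intro X a b ha hb T' t h
      obtain ⟨y, hy⟩ := ha T' t h
      obtain ⟨y', hy'⟩ := hb T' t h
      refine ⟨y * y', ?_⟩
      rw [MonObj.mul_comp, hy, hy', MonObj.comp_mul]
      group)
    (by
      intro X T' t h
      refine ⟨1, ?_⟩
      rw [MonObj.one_comp, MonObj.comp_one]
      group)
    (by
      intro X a ha T' t h
      obtain ⟨y, hy⟩ := ha T' t h
      refine ⟨y⁻¹, ?_⟩
      rw [GrpObj.inv_comp, hy, GrpObj.comp_inv]
      group)
  exact ⟨Z, hgrp, z, hmon, hzcl, hZ⟩

/-- The smallest closed subgroup through a morphism is normal if all conjugates of the points of the morphism lie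
in it. -/
theorem isNormalHom_of_min [Smooth G.hom] [GeometricallyIrreducible G.hom] (i : D ⟶ G) [IsMonHom i]
    (hcl : IsClosedImmersion i.left) {X : Over S} (f : X ⟶ G)
    (hmin : ∀ (D' : Over S) (_ : GrpObj D') (i' : D' ⟶ G), IsMonHom i' → IsClosedImmersion i'.left →
        (∃ f' : X ⟶ D', f' ≫ i' = f) → ∃ j : D ⟶ D', j ≫ i' = i)
    (hconj : ∀ (T : Over S) (h : T ⟶ G) (x : T ⟶ X), ∃ y : T ⟶ D, y ≫ i = h * (x ≫ f) * h⁻¹) :
    AlgGrp.IsNormalHom i := by
  obtain ⟨Z, _, z, hz1, hz2, hZ⟩ := exists_core i hcl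
  obtain ⟨j, hj⟩ := hmin Z inferInstance z hz1 hz2 ((hZ X f).2 fun T' t h => hconj T' h t)
  intro T g n
  obtain ⟨y, hy⟩ := (hZ T (n ≫ i)).1 ⟨n ≫ j, by rw [Category.assoc, hj]⟩ T (𝟙 T) g
  rw [Category.id_comp] at hy
  exact ⟨y, hy.symm⟩

omit [GrpObj G] [GrpObj D] in
/-- A reduced scheme whose image lies in the image of a closed subscheme maps to it. -/
theorem factor_of_range {X : Over S} [IsReduced X.left] (i : D ⟶ G) (hcl : IsClosedImmersion i.left) (f : X ⟶ G)
    (h : Set.range f.left ⊆ Set.range i.left) : ∃ g : X ⟶ D, g ≫ i = f := by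
  rw [Sga3C.ClosedSub.over_factors_iff]
  exact Groth.Agent.S3031.ker_le_ker_of_isReduced i.left f.left h

end K216.Core
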