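import Groth.Prelude.Def_Red2
import Groth.Prelude.Def_AutFam

/-!
# Definitions for S16645 (decomposition of simply connected groups into simple factors)

* `SimpleFibres H`: every geometric fibre of `H` (over any algebraically closed field) is non-trivial and has no normal
  smooth connected closed subgroup except the trivial one and itself;
* `prodPairing`: the direct sum of two root data;
* `Dec G J`: a decomposition of `G` as a product of groups `H j` with simple semisimple geometric fibres;
* `IsIdem φ`: `φ` is a family of equivariant idempotent endomorphisms.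
-/

set_option autoImplicit false
universe u

open CategoryTheory MonoidalCategory CartesianMonoidalCategory MonObj GrpObj AlgebraicGeometry

namespace K216.DecDef

/-- Non-trivial and simple (in the sense of normal smooth connected closed subgroups) geometric fibres. -/
def SimpleFibres {S : Scheme.{u}} (H : Over S) [GrpObj H] : Prop :=
  ∀ (K : Type u) [Field K] [IsAlgClosed K] (t : Spec (CommRingCat.of K) ⟶ S),
    ¬ Red.IsTrivialGrp (Red.bc t H) ∧
      ∀ (N : Over (Spec (CommRingCat.of K))) [GrpObj N] (j : N ⟶ Red.bc t H) [IsMonHom j],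
        IsClosedImmersion j.left → Smooth N.hom → ConnectedSpace N.left → AlgGrp.IsNormalHom j →
          Red.IsTrivialGrp N ∨ IsIso j

/-- A decomposition of `G` as a product of groups with simple geometric fibres. -/
structure Dec {V : Scheme.{u}} (G : Over V) [GrpObj G] (J : Type) where
  H : J → Over V
  [grp : ∀ j, GrpObj (H j)]
  p : ∀ j, G ⟶ H j
  i : ∀ j, H j ⟶ G
  p_hom : ∀ j, IsMonHom (p j)
  i_hom : ∀ j, IsMonHom (i j)
  ip : ∀ j, i j ≫ p j = 𝟙 (H j)
  ip_ne : ∀ j k, j ≠ k → i j ≫ p k = 1
  exists_lift : ∀ (X : Over V) (y : ∀ j, X ⟶ H j), ∃ x : X ⟶ G, ∀ j, x ≫ p j = y j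
  ext : ∀ (X : Over V) (x x' : X ⟶ G), (∀ j, x ≫ p j = x' ≫ p j) → x = x'
  ss : ∀ j, Red.IsSemisimple (H j)
  simple : ∀ j, SimpleFibres (H j)

attribute [instance] Dec.grp

/-- A family (parametrised by `T`) of idempotent endomorphisms of `G` which are equivariant for conjugation. -/
structure IsIdem {S : Scheme.{u}} {G : Over S} [GrpObj G] {T : Over S} (φ : G ⊗ T ⟶ G) : Prop where
  hom : AutFam.IsHomFamily G G φ
  idem : ∀ (X : Over S) (g : X ⟶ G) (t : X ⟶ T), lift (lift g t ≫ φ) t ≫ φ = lift g t ≫ φ
  equi : ∀ (X : Over S) (h g : X ⟶ G) (t : X ⟶ T), lift (h * g * h⁻¹) t ≫ φ = h * (lift g t ≫ φ) * h⁻¹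

section datum

variable {σ κ M N : Type*} [AddCommGroup M] [AddCommGroup N]

/-- The roots of a direct sum of root data. -/
def prodRoot (P : RootPairing σ ℤ M (Module.Dual ℤ M)) (Q : RootPairing κ ℤ N (Module.Dual ℤ N)) : σ ⊕ κ ↪ M × N :=
  ⟨Sum.elim (fun a => (P.root a, 0)) (fun b => (0, Q.root b)), by
    rintro (a | b) (a' | b') h
    · simpa using h
    · simp only [Sum.elim_inl, Sum.elim_inr, Prod.mk.injEq] at h
      exact absurd h.1 (P.ne_zero a)
    · simp only [Sum.elim_inl, Sum.elim_inr, Prod.mk.injEq] at h
      exact absurd h.1.symm (P.ne_zero a')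
    · simpa using h⟩

@[simp]
theorem prodRoot_inl (P : RootPairing σ ℤ M (Module.Dual ℤ M)) (Q : RootPairing κ ℤ N (Module.Dual ℤ N)) (a : σ) :
    prodRoot P Q (Sum.inl a) = (P.root a, 0) := rfl

@[simp]
theorem prodRoot_inr (P : RootPairing σ ℤ M (Module.Dual ℤ M)) (Q : RootPairing κ ℤ N (Module.Dual ℤ N)) (b : κ) :
    prodRoot P Q (Sum.inr b) = (0, Q.root b) := rfl

/-- The coroots of a direct sum of root data. -/
def prodCoroot (P : RootPairing σ ℤ M (Module.Dual ℤ M)) (Q : RootPairing κ ℤ N (Module.Dual ℤ N)) :
    σ ⊕ κ ↪ Module.Dual ℤ (M × N) :=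
  ⟨Sum.elim (fun a => (P.coroot a).comp (LinearMap.fst ℤ M N))
      (fun b => (Q.coroot b).comp (LinearMap.snd ℤ M N)), by
    rintro (a | b) (a' | b') h
    · have h1 : P.coroot a = P.coroot a' := LinearMap.ext fun m => by
        simpa using LinearMap.congr_fun h (m, 0)
      simpa using h1
    · have h1 : P.coroot a = 0 := LinearMap.ext fun m => by
        simpa using LinearMap.congr_fun h (m, 0)
      exact absurd h1 (P.flip.ne_zero a)
    · have h1 : P.coroot a' = 0 := LinearMap.ext fun m => by
        simpa using (LinearMap.congr_fun h (m, 0)).symm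
      exact absurd h1 (P.flip.ne_zero a')
    · have h1 : Q.coroot b = Q.coroot b' := LinearMap.ext fun m => by
        simpa using LinearMap.congr_fun h (0, m)
      simpa using h1⟩

@[simp]
theorem prodCoroot_inl (P : RootPairing σ ℤ M (Module.Dual ℤ M)) (Q : RootPairing κ ℤ N (Module.Dual ℤ N)) (a : σ)
    (m : M × N) : prodCoroot P Q (Sum.inl a) m = P.coroot a m.1 := rfl

@[simp]
theorem prodCoroot_inr (P : RootPairing σ ℤ M (Module.Dual ℤ M)) (Q : RootPairing κ ℤ N (Module.Dual ℤ N)) (b : κ)
    (m : M × N) : prodCoroot P Q (Sum.inr b) m = Q.coroot b m.2 := rfl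

/-- The direct sum of two root data (with coroots in the dual lattices, for the canonical pairings). -/
def prodPairing [Module.Finite ℤ M] [Module.Free ℤ M] [Module.Finite ℤ N] [Module.Free ℤ N]
    (P : RootPairing σ ℤ M (Module.Dual ℤ M)) (Q : RootPairing κ ℤ N (Module.Dual ℤ N))
    (hP : P.toLinearMap = Module.Dual.eval ℤ M) (hQ : Q.toLinearMap = Module.Dual.eval ℤ N) :
    RootPairing (σ ⊕ κ) ℤ (M × N) (Module.Dual ℤ (M × N)) where
  toLinearMap := Module.Dual.eval ℤ (M × N)
  root := prodRoot P Q
  coroot := prodCoroot P Q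
  root_coroot_two := by
    rintro (a | b)
    · have := P.root_coroot_two a
      rw [hP] at this
      simpa using this
    · have := Q.root_coroot_two b
      rw [hQ] at this
      simpa using this
  reflectionPerm := Sum.elim (fun a => Equiv.sumCongr (P.reflectionPerm a) (Equiv.refl κ))
    (fun b => Equiv.sumCongr (Equiv.refl σ) (Q.reflectionPerm b))
  reflectionPerm_root := by
    rintro (a | b) (a' | b')
    · have := P.reflectionPerm_root a a'
      rw [hP] at this
      simpa [Prod.ext_iff] using this
    · simp
    · simp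
    · have := Q.reflectionPerm_root b b'
      rw [hQ] at this
      simpa [Prod.ext_iff] using this
  reflectionPerm_coroot := by
    rintro (a | b) (a' | b')
    · have := P.reflectionPerm_coroot a a'
      rw [hP] at this
      refine LinearMap.ext fun m => ?_
      have h1 := LinearMap.congr_fun this m.1
      simpa using h1
    · refine LinearMap.ext fun m => ?_
      simp
    · refine LinearMap.ext fun m => ?_
      simp
    · have := Q.reflectionPerm_coroot b b'
      rw [hQ] at this
      refine LinearMap.ext fun m => ?_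
      have h1 := LinearMap.congr_fun this m.2
      simpa using h1

end datum

end K216.DecDef
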