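import Groth.Agent.Red.K216.DecDef
import Groth.Agent.RedSub.K198.BidK
import Groth.Agent.RedSub.K198.DerSS
import Groth.Agent.S5510
import Groth.Agent.Sga3B.RedBcAny636

/-!
# Families of equivariant idempotents and decompositions

* `comm_trivial`: families of homomorphisms from a semisimple group to a commutative group are trivial;
* `central_trivial`: families of endomorphisms of a semisimple group with central values are trivial;
* `Dec.comp_p`: for a decomposition of `G` and an equivariant idempotent family `φ`, `p_k φ(g) = p_k φ(i_k p_k g)`;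
* `Dec.exists_clopen`: (from the rigidity statement `NodeR`) over a clopen part of the parameter scheme `p_k φ = 1`, over
  the complement `p_k φ = p_k`.
-/

set_option autoImplicit false
universe u

open CategoryTheory MonoidalCategory CartesianMonoidalCategory MonObj GrpObj AlgebraicGeometry

namespace K216.DecFam

open K216.DecDef Groth.Agent.Sga3B.BcPts

section comm

variable {S : Scheme.{u}} {G A : Over S} [GrpObj G] [GrpObj A]

/-- Families of homomorphisms from a semisimple group to a commutative group are trivial. -/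
theorem comm_trivial (hG : Red.IsSemisimple G)
    (hA : ∀ (X : Over S) (a b : X ⟶ A), a * b = b * a) {T : Over S} (φ : G ⊗ T ⟶ A)
    (hφ : AutFam.IsHomFamily G A φ) (X : Over S) (g : X ⟶ G) (t : X ⟶ T) : lift g t ≫ φ = 1 := by
  have m1 := K198.BidK.isMonHom_phi hφ
  have hA' : ∀ (Y : Over T.left) (a b : Y ⟶ Red.bc T.hom A), a * b = b * a := by
    intro Y a b
    apply (bcMulEquiv T.hom Y A).symm.injective
    rw [map_mul, map_mul, hA]
  have h1 : K198.BidK.phi φ = 1 :=
    K198.DerSS.eq_one_of_isSemisimple (Groth.Agent.Sga3B.RedBcAny636.isSemisimple_bc T.hom hG) _ hA'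
  have h0 : AutFam.IsHomFamily G A (1 : G ⊗ T ⟶ A) := fun X g₁ g₂ t => by
    rw [MonObj.comp_one, MonObj.comp_one, MonObj.comp_one, _root_.mul_one]
  have h2 : K198.BidK.phi (1 : G ⊗ T ⟶ A) = 1 := by
    rw [K198.BidK.phi, MonObj.comp_one, bcEquiv_one]
  rw [K198.BidK.phi_injective (h1.trans h2.symm), MonObj.comp_one]

/-- Families of endomorphisms of a semisimple group with central values are trivial. -/
theorem central_trivial (hG : Red.IsSemisimple G) {T : Over S} (φ : G ⊗ T ⟶ G)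
    (hφ : AutFam.IsHomFamily G G φ)
    (hc : ∀ (X : Over S) (g h : X ⟶ G) (t : X ⟶ T), (lift g t ≫ φ) * h = h * (lift g t ≫ φ))
    (X : Over S) (g : X ⟶ G) (t : X ⟶ T) : lift g t ≫ φ = 1 := by
  obtain ⟨Z, _, j, hj, -, -⟩ := Groth.Agent.S5510.result G (K198.DerSS.isReductive_of_isSemisimple hG)
  have := hj.1
  have := hj.2.1
  obtain ⟨ψ, hψ⟩ := (hj.2.2 (G ⊗ T) φ).2 (fun X' x h => by
    rw [Category.comp_id]
    have := hc X' (x ≫ fst _ _) h (x ≫ snd _ _)
    rwa [← comp_lift, lift_fst_snd, Category.comp_id] at this)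
  have hZ : ∀ (X : Over S) (a b : X ⟶ Z), a * b = b * a := by
    intro X a b
    rw [← cancel_mono j, MonObj.mul_comp, MonObj.mul_comp]
    have := (hj.2.2 X (a ≫ j)).1 ⟨a, rfl⟩ X (𝟙 X) (b ≫ j)
    rwa [Category.id_comp, Category.comp_id] at this
  have hψ' : AutFam.IsHomFamily G Z ψ := fun X g₁ g₂ t => by
    rw [← cancel_mono j, MonObj.mul_comp, Category.assoc, Category.assoc, Category.assoc, hψ]
    exact hφ X g₁ g₂ t
  rw [← hψ, ← Category.assoc, comm_trivial hG hZ ψ hψ' X g t, MonObj.one_comp]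

end comm

section idem

variable {S : Scheme.{u}} {G : Over S} [GrpObj G] {T : Over S} {φ : G ⊗ T ⟶ G}

theorem IsIdem.map_one (h : IsIdem φ) (X : Over S) (t : X ⟶ T) : lift 1 t ≫ φ = 1 := by
  have := h.hom X 1 1 t
  rw [_root_.mul_one] at this
  exact mul_eq_left.1 this.symm

theorem IsIdem.map_inv (h : IsIdem φ) (X : Over S) (g : X ⟶ G) (t : X ⟶ T) :
    lift g⁻¹ t ≫ φ = (lift g t ≫ φ)⁻¹ := by
  rw [eq_inv_iff_mul_eq_one, ← h.hom, inv_mul_cancel, IsIdem.map_one h]

theorem IsIdem.pull (h : IsIdem φ) {T' : Over S} (f : T' ⟶ T) : IsIdem ((G ◁ f) ≫ φ) where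
  hom X g₁ g₂ t := by
    simp only [← Category.assoc, lift_whiskerLeft]
    exact h.hom X g₁ g₂ (t ≫ f)
  idem X g t := by
    simp only [← Category.assoc, lift_whiskerLeft]
    exact h.idem X g (t ≫ f)
  equi X a g t := by
    simp only [← Category.assoc, lift_whiskerLeft]
    exact h.equi X a g (t ≫ f)

end idem

section dec

variable {V : Scheme.{u}} {G : Over V} [GrpObj G] {J : Type} (d : Dec G J)

include d in
theorem p_mul (k : J) {X : Over V} (g h : X ⟶ G) : (g * h) ≫ d.p k = (g ≫ d.p k) * (h ≫ d.p k) := by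
  have := d.p_hom k
  exact MonObj.mul_comp _ _ _

theorem p_inv (k : J) {X : Over V} (g : X ⟶ G) : g⁻¹ ≫ d.p k = (g ≫ d.p k)⁻¹ := by
  have := d.p_hom k
  exact GrpObj.inv_comp _ _

theorem p_one (k : J) {X : Over V} : (1 : X ⟶ G) ≫ d.p k = 1 := by
  have := d.p_hom k
  exact MonObj.one_comp _

theorem i_mul (k : J) {X : Over V} (g h : X ⟶ d.H k) : (g * h) ≫ d.i k = (g ≫ d.i k) * (h ≫ d.i k) := by
  have := d.i_hom k
  exact MonObj.mul_comp _ _ _

theorem i_one (k : J) {X : Over V} : (1 : X ⟶ d.H k) ≫ d.i k = 1 := by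
  have := d.i_hom k
  exact MonObj.one_comp _

/-- the complementary projection -/
noncomputable def cp (k : J) : G ⟶ G := 𝟙 G * (d.p k ≫ d.i k)⁻¹

theorem comp_cp (k : J) {X : Over V} (g : X ⟶ G) : g ≫ cp d k = g * (g ≫ d.p k ≫ d.i k)⁻¹ := by
  rw [cp, MonObj.comp_mul, Category.comp_id, GrpObj.comp_inv]

theorem eq_cp_mul (k : J) {X : Over V} (g : X ⟶ G) : g = (g ≫ cp d k) * (g ≫ d.p k ≫ d.i k) := by
  rw [comp_cp, inv_mul_cancel_right]

theorem cp_p_self (k : J) {X : Over V} (g : X ⟶ G) : (g ≫ cp d k) ≫ d.p k = 1 := by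
  rw [comp_cp, p_mul, p_inv, Category.assoc, Category.assoc, d.ip, Category.comp_id, mul_inv_cancel]

theorem cp_p_ne {k l : J} (h : k ≠ l) {X : Over V} (g : X ⟶ G) : (g ≫ cp d k) ≫ d.p l = g ≫ d.p l := by
  rw [comp_cp, p_mul, p_inv, Category.assoc, Category.assoc, d.ip_ne k l h, MonObj.comp_one, MonObj.comp_one, inv_one,
    _root_.mul_one]

theorem ip_p_self (k : J) {X : Over V} (g : X ⟶ G) : (g ≫ d.p k ≫ d.i k) ≫ d.p k = g ≫ d.p k := by
  rw [Category.assoc, Category.assoc, d.ip, Category.comp_id]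

theorem ip_p_ne {k l : J} (h : k ≠ l) {X : Over V} (g : X ⟶ G) : (g ≫ d.p k ≫ d.i k) ≫ d.p l = 1 := by
  rw [Category.assoc, Category.assoc, d.ip_ne k l h, MonObj.comp_one, MonObj.comp_one]

theorem cp_mul (k : J) {X : Over V} (g h : X ⟶ G) : (g * h) ≫ cp d k = (g ≫ cp d k) * (h ≫ cp d k) := by
  refine d.ext X _ _ fun l => ?_
  by_cases hl : k = l
  · subst hl
    rw [p_mul, cp_p_self, cp_p_self, cp_p_self, _root_.mul_one]
  · rw [p_mul, cp_p_ne d hl, cp_p_ne d hl, cp_p_ne d hl, p_mul]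

theorem cp_comm (k : J) {X : Over V} (g h : X ⟶ G) :
    (g ≫ cp d k) * (h ≫ d.p k ≫ d.i k) = (h ≫ d.p k ≫ d.i k) * (g ≫ cp d k) := by
  refine d.ext X _ _ fun l => ?_
  by_cases hl : k = l
  · subst hl
    rw [p_mul, p_mul, cp_p_self, _root_.mul_one, _root_.one_mul]
  · rw [p_mul, p_mul, ip_p_ne d hl, _root_.mul_one, _root_.one_mul]

/-- The components `p_k φ` of an equivariant idempotent family only depend on `p_k g`. -/
theorem comp_p (hG : Red.IsSemisimple G) {T : Over V} {φ : G ⊗ T ⟶ G} (hφ : IsIdem φ) (k : J) (X : Over V)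
    (g : X ⟶ G) (t : X ⟶ T) : (lift g t ≫ φ) ≫ d.p k = (lift (g ≫ d.p k ≫ d.i k) t ≫ φ) ≫ d.p k := by
  let χ : G ⊗ T ⟶ G := lift (fst G T ≫ cp d k) (snd G T) ≫ φ ≫ d.p k ≫ d.i k
  have hχ : ∀ (X : Over V) (g : X ⟶ G) (t : X ⟶ T),
      lift g t ≫ χ = (lift (g ≫ cp d k) t ≫ φ) ≫ d.p k ≫ d.i k := by
    intro X g t
    simp only [χ]
    rw [← Category.assoc, comp_lift, lift_fst_assoc, lift_snd, Category.assoc]
  have h1 : AutFam.IsHomFamily G G χ := by
    intro X g₁ g₂ t
    rw [hχ, hχ, hχ, cp_mul, hφ.hom, ← Category.assoc, p_mul, i_mul]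
    simp only [Category.assoc]
  have h2 : ∀ (X : Over V) (g h : X ⟶ G) (t : X ⟶ T), (lift g t ≫ χ) * h = h * (lift g t ≫ χ) := by
    intro X g h t
    refine d.ext X _ _ fun l => ?_
    rw [p_mul, p_mul, hχ]
    by_cases hl : k = l
    · subst hl
      rw [ip_p_self]
      have e1 : (h ≫ d.p k ≫ d.i k) * (g ≫ cp d k) * (h ≫ d.p k ≫ d.i k)⁻¹ = g ≫ cp d k := by
        rw [← cp_comm, mul_inv_cancel_right]
      have e2 := hφ.equi X (h ≫ d.p k ≫ d.i k) (g ≫ cp d k) t
      rw [e1] at e2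
      have e3 := congrArg (fun z => z ≫ d.p k) e2
      rw [p_mul, p_mul, p_inv, ip_p_self] at e3
      rw [eq_mul_inv_iff_mul_eq] at e3
      exact e3
    · rw [ip_p_ne d hl, _root_.mul_one, _root_.one_mul]
  have h3 := central_trivial hG χ h1 h2
  have h4 : (lift (g ≫ cp d k) t ≫ φ) ≫ d.p k = 1 := by
    have := h3 X g t
    rw [hχ] at this
    have e := congrArg (fun z => z ≫ d.p k) this
    rwa [ip_p_self, p_one] at e
  conv_lhs => rw [eq_cp_mul d k g, hφ.hom, p_mul, h4, _root_.one_mul]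

end dec

end K216.DecFam
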