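import Groth.Agent.Red.K216.DecFam
import Groth.Agent.Sga3B.RedIso
import Groth.Agent.Sga3B.BcIso

/-!
# Rigidity of equivariant idempotent families on a product of simple groups

* `simpleFibres_iso`, `simpleFibres_bc`: invariance of `SimpleFibres`;
* `idem_clopen`: (from `NodeR`) a family of equivariant idempotents of a group with simple fibres is trivial over a clopen
  part of the parameters and the identity over the complement;
* `exists_clopen`: the same for the components of a family of equivariant idempotents of a decomposed group.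
-/

set_option autoImplicit false
universe u

open CategoryTheory MonoidalCategory CartesianMonoidalCategory MonObj GrpObj AlgebraicGeometry

namespace K216.DecRig

open K216.DecDef K216.DecFam Groth.Agent.Sga3B.BcPts Groth.Agent.Sga3B Groth.Agent.Sga3B.BcIso

/-- the statement of the rigidity node -/
def NodeR : Prop :=
  ∀ {B : Scheme.{u}} {H : Over B} [GrpObj H], Red.IsSemisimple H → SimpleFibres H →
    ∀ (φ : H ⟶ H) [IsMonHom φ], φ ≫ φ = φ →
    (∀ (X : Over B) (h g : X ⟶ H), (h * g * h⁻¹) ≫ φ = h * (g ≫ φ) * h⁻¹) →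
    ∃ U : B.Opens, IsClosed (U : Set B) ∧
      (∀ (X : Over B) (g : X ⟶ H), Set.range X.hom ⊆ (U : Set B) → g ≫ φ = 1) ∧
      (∀ (X : Over B) (g : X ⟶ H), Set.range X.hom ⊆ (U : Set B)ᶜ → g ≫ φ = g)

section simple

variable {S : Scheme.{u}}

/-- normality is invariant under isomorphisms of the target -/
theorem isNormalHom_comp_iso {N G G' : Over S} [GrpObj N] [GrpObj G] [GrpObj G'] {i : N ⟶ G}
    (h : AlgGrp.IsNormalHom i) (e : Grp.mk G ≅ Grp.mk G') : AlgGrp.IsNormalHom (i ≫ e.hom.hom.hom) := by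
  intro T g n
  obtain ⟨n', hn'⟩ := h T (g ≫ e.inv.hom.hom) n
  refine ⟨n', ?_⟩
  have e1 : e.inv.hom.hom ≫ e.hom.hom.hom = 𝟙 G' :=
    congrArg (fun z => z.hom.hom) e.inv_hom_id
  have := congrArg (fun z => z ≫ e.hom.hom.hom) hn'
  simp only [MonObj.mul_comp, GrpObj.inv_comp, Category.assoc, e1, Category.comp_id] at this
  exact this

theorem isIso_hom {G G' : Over S} [GrpObj G] [GrpObj G'] (e : Grp.mk G ≅ Grp.mk G') : IsIso e.hom.hom.hom :=
  ⟨e.inv.hom.hom, congrArg (fun z => z.hom.hom) e.hom_inv_id, congrArg (fun z => z.hom.hom) e.inv_hom_id⟩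

/-- the simplicity condition over an algebraically closed field is invariant under isomorphisms -/
theorem simple_iso {K : Type u} [Field K] {G G' : Over (Spec (CommRingCat.of K))} [GrpObj G] [GrpObj G']
    (e : Grp.mk G ≅ Grp.mk G')
    (h : ¬ Red.IsTrivialGrp G ∧
      ∀ (N : Over (Spec (CommRingCat.of K))) [GrpObj N] (j : N ⟶ G) [IsMonHom j],
        IsClosedImmersion j.left → Smooth N.hom → ConnectedSpace N.left → AlgGrp.IsNormalHom j →
          Red.IsTrivialGrp N ∨ IsIso j) :
    ¬ Red.IsTrivialGrp G' ∧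
      ∀ (N : Over (Spec (CommRingCat.of K))) [GrpObj N] (j : N ⟶ G') [IsMonHom j],
        IsClosedImmersion j.left → Smooth N.hom → ConnectedSpace N.left → AlgGrp.IsNormalHom j →
          Red.IsTrivialGrp N ∨ IsIso j := by
  refine ⟨fun h' => h.1 (RedIso.isTrivialGrp_of_iso ((Grp.forget _).mapIso e).symm h'), ?_⟩
  intro N _ j _ hj hs hc hn
  have i1 : IsIso e.symm.hom.hom.hom := isIso_hom e.symm
  have i2 : IsIso (e.symm.hom.hom.hom).left := (Over.forget _).map_isIso (e.symm.hom.hom.hom)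
  have hcl : IsClosedImmersion (j ≫ e.symm.hom.hom.hom).left := by
    rw [Over.comp_left]
    infer_instance
  rcases h.2 N (j ≫ e.symm.hom.hom.hom) hcl hs hc (isNormalHom_comp_iso hn e.symm) with h1 | h1
  · exact Or.inl h1
  · exact Or.inr (IsIso.of_isIso_comp_right j e.symm.hom.hom.hom)

theorem simpleFibres_bc {S' : Scheme.{u}} (f : S' ⟶ S) {H : Over S} [GrpObj H] (h : SimpleFibres H) :
    SimpleFibres (Red.bc f H) := fun K _ _ t =>
  simple_iso (bcCompIso t f H) (h K (t ≫ f))

theorem simpleFibres_iso {H H' : Over S} [GrpObj H] [GrpObj H'] (e : Grp.mk H ≅ Grp.mk H') (h : SimpleFibres H) :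
    SimpleFibres H' := fun K _ _ t => simple_iso (bcMapIso t e) (h K t)

end simple

section clopen

variable {V : Scheme.{u}}

/-- Rigidity for families. -/
theorem idem_clopen (hR : NodeR.{u}) {H : Over V} [GrpObj H] (hH : Red.IsSemisimple H) (hs : SimpleFibres H)
    {T : Over V} {φ : H ⊗ T ⟶ H} (hφ : IsIdem φ) :
    ∃ U : T.left.Opens, IsClosed (U : Set T.left) ∧
      (∀ (X : Over V) (g : X ⟶ H) (t : X ⟶ T), Set.range t.left ⊆ (U : Set T.left) → lift g t ≫ φ = 1) ∧
      (∀ (X : Over V) (g : X ⟶ H) (t : X ⟶ T), Set.range t.left ⊆ (U : Set T.left)ᶜ → lift g t ≫ φ = g) := by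
  have := K198.BidK.isMonHom_phi hφ.hom
  obtain ⟨U, hU, h1, h2⟩ := hR (RedBcAny636.isSemisimple_bc T.hom hH) (simpleFibres_bc T.hom hs)
    (K198.BidK.phi φ) (by
      rw [K198.BidK.comp_phi]
      conv_lhs => rw [K198.BidK.phi]
      rw [Equiv.symm_apply_apply, hφ.idem]
      rfl) (by
      intro X h g
      rw [K198.BidK.comp_phi, K198.BidK.comp_phi]
      have e1 : (bcEquiv T.hom X H).symm (h * g * h⁻¹) =
          (bcEquiv T.hom X H).symm h * (bcEquiv T.hom X H).symm g * ((bcEquiv T.hom X H).symm h)⁻¹ := by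
        have e0 := map_mul_inv (bcMulEquiv T.hom X H).symm (h * g) h
        rw [map_mul (bcMulEquiv T.hom X H).symm h g] at e0
        exact e0
      rw [e1, hφ.equi, bcEquiv_mul, bcEquiv_mul, Equiv.apply_symm_apply]
      congr 1
      have e2 := map_inv (bcMulEquiv T.hom X H) ((bcEquiv T.hom X H).symm h)
      have e3 : (bcMulEquiv T.hom X H) ((bcEquiv T.hom X H).symm h) = h := Equiv.apply_symm_apply _ _
      rw [e3] at e2
      exact e2)
  have key : ∀ (X : Over V) (g : X ⟶ H) (t : X ⟶ T),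
      let t' : X ⟶ Over.mk T.hom := t
      (bcEquiv T.hom (Over.mk t'.left) H).symm
        (bcEquiv T.hom (Over.mk t'.left) H ((overIso t').hom ≫ g) ≫ K198.BidK.phi φ) =
        (overIso t').hom ≫ lift g t ≫ φ := by
    intro X g t t'
    rw [K198.BidK.comp_phi, Equiv.symm_apply_apply, Equiv.symm_apply_apply]
    have h2 : K198.BidK.st T (Over.mk t'.left) = (overIso t').hom ≫ t := by
      apply Over.OverMorphism.ext
      change t'.left = 𝟙 _ ≫ t.left
      rw [Category.id_comp]
    rw [h2, ← comp_lift, Category.assoc]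
  refine ⟨U, hU, ?_, ?_⟩
  · intro X g t ht
    let t' : X ⟶ Over.mk T.hom := t
    have e1 := h1 (Over.mk t'.left) (bcEquiv T.hom (Over.mk t'.left) H ((overIso t').hom ≫ g)) ht
    have e2 := key X g t
    dsimp only at e2
    rw [e1] at e2
    rw [← cancel_epi (overIso t').hom, ← e2, MonObj.comp_one]
    exact ((bcMulEquiv T.hom (Over.mk t'.left) H).symm.map_one)
  · intro X g t ht
    let t' : X ⟶ Over.mk T.hom := t
    have e1 := h2 (Over.mk t'.left) (bcEquiv T.hom (Over.mk t'.left) H ((overIso t').hom ≫ g)) ht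
    have e2 := key X g t
    dsimp only at e2
    rw [e1, Equiv.symm_apply_apply] at e2
    rw [← cancel_epi (overIso t').hom, ← e2]

variable {G : Over V} [GrpObj G] {J : Type} (d : Dec G J)

/-- the component of a family -/
noncomputable def comp {T : Over V} (φ : G ⊗ T ⟶ G) (k : J) : d.H k ⊗ T ⟶ d.H k := (d.i k ▷ T) ≫ φ ≫ d.p k

theorem lift_comp {T : Over V} (φ : G ⊗ T ⟶ G) (k : J) {X : Over V} (x : X ⟶ d.H k) (t : X ⟶ T) :
    lift x t ≫ comp d φ k = (lift (x ≫ d.i k) t ≫ φ) ≫ d.p k := by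
  rw [comp, lift_whiskerRight_assoc, Category.assoc]

theorem isIdem_comp (hG : Red.IsSemisimple G) {T : Over V} {φ : G ⊗ T ⟶ G} (hφ : IsIdem φ) (k : J) :
    IsIdem (comp d φ k) where
  hom X g₁ g₂ t := by
    rw [lift_comp, lift_comp, lift_comp, i_mul, hφ.hom, p_mul]
  idem X x t := by
    rw [lift_comp, lift_comp]
    have h1 := comp_p d hG hφ k X (lift (x ≫ d.i k) t ≫ φ) t
    rw [hφ.idem] at h1
    rw [Category.assoc (lift (x ≫ d.i k) t ≫ φ)]
    exact h1.symm
  equi X h g t := by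
    have := d.i_hom k
    rw [lift_comp, lift_comp, i_mul, i_mul, GrpObj.inv_comp, hφ.equi, p_mul, p_mul, p_inv, Category.assoc h, d.ip,
      Category.comp_id]

/-- **Rigidity.** -/
theorem exists_clopen (hR : NodeR.{u}) (hG : Red.IsSemisimple G) {T : Over V} {φ : G ⊗ T ⟶ G} (hφ : IsIdem φ)
    (k : J) :
    ∃ U : T.left.Opens, IsClosed (U : Set T.left) ∧
      (∀ (X : Over V) (g : X ⟶ G) (t : X ⟶ T), Set.range t.left ⊆ (U : Set T.left) →
        (lift g t ≫ φ) ≫ d.p k = 1) ∧
      (∀ (X : Over V) (g : X ⟶ G) (t : X ⟶ T), Set.range t.left ⊆ (U : Set T.left)ᶜ →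
        (lift g t ≫ φ) ≫ d.p k = g ≫ d.p k) := by
  obtain ⟨U, hU, h1, h2⟩ := idem_clopen hR (d.ss k) (d.simple k) (isIdem_comp d hG hφ k)
  have key : ∀ (X : Over V) (g : X ⟶ G) (t : X ⟶ T),
      (lift g t ≫ φ) ≫ d.p k = lift (g ≫ d.p k) t ≫ comp d φ k := by
    intro X g t
    rw [lift_comp, comp_p d hG hφ k X g t, Category.assoc g]
  refine ⟨U, hU, fun X g t ht => ?_, fun X g t ht => ?_⟩
  · rw [key, h1 X _ t ht]
  · rw [key, h2 X _ t ht]

end clopen

end K216.DecRig
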