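import Groth.Agent.Red.K216.DecSheaf
import Groth.Agent.Red.K216.DecRig

/-!
# Local structure of the sheaf of simple projections

For a decomposition `d : Dec G J` of a semisimple group: the projections `eF d k` are sections of the sheaf, and every
section is Zariski locally one of them (`loc`).
-/

set_option autoImplicit false
universe u

open CategoryTheory MonoidalCategory CartesianMonoidalCategory MonObj GrpObj AlgebraicGeometry Opposite

namespace K216.DecLoc

open K216.DecDef K216.DecFam K216.DecRig K216.DecSheaf Groth.Agent.Sga3B.BcPts Groth.Agent.Sga3B.RepDescent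

section geom

variable {S : Scheme.{u}}

theorem IsGeom.subsingleton {X : Over S} (h : IsGeom X) : Subsingleton X.left := by
  obtain ⟨K, _, _, ⟨e⟩⟩ := h
  have h1 : Subsingleton (Spec (CommRingCat.of K)) := inferInstanceAs (Subsingleton (PrimeSpectrum K))
  exact (Scheme.homeoOfIso e).toEquiv.subsingleton

theorem IsGeom.nonempty {X : Over S} (h : IsGeom X) : Nonempty X.left := by
  obtain ⟨K, _, _, ⟨e⟩⟩ := h
  have h1 : Nonempty (Spec (CommRingCat.of K)) := inferInstanceAs (Nonempty (PrimeSpectrum K))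
  exact ⟨e.inv h1.some⟩

/-- the geometric point at `x` -/
noncomputable def gpt {T : Over S} (x : T.left) : Over S := Over.mk (Red.geomPt x ≫ T.hom)

/-- its map to `T` -/
noncomputable def gt {T : Over S} (x : T.left) : gpt x ⟶ T := Over.homMk (Red.geomPt x)

theorem isGeom_gpt {T : Over S} (x : T.left) : IsGeom (gpt x) :=
  ⟨AlgebraicClosure (T.left.residueField x), inferInstance, inferInstance, ⟨Iso.refl _⟩⟩

theorem range_comp_gt {T : Over S} (x : T.left) {Y : Over S} (y : Y ⟶ gpt x) (W : Set T.left) (h : x ∈ W) :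
    Set.range (y ≫ gt x).left ⊆ W := by
  rintro _ ⟨z, rfl⟩
  have h1 : (y ≫ gt x).left z = Red.geomPt x (y.left z) := by
    rw [Over.comp_left, Scheme.Hom.comp_apply]
    rfl
  have h2 : Red.geomPt x (y.left z) ∈ Set.range (Red.geomPt x) := ⟨_, rfl⟩
  rw [Groth.Agent.Sga3B.IsoFam.range_geomPt] at h2
  rw [h1, Set.mem_singleton_iff.1 h2]
  exact h

end geom

/-- a group whose identity is the trivial endomorphism is trivial -/
theorem isTrivialGrp_of_id_eq_one {S : Scheme.{u}} {T : Over S} [GrpObj T] (h : 𝟙 T = 1) : Red.IsTrivialGrp T := by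
  have h1 : toUnit T ≫ η[T] = 𝟙 T := by rw [h, Hom.one_def]
  have h2 : IsIso (toUnit T) := ⟨η[T], h1, toUnit_unique _ _⟩
  have h3 : IsIso (toUnit T).left := (Over.forget _).map_isIso (toUnit T)
  have h4 : (toUnit T).left = T.hom := by
    have := Over.w (toUnit T)
    rw [← this]
    exact (Category.comp_id _).symm
  rw [h4] at h3
  exact h3

section loc

variable {V : Scheme.{u}} {G : Over V} [GrpObj G] {J : Type} (d : Dec G J)

/-- the `k`-th projection as a family -/
noncomputable def eF (k : J) (T : Over V) : G ⊗ T ⟶ G := fst G T ≫ d.p k ≫ d.i k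

theorem lift_eF (k : J) {T X : Over V} (g : X ⟶ G) (t : X ⟶ T) : lift g t ≫ eF d k T = g ≫ d.p k ≫ d.i k := by
  rw [eF, lift_fst_assoc]

theorem eF_pull (k : J) {T T' : Over V} (f : T' ⟶ T) : (G ◁ f) ≫ eF d k T = eF d k T' := by
  rw [eF, eF, whiskerLeft_fst_assoc]

theorem isIdem_eF (k : J) (T : Over V) : IsIdem (eF d k T) where
  hom X g₁ g₂ t := by
    rw [lift_eF, lift_eF, lift_eF, ← Category.assoc, p_mul, i_mul, Category.assoc, Category.assoc]
  idem X g t := by
    rw [lift_eF, lift_eF, ← Category.assoc _ (d.p k) (d.i k), ip_p_self, Category.assoc]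
  equi X h g t := by
    rw [lift_eF, lift_eF]
    refine d.ext X _ _ fun l => ?_
    by_cases hl : k = l
    · subst hl
      rw [ip_p_self, p_mul, p_mul, p_inv, p_mul, p_mul, p_inv, ip_p_self]
    · rw [ip_p_ne d hl, p_mul, p_mul, p_inv, ip_p_ne d hl, _root_.mul_one, mul_inv_cancel]

/-- the factors have non-trivial points over geometric points -/
theorem exists_ne_one (k : J) {X : Over V} (hX : IsGeom X) :
    ∃ (Y : Over V) (_ : Y ⟶ X) (y : Y ⟶ d.H k), y ≠ 1 := by
  by_contra hcon
  push Not at hcon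
  obtain ⟨K, _, _, ⟨e⟩⟩ := hX
  let t : Spec (CommRingCat.of K) ⟶ V := e.inv ≫ X.hom
  apply (d.simple k K t).1
  apply isTrivialGrp_of_id_eq_one
  have h1 : (bcEquiv t (Red.bc t (d.H k)) (d.H k)).symm (𝟙 _) = 1 := by
    refine hcon _ (Over.homMk ((Red.bc t (d.H k)).hom ≫ e.inv) ?_) _
    rw [Category.assoc]
    rfl
  have h2 := congrArg (bcEquiv t (Red.bc t (d.H k)) (d.H k)) h1
  rw [Equiv.apply_symm_apply, bcEquiv_one] at h2
  exact h2

theorem eF_not_triv (k : J) {X : Over V} (hX : IsGeom X) : ¬ Triv (eF d k X) := by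
  intro h
  obtain ⟨Y, x, y, hy⟩ := exists_ne_one d k hX
  apply hy
  have h1 := h Y (y ≫ d.i k) x
  rw [lift_eF, Category.assoc, reassoc_of% (d.ip k)] at h1
  have h2 := congrArg (fun z => z ≫ d.p k) h1
  simp only [Category.assoc, d.ip, Category.comp_id] at h2
  rw [h2, p_one]

theorem eF_ne {k l : J} (hkl : k ≠ l) {X : Over V} (hX : IsGeom X) : eF d k X ≠ eF d l X := by
  intro h
  obtain ⟨Y, x, y, hy⟩ := exists_ne_one d k hX
  apply hy
  have h1 := congrArg (fun z => lift (y ≫ d.i k) x ≫ z) h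
  simp only [lift_eF] at h1
  have h2 : (y ≫ d.i k) ≫ d.p l ≫ d.i l = 1 := by
    rw [Category.assoc, reassoc_of% (d.ip_ne k l hkl)]
    have := d.i_hom l
    rw [MonObj.one_comp, MonObj.comp_one]
  rw [h2, Category.assoc, reassoc_of% (d.ip k)] at h1
  have h3 := congrArg (fun z => z ≫ d.p k) h1
  simp only [Category.assoc, d.ip, Category.comp_id] at h3
  rw [h3, p_one]

/-- the projections are minimal at geometric points -/
theorem min_eF (hR : NodeR.{u}) (hG : Red.IsSemisimple G) (k : J) {X : Over V} (hX : IsGeom X) :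
    Min (eF d k X) := by
  refine ⟨eF_not_triv d k hX, fun ψ hψ hle => ?_⟩
  obtain ⟨U, -, h1, h2⟩ := exists_clopen d hR hG hψ k
  have hl : ∀ l, k ≠ l → ∀ (Y : Over V) (g : Y ⟶ G) (x : Y ⟶ X), (lift g x ≫ ψ) ≫ d.p l = 1 := by
    intro l hl Y g x
    rw [← hle.2, lift_eF, ip_p_ne d hl]
  have := IsGeom.subsingleton hX
  obtain ⟨x₀⟩ := IsGeom.nonempty hX
  by_cases hx : x₀ ∈ U
  · left
    intro Y g x
    refine d.ext Y _ _ fun l => ?_
    by_cases hl' : k = l
    · subst hl'
      rw [h1 Y g x, p_one]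
      rintro z -
      rwa [Subsingleton.elim z x₀]
    · rw [hl l hl', p_one]
  · right
    have h3 : ∀ (Y : Over V) (g : Y ⟶ G) (x : Y ⟶ X), lift g x ≫ ψ = lift g x ≫ eF d k X := by
      intro Y g x
      refine d.ext Y _ _ fun l => ?_
      by_cases hl' : k = l
      · subst hl'
        rw [lift_eF, ip_p_self, h2 Y g x]
        rintro z -
        rwa [Subsingleton.elim z x₀]
      · rw [hl l hl', lift_eF, ip_p_ne d hl']
    have h4 := h3 _ (fst G X) (snd G X)
    rwa [lift_fst_snd, Category.id_comp, Category.id_comp] at h4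

theorem sat_eF (hR : NodeR.{u}) (hG : Red.IsSemisimple G) (k : J) (T : Over V) : Sat (eF d k T) := by
  intro X hX t
  rw [eF_pull]
  exact min_eF d hR hG k hX

/-- **Local structure of sections.** -/
theorem loc (hR : NodeR.{u}) (hG : Red.IsSemisimple G) {T : Over V} {φ : G ⊗ T ⟶ G} (hφ : IsIdem φ) (hs : Sat φ) :
    ∃ W : J → T.left.Opens, (∀ x, ∃ k, x ∈ W k) ∧ (∀ k l x, x ∈ W k → x ∈ W l → k = l) ∧
      ∀ (k : J) (X : Over V) (g : X ⟶ G) (t : X ⟶ T), Set.range t.left ⊆ (W k : Set T.left) →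
        lift g t ≫ φ = g ≫ d.p k ≫ d.i k := by
  choose U hU h1 h2 using fun k => exists_clopen d hR hG hφ k
  let W : J → T.left.Opens := fun k => ⟨(U k : Set T.left)ᶜ, (hU k).isOpen_compl⟩
  have hgt : ∀ (x : T.left) (Y : Over V) (g : Y ⟶ G) (y : Y ⟶ gpt x),
      lift g y ≫ (G ◁ gt x) ≫ φ = lift g (y ≫ gt x) ≫ φ := by
    intro x Y g y
    rw [← Category.assoc, lift_whiskerLeft]
  have hex : ∀ x, ∃ k, x ∈ W k := by
    intro x
    by_contra hcon
    push Not at hcon
    apply (hs (gpt x) (isGeom_gpt x) (gt x)).1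
    intro Y g y
    rw [hgt]
    refine d.ext Y _ _ fun k => ?_
    rw [p_one]
    refine h1 k Y g _ (range_comp_gt x y _ ?_)
    by_contra hx
    exact hcon k hx
  have hmin : ∀ (x : T.left) (k : J), x ∈ W k → eF d k (gpt x) = (G ◁ gt x) ≫ φ := by
    intro x k hx
    have hp : ∀ (Y : Over V) (g : Y ⟶ G) (y : Y ⟶ gpt x), (lift g (y ≫ gt x) ≫ φ) ≫ d.p k = g ≫ d.p k :=
      fun Y g y => h2 k Y g _ (range_comp_gt x y _ hx)
    have hle : Le (eF d k (gpt x)) ((G ◁ gt x) ≫ φ) := by
      refine ⟨fun Y g y => ?_, fun Y g y => ?_⟩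
      · rw [lift_eF, lift_eF, hgt, ← Category.assoc, hp, Category.assoc]
      · rw [lift_eF, hgt]
        refine d.ext Y _ _ fun l => ?_
        by_cases hl : k = l
        · subst hl
          rw [hp]
        · rw [comp_p d hG hφ l, ip_p_ne d hl, ← Category.assoc _ (d.p l) (d.i l), ip_p_ne d hl]
          have := d.i_hom l
          rw [MonObj.one_comp, IsIdem.map_one hφ, p_one]
    rcases (hs (gpt x) (isGeom_gpt x) (gt x)).2 (eF d k (gpt x)) (isIdem_eF d k _) hle with h3 | h3
    · exact absurd h3 (eF_not_triv d k (isGeom_gpt x))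
    · exact h3
  have hdisj : ∀ k l x, x ∈ W k → x ∈ W l → k = l := by
    intro k l x hk hl
    by_contra hne
    exact eF_ne d hne (isGeom_gpt x) ((hmin x k hk).trans (hmin x l hl).symm)
  refine ⟨W, hex, hdisj, fun k X g t ht => ?_⟩
  refine d.ext X _ _ fun l => ?_
  by_cases hl : k = l
  · subst hl
    rw [h2 k X g t ht, ip_p_self]
  · rw [ip_p_ne d hl, h1 l X g t]
    intro x hx
    by_contra hx'
    exact hl (hdisj k l x (ht hx) hx')

end loc

end K216.DecLoc
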