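import Groth.Agent.Red.K216.DecSC
import Groth.Agent.Red.K259.Rigid
import Groth.Agent.Red.K798.NodeL2

/-!
# Simply connected groups are Weil restrictions of absolutely simple ones
-/

set_option autoImplicit false
universe u

open CategoryTheory MonoidalCategory CartesianMonoidalCategory MonObj GrpObj AlgebraicGeometry Opposite

namespace K216.DecMain

open K216.DecDef K216.DecRig K216.DecSheaf K216.DecUniv K216.DecSC Groth.Agent.Sga3B.BcPts Groth.Agent.Sga3B

theorem nodeL : NodeL.{u} := by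
  intro V _ G _ D hsc
  exact K798.NodeL.nodeL_of_nodeP (fun D E => K123.SplitProd.nodeP D E) D hsc

theorem nodeR : NodeR.{u} := by
  intro B H _ hH hs φ _ hid heq
  exact K259.Rigid.nodeR hH hs φ hid heq

section phi

variable {V : Scheme.{u}} {H T : Over V} [GrpObj H] {φ : H ⊗ T ⟶ H} (hφ : IsIdem φ)

include hφ

theorem phi_idem : K198.BidK.phi φ ≫ K198.BidK.phi φ = K198.BidK.phi φ := by
  rw [K198.BidK.comp_phi]
  conv_lhs => rw [K198.BidK.phi]
  rw [Equiv.symm_apply_apply, hφ.idem]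
  rfl

theorem phi_equi (X : Over T.left) (h g : X ⟶ Red.bc T.hom H) :
    (h * g * h⁻¹) ≫ K198.BidK.phi φ = h * (g ≫ K198.BidK.phi φ) * h⁻¹ := by
  rw [K198.BidK.comp_phi, K198.BidK.comp_phi]
  have e1 : (bcEquiv T.hom X H).symm (h * g * h⁻¹) =
      (bcEquiv T.hom X H).symm h * (bcEquiv T.hom X H).symm g * ((bcEquiv T.hom X H).symm h)⁻¹ := by
    have e0 := map_mul_inv (bcMulEquiv T.hom X H).symm (h * g) h
    rw [map_mul (bcMulEquiv T.hom X H).symm h g] at e0
    exact e0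
  rw [e1, hφ.equi, bcEquiv_mul, bcEquiv_mul, Equiv.apply_symm_apply]
  congr 1
  have e2 := map_inv (bcMulEquiv T.hom X H) ((bcEquiv T.hom X H).symm h)
  have e3 : (bcMulEquiv T.hom X H) ((bcEquiv T.hom X H).symm h) = h := Equiv.apply_symm_apply _ _
  rw [e3] at e2
  exact e2

end phi

theorem main {S : Scheme.{u}} {G : Over S} [GrpObj G]
    (hG : Red.IsSemisimple G) (hnt : ∀ s : S, ¬ Red.IsTrivialGrp (Red.geomFibre s G))
    (hsc : ∀ (s : S) (D : Red.SplitRed (Red.geomFibre s G)), Submodule.span ℤ (Set.range D.P.coroot) = ⊤) :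
    ∃ (S' : Scheme.{u}) (f : S' ⟶ S), IsFinite f ∧ Etale f ∧ Surjective f ∧
      ∃ (G' : Over S') (_ : GrpObj G') (q : Red.bc f G ⟶ G') (_ : IsMonHom q),
        Red.IsSemisimple G' ∧ SimpleFibres G' ∧
        (∀ (s' : S') (D' : Red.SplitRed (Red.geomFibre s' G')), Submodule.span ℤ (Set.range D'.P.coroot) = ⊤) ∧
        WeilRes.IsWeilRes f G' G q := by
  obtain ⟨A, ⟨r⟩, hfin, het, hsur⟩ := exists_rep nodeL nodeR hG hnt hsc
  have hφ := isIdem_univ r
  have hm := K198.BidK.isMonHom_phi hφ.hom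
  have heq := phi_equi hφ
  obtain ⟨G', _, i, q, mi, mq, -, hiq, hqi, -, hG'⟩ :=
    K502.FixIdem.nodeF (RedBcAny636.isSemisimple_bc A.hom hG) (K198.BidK.phi (univ r)) (phi_idem hφ) heq
  refine ⟨A.left, A.hom, hfin, het, hsur, G', inferInstance, q, mq, hG',
    DecStar.simpleFibres nodeL nodeR hG hnt hsc r hiq hqi, ?_,
    DecWeil.isWeilRes nodeL nodeR hG hnt hsc r hiq hqi⟩
  refine sc_factor hG hsc A.hom i q hiq ?_
  rw [hqi]
  exact heq

end K216.DecMain
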