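import Groth.Agent.Red.K216.DecLoc

/-!
# Representability of the sheaf of simple projections of a decomposed group by a finite disjoint union
-/

set_option autoImplicit false
universe u

open CategoryTheory MonoidalCategory CartesianMonoidalCategory MonObj GrpObj AlgebraicGeometry Opposite

namespace K216.DecRep

open K216.DecDef K216.DecFam K216.DecRig K216.DecSheaf K216.DecLoc Groth.Agent.Sga3B.BcPts
  Groth.Agent.Sga3B.RepDescent

/-- a universal section gives a representation -/
noncomputable def repOfUniversal {C : Type*} [Category.{u} C] {F : Cᵒᵖ ⥤ Type u} {A : C} (υ : F.obj (op A))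
    (h : ∀ (T : C) (y : F.obj (op T)), ∃! a : T ⟶ A, F.map a.op υ = y) : F.RepresentableBy A where
  homEquiv {T} := Equiv.ofBijective (fun a => F.map a.op υ) (by
    constructor
    · intro a b hab
      exact (h T (F.map b.op υ)).unique hab rfl
    · intro y
      exact (h T y).exists)
  homEquiv_comp f g := by
    change F.map (f ≫ g).op υ = F.map f.op (F.map g.op υ)
    rw [op_comp, Functor.map_comp_apply]

section copies

variable (V : Scheme.{u}) (J : Type)

/-- The disjoint union of copies of the base. -/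
noncomputable def copies : Over V := Over.mk (Limits.Sigma.desc (fun _ : ULift.{u} J => 𝟙 V))

variable {V J}

/-- The inclusion of a copy. -/
noncomputable def inc (k : J) : Over.mk (𝟙 V) ⟶ copies V J :=
  Over.homMk (Limits.Sigma.ι (fun _ : ULift.{u} J => V) ⟨k⟩) (by simp [copies])

instance (k : J) : IsOpenImmersion (inc (V := V) k).left :=
  inferInstanceAs (IsOpenImmersion (Limits.Sigma.ι (fun _ : ULift.{u} J => V) ⟨k⟩))

instance (k : J) : Mono (inc (V := V) k) :=
  (Over.forget V).mono_of_mono_map (inferInstanceAs (Mono (Limits.Sigma.ι (fun _ : ULift.{u} J => V) ⟨k⟩)))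

theorem exists_inc_eq (b : (copies V J).left) : ∃ (k : ULift.{u} J) (v : V), (inc k.down).left v = b := by
  obtain ⟨⟨k, y⟩, hy⟩ := (sigmaMk (fun _ : ULift.{u} J => V)).surjective b
  exact ⟨k, y, (sigmaMk_mk (fun _ : ULift.{u} J => V) k y).symm.trans hy⟩

theorem isEmpty_of_ne {k l : J} (h : k ≠ l) {R : Over V} (a b : R ⟶ Over.mk (𝟙 V))
    (hab : a ≫ inc k = b ≫ inc (J := J) l) : IsEmpty R.left := by
  have h1 : CommSq a.left b.left (Limits.Sigma.ι (fun _ : ULift.{u} J => V) ⟨k⟩)
      (Limits.Sigma.ι (fun _ : ULift.{u} J => V) ⟨l⟩) := ⟨congrArg (fun z => z.left) hab⟩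
  exact isEmpty_of_commSq_sigmaι_of_ne (g := fun _ : ULift.{u} J => V) (i := ⟨k⟩) (j := ⟨l⟩) h1
    (fun h' => h (congrArg ULift.down h'))

set_option backward.isDefEq.respectTransparency false in
theorem etale_copies : Etale (copies V J).hom := by
  refine (IsZariskiLocalAtSource.iff_of_openCover (P := @Etale) (sigmaOpenCover (fun _ : ULift.{u} J => V))).2
    fun k => ?_
  have h : Limits.Sigma.ι (fun _ : ULift.{u} J => V) k ≫ Limits.Sigma.desc (fun _ : ULift.{u} J => 𝟙 V) = 𝟙 V :=
    Limits.Sigma.ι_desc _ _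
  change Etale (Limits.Sigma.ι (fun _ : ULift.{u} J => V) k ≫ Limits.Sigma.desc (fun _ : ULift.{u} J => 𝟙 V))
  rw [h]
  infer_instance

theorem surjective_copies [Nonempty J] : Surjective (copies V J).hom := by
  obtain ⟨k⟩ := ‹Nonempty J›
  refine ⟨fun x => ⟨(inc k).left x, ?_⟩⟩
  rw [← Scheme.Hom.comp_apply, Over.w]
  rfl

set_option backward.isDefEq.respectTransparency false in
theorem isFinite_copies (R : CommRingCat.{u}) [Finite J] : IsFinite (copies (Spec R) J).hom := by
  let e := sigmaSpec (fun _ : ULift.{u} J => R)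
  have h1 : e ≫ Spec.map (CommRingCat.ofHom (algebraMap R (∀ _ : ULift.{u} J, R))) = (copies (Spec R) J).hom := by
    refine Limits.Sigma.hom_ext _ _ fun k => ?_
    rw [ι_sigmaSpec_assoc, ← Spec.map_comp]
    change _ = Limits.Sigma.ι (fun _ : ULift.{u} J => Spec R) k ≫ Limits.Sigma.desc _
    rw [Limits.Sigma.ι_desc]
    rw [← Spec.map_id]
    congr 1
  rw [← h1]
  have h3 : IsIso e := inferInstanceAs (IsIso (sigmaSpec (fun _ : ULift.{u} J => R)))
  have h2 : IsFinite (Spec.map (CommRingCat.ofHom (algebraMap R (∀ _ : ULift.{u} J, R)))) := by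
    rw [IsFinite.SpecMap_iff, CommRingCat.hom_ofHom, RingHom.finite_algebraMap]
    infer_instance
  exact (MorphismProperty.cancel_left_of_respectsIso @IsFinite e _).2 h2

end copies

section empty

variable {V : Scheme.{u}}

theorem hom_ext_of_isEmpty {X Y : Over V} [IsEmpty X.left] (a b : X ⟶ Y) : a = b := by
  apply Over.OverMorphism.ext
  exact (isInitialOfIsEmpty (X := X.left)).hom_ext _ _

theorem tensor_hom_ext_of_isEmpty {G X Y : Over V} [IsEmpty X.left] (a b : G ⊗ X ⟶ Y) : a = b := by
  have : IsEmpty (G ⊗ X).left := Function.isEmpty (snd G X).left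
  exact hom_ext_of_isEmpty a b

end empty

section rep

variable {V : Scheme.{u}} {G : Over V} [GrpObj G] {J : Type} (d : Dec G J)

/-- the `k`-th projection as a section of the sheaf -/
noncomputable def sec (hR : NodeR.{u}) (hG : Red.IsSemisimple G) (k : J) (T : Over V) : (F G).obj (op T) :=
  (⟨eF d k T, isIdem_eF d k T, sat_eF d hR hG k T⟩ : {y : (famF G G).obj (op T) // P G T y})

theorem sec_map (hR : NodeR.{u}) (hG : Red.IsSemisimple G) (k : J) {T T' : Over V} (f : T' ⟶ T) :
    (F G).map f.op (sec d hR hG k T) = sec d hR hG k T' :=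
  Subtype.ext (eF_pull d k f)

theorem sec_ne (hR : NodeR.{u}) (hG : Red.IsSemisimple G) {k l : J} {T : Over V} (hT : Nonempty T.left)
    (h : sec d hR hG k T = sec d hR hG l T) : k = l := by
  by_contra hne
  obtain ⟨x⟩ := hT
  have h1 := congrArg ((F G).map (gt x).op) h
  rw [sec_map, sec_map] at h1
  exact eF_ne d hne (isGeom_gpt x) (congrArg Subtype.val h1)

/-- sections of the sheaf are determined by their restrictions to empty-or-open parts -/
theorem F_ext_of_isEmpty {T : Over V} [IsEmpty T.left] (a b : (F G).obj (op T)) : a = b := by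
  apply Subtype.ext
  exact tensor_hom_ext_of_isEmpty (G := G) (X := T) (Y := G) a.1 b.1

theorem exists_universal (hR : NodeR.{u}) (hG : Red.IsSemisimple G) :
    ∃ υ : (F G).obj (op (copies V J)), (∀ k : J, (F G).map (inc k).op υ = sec d hR hG k (Over.mk (𝟙 V))) ∧
      ∀ (T : Over V) (y : (F G).obj (op T)), ∃! a : T ⟶ copies V J, (F G).map a.op υ = y := by
  obtain ⟨υ, hυ, -⟩ := isEtSheaf_F G (T := copies V J) (fun _ : ULift.{u} J => Over.mk (𝟙 V))
    (fun k => inc k.down) (fun k => inferInstance) exists_inc_eq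
    (fun k => sec d hR hG k.down (Over.mk (𝟙 V))) (by
      intro k l R a b hab
      by_cases h : k.down = l.down
      · have h' : k = l := ULift.ext _ _ h
        subst h'
        rw [(cancel_mono (inc k.down)).1 hab]
      · have := isEmpty_of_ne h a b hab
        exact F_ext_of_isEmpty _ _)
  have hυ' : ∀ k : J, (F G).map (inc k).op υ = sec d hR hG k (Over.mk (𝟙 V)) := fun k => hυ ⟨k⟩
  -- the restriction of the universal section along a map factoring through the k-th copy
  have hfac : ∀ (k : J) (R : Over V) (a : R ⟶ Over.mk (𝟙 V)),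
      (F G).map (a ≫ inc k).op υ = sec d hR hG k R := by
    intro k R a
    rw [op_comp, Functor.map_comp_apply, hυ', sec_map]
  refine ⟨υ, hυ', fun T y => ?_⟩
  have hunit : ∀ {R : Over V} (a b : R ⟶ Over.mk (𝟙 V)), a = b := fun a b => Over.mkIdTerminal.hom_ext a b
  have hinj : ∀ a a' : T ⟶ copies V J, (F G).map a.op υ = (F G).map a'.op υ → a = a' := by
    intro a a' haa
    -- the cover of `T` by the loci where `a` is in the k-th and `a'` in the l-th copy
    let I := ULift.{u} (J × J)
    let O : I → T.left.Opens := fun kl =>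
      (a.left ⁻¹ᵁ (inc (V := V) kl.down.1).left.opensRange) ⊓ (a'.left ⁻¹ᵁ (inc (V := V) kl.down.2).left.opensRange)
    let T' : I → Over V := fun kl => Over.mk ((O kl).ι ≫ T.hom)
    let f : ∀ kl, T' kl ⟶ T := fun kl => Over.homMk (O kl).ι
    have hf : ∀ kl, Etale (f kl).left := fun kl => inferInstanceAs (Etale (O kl).ι)
    have hT : ∀ t : T.left, ∃ (kl : I) (t' : (T' kl).left), (f kl).left t' = t := by
      intro t
      obtain ⟨k, v, hv⟩ := exists_inc_eq (a.left t)
      obtain ⟨l, w, hw⟩ := exists_inc_eq (a'.left t)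
      exact ⟨⟨(k.down, l.down)⟩, ⟨t, ⟨v, hv⟩, ⟨w, hw⟩⟩, rfl⟩
    have hlift : ∀ (kl : I), ∃ c c' : T' kl ⟶ Over.mk (𝟙 V),
        f kl ≫ a = c ≫ inc kl.down.1 ∧ f kl ≫ a' = c' ≫ inc kl.down.2 := by
      intro kl
      have h1 : Set.range (f kl ≫ a).left ⊆ Set.range (inc (V := V) kl.down.1).left := by
        rintro _ ⟨z, rfl⟩
        exact z.2.1
      have h2 : Set.range (f kl ≫ a').left ⊆ Set.range (inc (V := V) kl.down.2).left := by
        rintro _ ⟨z, rfl⟩
        exact z.2.2
      refine ⟨Over.homMk (IsOpenImmersion.lift (inc (V := V) kl.down.1).left (f kl ≫ a).left h1) ?_,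
        Over.homMk (IsOpenImmersion.lift (inc (V := V) kl.down.2).left (f kl ≫ a').left h2) ?_, ?_, ?_⟩
      · rw [← Over.w (inc (V := V) kl.down.1), IsOpenImmersion.lift_fac_assoc, Over.w]
      · rw [← Over.w (inc (V := V) kl.down.2), IsOpenImmersion.lift_fac_assoc, Over.w]
      · apply Over.OverMorphism.ext
        exact (IsOpenImmersion.lift_fac _ _ h1).symm
      · apply Over.OverMorphism.ext
        exact (IsOpenImmersion.lift_fac _ _ h2).symm
    refine hom_ext_cover T' f hf hT (𝟙 T) a a' fun kl R p q hpq => ?_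
    rw [Category.comp_id] at hpq
    subst hpq
    obtain ⟨c, c', hc, hc'⟩ := hlift kl
    rcases isEmpty_or_nonempty (T' kl).left with he | hne
    · have : IsEmpty R.left := Function.isEmpty q.left
      exact hom_ext_of_isEmpty _ _
    · have h1 : sec d hR hG kl.down.1 (T' kl) = sec d hR hG kl.down.2 (T' kl) := by
        rw [← hfac kl.down.1 (T' kl) c, ← hfac kl.down.2 (T' kl) c', ← hc, ← hc', op_comp, op_comp,
          Functor.map_comp_apply, Functor.map_comp_apply, haa]
      have h2 := sec_ne d hR hG hne h1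
      rw [Category.assoc, Category.assoc, hc, hc', h2, hunit c c']
  -- existence
  obtain ⟨W, hW1, hW2, hW3⟩ := loc d hR hG (T := T) (φ := y.1) y.2.1 y.2.2
  let I := ULift.{u} J
  let T' : I → Over V := fun k => Over.mk ((W k.down).ι ≫ T.hom)
  let f : ∀ k, T' k ⟶ T := fun k => Over.homMk (W k.down).ι
  let un : ∀ k, T' k ⟶ Over.mk (𝟙 V) := fun k => Over.homMk (T' k).hom
  have hf : ∀ k, Etale (f k).left := fun k => inferInstanceAs (Etale (W k.down).ι)
  have hT : ∀ t : T.left, ∃ (k : I) (t' : (T' k).left), (f k).left t' = t := by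
    intro t
    obtain ⟨k, hk⟩ := hW1 t
    exact ⟨⟨k⟩, ⟨t, hk⟩, rfl⟩
  obtain ⟨a, ha, -⟩ := isEtSheaf_yoneda (copies V J) T' f hf hT (fun k => un k ≫ inc k.down) (by
    intro k l R p q hpq
    change p ≫ un k ≫ inc k.down = q ≫ un l ≫ inc l.down
    by_cases h : k.down = l.down
    · have h' : k = l := ULift.ext _ _ h
      subst h'
      rw [← Category.assoc, ← Category.assoc, hunit (p ≫ un k) (q ≫ un k)]
    · have : IsEmpty R.left := by
        refine ⟨fun z => h ?_⟩
        have e1 : (f k).left (p.left z) = (f l).left (q.left z) := by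
          rw [← Scheme.Hom.comp_apply, ← Scheme.Hom.comp_apply, ← Over.comp_left, ← Over.comp_left, hpq]
        have e2 : (f k).left (p.left z) ∈ W k.down := (p.left z).2
        have e3 : (f l).left (q.left z) ∈ W l.down := (q.left z).2
        rw [← e1] at e3
        exact hW2 _ _ _ e2 e3
      exact hom_ext_of_isEmpty _ _)
  have ha' : ∀ k, f k ≫ a = un k ≫ inc k.down := ha
  have hex : (F G).map a.op υ = y := by
    obtain ⟨w, -, hw⟩ := isEtSheaf_F G T' f hf hT (fun k => (F G).map (f k).op y) (by
      intro k l R p q hpq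
      rw [← Functor.map_comp_apply, ← Functor.map_comp_apply, ← op_comp, ← op_comp, hpq])
    rw [hw y fun _ => rfl]
    apply hw
    intro k
    have e1 : (F G).map (f k).op ((F G).map a.op υ) = sec d hR hG k.down (T' k) := by
      rw [← Functor.map_comp_apply, ← op_comp, ha' k, hfac]
    rw [e1]
    apply Subtype.ext
    change eF d k.down (T' k) = (G ◁ f k) ≫ y.1
    have e2 := hW3 k.down _ (fst G (T' k)) (snd G (T' k) ≫ f k) (by
      rintro _ ⟨z, rfl⟩
      exact ((snd G (T' k)).left z).2)
    have e3 : G ◁ f k = lift (fst G (T' k)) (snd G (T' k) ≫ f k) := by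
      apply CartesianMonoidalCategory.hom_ext <;> simp
    rw [e3]
    exact e2.symm
  exact ⟨a, hex, fun a' h => hinj _ _ (h.trans hex.symm)⟩

include d in
/-- The sheaf of simple projections of a decomposed group is represented by a disjoint union of copies of the base. -/
theorem nonempty_rep (hR : NodeR.{u}) (hG : Red.IsSemisimple G) : Nonempty ((F G).RepresentableBy (copies V J)) := by
  obtain ⟨υ, -, h⟩ := exists_universal d hR hG
  exact ⟨repOfUniversal υ h⟩

end rep

end K216.DecRep
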