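import Groth.Agent.Red.K216.DecStar
import Groth.Agent.Red.K502.FixIdem
import Groth.Agent.Red.K123.SplitProd

/-!
# Simply connected direct factors

* `exists_compl`: the kernel of an equivariant retraction of a semisimple group is a complementary direct factor;
* `span_factor`: a direct factor of a simply connected group over an algebraically closed field is simply connected;
* `sc_factor`: the same for the geometric fibres.
-/

set_option autoImplicit false
universe u

open CategoryTheory MonoidalCategory CartesianMonoidalCategory MonObj GrpObj AlgebraicGeometry Opposite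

namespace K216.DecSC

open K216.DecDef K216.DecUniv Groth.Agent.Sga3B.BcPts Groth.Agent.Sga3B Groth.Agent.Sga3B.SplitIso848
  Groth.Agent.Sga3B.BcNat Groth.Agent.Sga3B.SplitBc264

section compl

variable {B : Scheme.{u}} {G F : Over B} [GrpObj G] [GrpObj F] (i : F ⟶ G) (q : G ⟶ F) [IsMonHom i] [IsMonHom q]

/-- **The complementary direct factor.** -/
theorem exists_compl (hG : Red.IsSemisimple G) (hiq : i ≫ q = 𝟙 F)
    (heq : ∀ (X : Over B) (h g : X ⟶ G), (h * g * h⁻¹) ≫ q ≫ i = h * (g ≫ q ≫ i) * h⁻¹) :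
    ∃ (C : Over B) (_ : GrpObj C), Red.IsSemisimple C ∧ Nonempty (Grp.mk G ≅ Grp.mk (F ⊗ C)) := by
  -- the kernel of `q` commutes with the image of `i`
  have hcomm : ∀ (X : Over B) (k : X ⟶ G) (f : X ⟶ F), k ≫ q = 1 → k * (f ≫ i) = (f ≫ i) * k := by
    intro X k f hk
    have h1 := heq X k (f ≫ i)
    have h2' : (k * (f ≫ i) * k⁻¹) ≫ q = f := by
      rw [MonObj.mul_comp, MonObj.mul_comp, GrpObj.inv_comp, hk, Category.assoc, hiq, Category.comp_id,
        inv_one, _root_.mul_one, _root_.one_mul]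
    have h2 : (k * (f ≫ i) * k⁻¹) ≫ q ≫ i = f ≫ i := by
      rw [← Category.assoc, h2']
    rw [h2, Category.assoc, reassoc_of% hiq, eq_mul_inv_iff_mul_eq] at h1
    exact h1.symm
  let ψ : G ⟶ G := 𝟙 G * (q ≫ i)⁻¹
  have hψ : ∀ (X : Over B) (g : X ⟶ G), g ≫ ψ = g * (g ≫ q ≫ i)⁻¹ := by
    intro X g
    simp only [ψ]
    rw [MonObj.comp_mul, Category.comp_id, GrpObj.comp_inv]
  have hψq : ∀ (X : Over B) (g : X ⟶ G), (g ≫ ψ) ≫ q = 1 := by
    intro X g
    rw [hψ, MonObj.mul_comp, GrpObj.inv_comp, Category.assoc, Category.assoc, hiq, Category.comp_id, mul_inv_cancel]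
  have hψm : IsMonHom ψ := by
    refine RG.BrHc.isMonHom_of_mul ψ fun X x y => ?_
    have h1 : (x * y) ≫ q ≫ i = (x ≫ q ≫ i) * (y ≫ q ≫ i) := MonObj.mul_comp _ _ _
    have h2 := hcomm X (y ≫ ψ) (x⁻¹ ≫ q) (hψq X y)
    have h3 : (x⁻¹ ≫ q) ≫ i = (x ≫ q ≫ i)⁻¹ := by
      rw [Category.assoc]
      exact GrpObj.inv_comp _ _
    rw [h3] at h2
    rw [hψ X (x * y), h1, _root_.mul_inv_rev, hψ X x, _root_.mul_assoc x y, ← _root_.mul_assoc y, ← hψ X y, h2,
      _root_.mul_assoc]
  have hψψ : ψ ≫ ψ = ψ := by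
    rw [hψ, ← Category.assoc]
    have := hψq G (𝟙 G)
    rw [Category.id_comp] at this
    rw [this, MonObj.one_comp, inv_one, _root_.mul_one]
  have hψe : ∀ (X : Over B) (h g : X ⟶ G), (h * g * h⁻¹) ≫ ψ = h * (g ≫ ψ) * h⁻¹ := by
    intro X h g
    rw [hψ, heq, hψ]
    group
  obtain ⟨C, _, j, p, mj, mp, -, hjp, hpj, -, hC⟩ := K502.FixIdem.nodeF hG ψ hψψ hψe
  refine ⟨C, inferInstance, hC, ?_⟩
  have hmi : Mono i := ⟨fun a b hab => by
    have := congrArg (fun z => z ≫ q) hab
    simpa only [Category.assoc, hiq, Category.comp_id] using this⟩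
  have hmj : Mono j := ⟨fun a b hab => by
    have := congrArg (fun z => z ≫ p) hab
    simpa only [Category.assoc, hjp, Category.comp_id] using this⟩
  have hjq : ∀ (X : Over B) (c : X ⟶ C), (c ≫ j) ≫ q = 1 := by
    intro X c
    have h1 : c ≫ j = (c ≫ j) ≫ ψ := by
      rw [← hpj, Category.assoc, reassoc_of% hjp]
    rw [h1]
    exact hψq X _
  have hip : ∀ (X : Over B) (f : X ⟶ F), (f ≫ i) ≫ p = 1 := by
    intro X f
    rw [← cancel_mono j, Category.assoc, hpj, hψ, Category.assoc, reassoc_of% hiq, mul_inv_cancel, MonObj.one_comp]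
  let u : G ⟶ F ⊗ C := lift q p
  let u' : F ⊗ C ⟶ G := (snd F C ≫ j) * (fst F C ≫ i)
  have h1 : u ≫ u' = 𝟙 G := by
    simp only [u, u']
    rw [MonObj.comp_mul, lift_snd_assoc, lift_fst_assoc, hpj]
    have := hψ G (𝟙 G)
    rw [Category.id_comp, Category.id_comp] at this
    rw [this, inv_mul_cancel_right]
  have h2 : u' ≫ u = 𝟙 _ := by
    simp only [u]
    rw [comp_lift]
    have e1 : u' ≫ q = fst F C := by
      simp only [u']
      rw [MonObj.mul_comp, hjq, _root_.one_mul, Category.assoc, hiq, Category.comp_id]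
    have e2 : u' ≫ p = snd F C := by
      simp only [u']
      rw [MonObj.mul_comp, hip, _root_.mul_one, Category.assoc, hjp, Category.comp_id]
    rw [e1, e2, lift_fst_snd]
  have m : IsMonHom u := inferInstance
  let e : G ≅ F ⊗ C := ⟨u, u', h1, h2⟩
  have m' : IsMonHom e.hom := m
  exact ⟨Grp.mkIso' e⟩

/-- equivariance is stable under base change -/
theorem equi_bc {B' : Scheme.{u}} (t : B' ⟶ B) {φ : G ⟶ G}
    (heq : ∀ (X : Over B) (h g : X ⟶ G), (h * g * h⁻¹) ≫ φ = h * (g ≫ φ) * h⁻¹) (X : Over B')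
    (h g : X ⟶ Red.bc t G) : (h * g * h⁻¹) ≫ (Over.pullback t).map φ = h * (g ≫ (Over.pullback t).map φ) * h⁻¹ := by
  have e0 : ∀ (h g : X ⟶ Red.bc t G), (bcEquiv t X G).symm (h * g * h⁻¹) =
      (bcEquiv t X G).symm h * (bcEquiv t X G).symm g * ((bcEquiv t X G).symm h)⁻¹ := by
    intro h g
    have e0 := map_mul_inv (bcMulEquiv t X G).symm (h * g) h
    rw [map_mul (bcMulEquiv t X G).symm h g] at e0
    exact e0
  apply (bcEquiv t X G).symm.injective
  rw [bcEquiv_symm_comp, e0, heq, e0, bcEquiv_symm_comp]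

end compl

section span

open Groth.Agent.Sga3B.RedIso

theorem span_prod {σ κ M N : Type} [AddCommGroup M] [AddCommGroup N] [Module.Finite ℤ M] [Module.Free ℤ M]
    [Module.Finite ℤ N] [Module.Free ℤ N]
    (P : RootPairing σ ℤ M (Module.Dual ℤ M)) (Q : RootPairing κ ℤ N (Module.Dual ℤ N))
    (hP : P.toLinearMap = Module.Dual.eval ℤ M) (hQ : Q.toLinearMap = Module.Dual.eval ℤ N)
    (h : Submodule.span ℤ (Set.range (prodPairing P Q hP hQ).coroot) = ⊤) :
    Submodule.span ℤ (Set.range P.coroot) = ⊤ := by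
  let ρ : Module.Dual ℤ (M × N) →ₗ[ℤ] Module.Dual ℤ M := (LinearMap.inl ℤ M N).dualMap
  have hρ : Function.Surjective ρ := by
    intro f
    refine ⟨f.comp (LinearMap.fst ℤ M N), ?_⟩
    refine LinearMap.ext fun m => ?_
    simp [ρ]
  have h1 : Submodule.map ρ (Submodule.span ℤ (Set.range (prodPairing P Q hP hQ).coroot)) = ⊤ := by
    rw [h, Submodule.map_top, LinearMap.range_eq_top]
    exact hρ
  rw [eq_top_iff, ← h1, Submodule.map_span_le]
  rintro _ ⟨a | b, rfl⟩
  · have h2 : ρ ((prodPairing P Q hP hQ).coroot (Sum.inl a)) = P.coroot a := by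
      refine LinearMap.ext fun m => ?_
      change prodCoroot P Q (Sum.inl a) (m, 0) = _
      rw [prodCoroot_inl]
    rw [h2]
    exact Submodule.subset_span ⟨a, rfl⟩
  · have h2 : ρ ((prodPairing P Q hP hQ).coroot (Sum.inr b)) = 0 := by
      refine LinearMap.ext fun m => ?_
      change prodCoroot P Q (Sum.inr b) (m, 0) = _
      rw [prodCoroot_inr, map_zero]
      rfl
    rw [h2]
    exact Submodule.zero_mem _

/-- **Direct factors of simply connected groups over an algebraically closed field.** -/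
theorem span_factor {K : Type u} [Field K] [IsAlgClosed K] {G F C : Over (Spec (CommRingCat.of K))} [GrpObj G] [GrpObj F]
    [GrpObj C] (hC : Red.IsSemisimple C) (e : Grp.mk G ≅ Grp.mk (F ⊗ C)) (D₀ : Red.SplitRed G)
    (h₀ : Submodule.span ℤ (Set.range D₀.P.coroot) = ⊤) (D : Red.SplitRed F) :
    Submodule.span ℤ (Set.range D.P.coroot) = ⊤ := by
  obtain ⟨E⟩ := K499.SepSplit.exists_splitRed K C (K198.DerSS.isReductive_of_isSemisimple hC)
  obtain ⟨D₁, ⟨e₁⟩⟩ := K123.SplitProd.nodeP D E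
  obtain ⟨e₂⟩ := K195.TypeLoc.rootData_unique D₀ (splitOfIso e.symm D₁)
  have h1 : Submodule.span ℤ (Set.range D₁.P.coroot) = ⊤ := span_of_equiv e₂ h₀
  exact span_prod _ _ D.pairing_eq E.pairing_eq (span_of_equiv e₁ h1)

/-- **Geometric fibres of direct factors of simply connected groups.** -/
theorem sc_factor {S : Scheme.{u}} {G : Over S} [GrpObj G] (hG : Red.IsSemisimple G)
    (hsc : ∀ (s : S) (D : Red.SplitRed (Red.geomFibre s G)), Submodule.span ℤ (Set.range D.P.coroot) = ⊤)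
    {S' : Scheme.{u}} (f : S' ⟶ S) {G' : Over S'} [GrpObj G'] (i : G' ⟶ Red.bc f G) (q : Red.bc f G ⟶ G')
    [IsMonHom i] [IsMonHom q] (hiq : i ≫ q = 𝟙 G')
    (heq : ∀ (X : Over S') (h g : X ⟶ Red.bc f G), (h * g * h⁻¹) ≫ q ≫ i = h * (g ≫ q ≫ i) * h⁻¹)
    (s' : S') (D' : Red.SplitRed (Red.geomFibre s' G')) : Submodule.span ℤ (Set.range D'.P.coroot) = ⊤ := by
  let t := Red.geomPt s'
  have hGt : Red.IsSemisimple (Red.bc t (Red.bc f G)) :=
    RedBcAny636.isSemisimple_bc t (RedBcAny636.isSemisimple_bc f hG)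
  have hiq' : (Over.pullback t).map i ≫ (Over.pullback t).map q = 𝟙 _ := by
    rw [← Functor.map_comp, hiq, CategoryTheory.Functor.map_id]
  obtain ⟨C, _, hC, ⟨e⟩⟩ := exists_compl ((Over.pullback t).map i) ((Over.pullback t).map q) hGt hiq' (by
    intro X h g
    rw [← Functor.map_comp]
    exact equi_bc t heq X h g)
  have hred' : Red.IsReductive (Red.geomFibre (f s') G) :=
    RedBcAny636.isReductive_bc _ (K198.DerSS.isReductive_of_isSemisimple hG)
  obtain ⟨D₀⟩ := K499.SepSplit.exists_splitRed _ _ hred'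
  obtain ⟨θ, hθ⟩ := MaxTorBc636.exists_geomPt f s'
  exact span_factor hC e (splitOfIso (fibIso hθ G).symm (splitBc θ D₀)) (hsc _ D₀) D'

end span

end K216.DecSC
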