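import Groth.Agent.Red.K216.DecFam
import Groth.Agent.Sga3B.RepDescent9
import Groth.Agent.Sga3.H819.ClosedOrbit

/-!
# The sheaf of simple projections

For a group scheme `G` over `S` the functor `F G` of equivariant idempotent families which are, at all geometric points,
minimal among the non-trivial ones.

* `isEtSheaf_F`: it is an étale sheaf;
* `FIso`: it commutes with base change.
-/

set_option autoImplicit false
universe u

open CategoryTheory MonoidalCategory CartesianMonoidalCategory MonObj GrpObj AlgebraicGeometry Opposite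

namespace K216.DecSheaf

open K216.DecDef K216.DecFam Groth.Agent.Sga3B.BcPts Groth.Agent.Sga3B.RepDescent

section defs

variable {S : Scheme.{u}} {G : Over S} [GrpObj G]

/-- Geometric points. -/
def IsGeom (X : Over S) : Prop :=
  ∃ (K : Type u) (_ : Field K) (_ : IsAlgClosed K), Nonempty (X.left ≅ Spec (CommRingCat.of K))

/-- trivial families -/
def Triv {X : Over S} (ψ : G ⊗ X ⟶ G) : Prop := ∀ (Y : Over S) (g : Y ⟶ G) (x : Y ⟶ X), lift g x ≫ ψ = 1

/-- the order on idempotents -/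
def Le {X : Over S} (ψ φ : G ⊗ X ⟶ G) : Prop :=
  (∀ (Y : Over S) (g : Y ⟶ G) (x : Y ⟶ X), lift (lift g x ≫ φ) x ≫ ψ = lift g x ≫ ψ) ∧
    ∀ (Y : Over S) (g : Y ⟶ G) (x : Y ⟶ X), lift (lift g x ≫ ψ) x ≫ φ = lift g x ≫ ψ

/-- minimal non-trivial idempotents -/
def Min {X : Over S} (φ : G ⊗ X ⟶ G) : Prop :=
  ¬ Triv φ ∧ ∀ ψ : G ⊗ X ⟶ G, IsIdem ψ → Le ψ φ → Triv ψ ∨ ψ = φ

/-- minimality at all geometric points -/
def Sat {T : Over S} (φ : G ⊗ T ⟶ G) : Prop :=
  ∀ (X : Over S), IsGeom X → ∀ t : X ⟶ T, Min ((G ◁ t) ≫ φ)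

/-- the predicate defining the sheaf -/
def P (G : Over S) [GrpObj G] (T : Over S) (φ : (famF G G).obj (op T)) : Prop :=
  IsIdem (T := T) φ ∧ Sat (T := T) φ

theorem Sat.pull {T T' : Over S} {φ : G ⊗ T ⟶ G} (h : Sat φ) (f : T' ⟶ T) : Sat ((G ◁ f) ≫ φ) := by
  intro X hX t
  rw [← Category.assoc, ← MonoidalCategory.whiskerLeft_comp]
  exact h X hX (t ≫ f)

theorem P_map {T T' : Over S} (f : T' ⟶ T) (φ : (famF G G).obj (op T)) (h : P G T φ) :
    P G T' ((famF G G).map f.op φ) := by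
  have h1 : IsIdem (T := T) φ := h.1
  have h2 : Sat (T := T) φ := h.2
  exact ⟨IsIdem.pull h1 f, Sat.pull h2 f⟩

/-- The sheaf of simple projections. -/
noncomputable def F (G : Over S) [GrpObj G] : (Over S)ᵒᵖ ⥤ Type u := subF (famF G G) (P G) (P_map (G := G))

end defs

section sheaf

variable {S : Scheme.{u}} {G : Over S} [GrpObj G]

theorem isIdem_of_cover {T : Over S} {J : Type u} (T' : J → Over S) (f : ∀ i, T' i ⟶ T)
    (hf : ∀ i, Etale (f i).left) (hT : ∀ t : T.left, ∃ (i : J) (t' : (T' i).left), (f i).left t' = t)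
    (φ : G ⊗ T ⟶ G) (h : ∀ i, IsIdem ((G ◁ f i) ≫ φ)) : IsIdem φ where
  hom := isHomFamily_of_cover G G T' f hf hT φ fun i => (h i).hom
  idem X g t := by
    refine hom_ext_cover T' f hf hT t _ _ fun i R p q hpq => ?_
    have h1 := (h i).idem R (p ≫ g) q
    simp only [← Category.assoc, lift_whiskerLeft] at h1
    rw [← hpq] at h1
    simp only [← Category.assoc, comp_lift]
    exact h1
  equi X a g t := by
    refine hom_ext_cover T' f hf hT t _ _ fun i R p q hpq => ?_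
    have h1 := (h i).equi R (p ≫ a) (p ≫ g) q
    simp only [← Category.assoc, lift_whiskerLeft] at h1
    rw [← hpq] at h1
    rw [MonObj.comp_mul, MonObj.comp_mul, GrpObj.comp_inv, ← Category.assoc, ← Category.assoc, comp_lift, comp_lift,
      MonObj.comp_mul, MonObj.comp_mul, GrpObj.comp_inv]
    exact h1

/-- geometric points lift along étale covers -/
theorem exists_lift_geom {X T : Over S} (hX : IsGeom X) {J : Type u} (T' : J → Over S) (f : ∀ i, T' i ⟶ T)
    (hf : ∀ i, Etale (f i).left) (hT : ∀ t : T.left, ∃ (i : J) (t' : (T' i).left), (f i).left t' = t)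
    (t : X ⟶ T) : ∃ (i : J) (t' : X ⟶ T' i), t' ≫ f i = t := by
  obtain ⟨K, _, _, ⟨e⟩⟩ := hX
  let x₀ : Spec (CommRingCat.of K) := (⟨⊥, Ideal.isPrime_bot⟩ : PrimeSpectrum K)
  obtain ⟨i, t', ht'⟩ := hT ((e.inv ≫ t.left) x₀)
  have := hf i
  obtain ⟨y, hy⟩ := Groth.Agent.Sga3.H819.ClosedOrbit.exists_lift_of_mem_range (f i).left (e.inv ≫ t.left) x₀ ⟨t', ht'⟩
  have h1 : (e.hom ≫ y) ≫ (f i).left = t.left := by
    rw [Category.assoc, hy, Iso.hom_inv_id_assoc]
  refine ⟨i, Over.homMk (e.hom ≫ y) ?_, Over.OverMorphism.ext h1⟩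
  rw [← Over.w (f i), ← Category.assoc, h1, Over.w]

variable (G) in
theorem isEtSheaf_F : IsEtSheaf (F G) := by
  apply isEtSheaf_subF (isEtSheaf_famF G G)
  intro T J T' f hf hT y h
  refine ⟨isIdem_of_cover T' f hf hT y fun i => (h i).1, ?_⟩
  intro X hX t
  obtain ⟨i, t', ht'⟩ := exists_lift_geom hX T' f hf hT t
  have h1 : Min ((G ◁ t') ≫ (G ◁ f i) ≫ (show G ⊗ T ⟶ G from y)) := (h i).2 X hX t'
  rw [← Category.assoc, ← MonoidalCategory.whiskerLeft_comp, ht'] at h1
  exact h1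

end sheaf

section bc

variable {S V : Scheme.{u}} (v : V ⟶ S) {G : Over S} [GrpObj G]

theorem isIdem_toV {T : Over V} {φ : G ⊗ (Over.map v).obj T ⟶ G} (h : IsIdem φ) : IsIdem (toV v φ) where
  hom := isHomFamily_toV v h.hom
  idem X g t := by
    rw [lift_toV, lift_toV, Equiv.symm_apply_apply, h.idem]
  equi X a g t := by
    have e1 : (bcEquiv v X G).symm (a * g * a⁻¹) =
        (bcEquiv v X G).symm a * (bcEquiv v X G).symm g * ((bcEquiv v X G).symm a)⁻¹ := by
      have e0 := map_mul_inv (bcMulEquiv v X G).symm (a * g) a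
      rw [map_mul (bcMulEquiv v X G).symm a g] at e0
      exact e0
    have e2 := map_inv (bcMulEquiv v X G) ((bcEquiv v X G).symm a)
    have e3 : (bcMulEquiv v X G) ((bcEquiv v X G).symm a) = a := Equiv.apply_symm_apply _ _
    rw [e3] at e2
    have e4 : bcEquiv v X G ((bcEquiv v X G).symm a)⁻¹ = a⁻¹ := e2
    rw [lift_toV, lift_toV, e1, h.equi, bcEquiv_mul, bcEquiv_mul, Equiv.apply_symm_apply, e4]

theorem isIdem_ofV {T : Over V} {ψ : Red.bc v G ⊗ T ⟶ Red.bc v G} (h : IsIdem ψ) : IsIdem (ofV v ψ) where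
  hom := isHomFamily_ofV v h.hom
  idem X g t := by
    rw [lift_ofV', lift_ofV', Iso.hom_inv_id_assoc, Equiv.apply_symm_apply, h.idem]
  equi X a g t := by
    have e1 : bcEquiv v (dn v t) G ((dnIso v t).hom ≫ (a * g * a⁻¹)) =
        bcEquiv v (dn v t) G ((dnIso v t).hom ≫ a) * bcEquiv v (dn v t) G ((dnIso v t).hom ≫ g) *
          (bcEquiv v (dn v t) G ((dnIso v t).hom ≫ a))⁻¹ := by
      rw [MonObj.comp_mul, MonObj.comp_mul, GrpObj.comp_inv, bcEquiv_mul, bcEquiv_mul]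
      congr 1
      exact map_inv (bcMulEquiv v (dn v t) G) _
    have e2 : ∀ (x y : dn v t ⟶ Red.bc v G), (bcEquiv v (dn v t) G).symm (x * y * x⁻¹) =
        (bcEquiv v (dn v t) G).symm x * (bcEquiv v (dn v t) G).symm y * ((bcEquiv v (dn v t) G).symm x)⁻¹ := by
      intro x y
      have e0 := map_mul_inv (bcMulEquiv v (dn v t) G).symm (x * y) x
      rw [map_mul (bcMulEquiv v (dn v t) G).symm x y] at e0
      exact e0
    rw [lift_ofV', lift_ofV', e1, h.equi, e2, Equiv.symm_apply_apply, MonObj.comp_mul, MonObj.comp_mul,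
      GrpObj.comp_inv, Iso.inv_hom_id_assoc]

theorem triv_toV {X : Over V} {χ : G ⊗ (Over.map v).obj X ⟶ G} (h : Triv χ) : Triv (toV v χ) := by
  intro Y g x
  rw [lift_toV, h, bcEquiv_one]

theorem triv_ofV {X : Over V} {ψ : Red.bc v G ⊗ X ⟶ Red.bc v G} (h : Triv ψ) : Triv (ofV v ψ) := by
  intro Y g x
  have e0 : (bcEquiv v (dn v x) G).symm 1 = 1 := (bcMulEquiv v (dn v x) G).symm.map_one
  rw [lift_ofV', h, e0, MonObj.comp_one]

omit [GrpObj G] in
theorem le_toV {X : Over V} {ψ χ : G ⊗ (Over.map v).obj X ⟶ G} (h : Le ψ χ) : Le (toV v ψ) (toV v χ) := by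
  refine ⟨fun Y g x => ?_, fun Y g x => ?_⟩
  · rw [lift_toV, lift_toV, lift_toV, Equiv.symm_apply_apply, h.1]
  · rw [lift_toV, lift_toV, Equiv.symm_apply_apply, h.2]

omit [GrpObj G] in
theorem le_ofV {X : Over V} {ψ χ : Red.bc v G ⊗ X ⟶ Red.bc v G} (h : Le ψ χ) : Le (ofV v ψ) (ofV v χ) := by
  refine ⟨fun Y g x => ?_, fun Y g x => ?_⟩
  · rw [lift_ofV', lift_ofV', lift_ofV', Iso.hom_inv_id_assoc, Equiv.apply_symm_apply, h.1]
  · rw [lift_ofV', lift_ofV', Iso.hom_inv_id_assoc, Equiv.apply_symm_apply, h.2]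

theorem min_toV {X : Over V} {χ : G ⊗ (Over.map v).obj X ⟶ G} (h : Min χ) : Min (toV v χ) := by
  refine ⟨fun h' => h.1 ?_, fun ψ hψ hle => ?_⟩
  · have := triv_ofV v h'
    rwa [ofV_toV] at this
  · have h1 := le_ofV v hle
    rw [ofV_toV] at h1
    rcases h.2 (ofV v ψ) (isIdem_ofV v hψ) h1 with h2 | h2
    · left
      have := triv_toV v h2
      rwa [toV_ofV] at this
    · right
      rw [← h2, toV_ofV]

theorem min_of_toV {X : Over V} {χ : G ⊗ (Over.map v).obj X ⟶ G} (h : Min (toV v χ)) : Min χ := by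
  refine ⟨fun h' => h.1 (triv_toV v h'), fun ψ hψ hle => ?_⟩
  rcases h.2 (toV v ψ) (isIdem_toV v hψ) (le_toV v hle) with h2 | h2
  · left
    have := triv_ofV v h2
    rwa [ofV_toV] at this
  · right
    rw [← ofV_toV v ψ, h2, ofV_toV]

theorem min_of_iso {X X' : Over S} (e : X' ≅ X) {χ : G ⊗ X ⟶ G} (h : Min ((G ◁ e.hom) ≫ χ)) : Min χ := by
  refine ⟨fun h' => h.1 fun Y g x => ?_, fun ψ hψ hle => ?_⟩
  · rw [← Category.assoc, lift_whiskerLeft]
    exact h' Y g (x ≫ e.hom)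
  · have hle' : Le ((G ◁ e.hom) ≫ ψ) ((G ◁ e.hom) ≫ χ) := by
      refine ⟨fun Y g x => ?_, fun Y g x => ?_⟩
      · simp only [← Category.assoc, lift_whiskerLeft]
        exact hle.1 Y g (x ≫ e.hom)
      · simp only [← Category.assoc, lift_whiskerLeft]
        exact hle.2 Y g (x ≫ e.hom)
    rcases h.2 ((G ◁ e.hom) ≫ ψ) (IsIdem.pull hψ e.hom) hle' with h2 | h2
    · left
      intro Y g x
      have := h2 Y g (x ≫ e.inv)
      rw [← Category.assoc, lift_whiskerLeft, Category.assoc, Iso.inv_hom_id, Category.comp_id] at this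
      exact this
    · right
      exact (cancel_epi (G ◁ e.hom)).1 h2

theorem sat_toV {T : Over V} {φ : G ⊗ (Over.map v).obj T ⟶ G} (h : Sat φ) : Sat (toV v φ) := by
  intro X hX t
  rw [← toV_pull]
  exact min_toV v (h _ hX _)

theorem sat_of_toV {T : Over V} {φ : G ⊗ (Over.map v).obj T ⟶ G} (h : Sat (toV v φ)) : Sat φ := by
  intro X hX t
  apply min_of_iso (dnIso v t)
  rw [← Category.assoc, ← MonoidalCategory.whiskerLeft_comp, dnIso_hom_comp]
  apply min_of_toV
  rw [toV_pull]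
  exact h (dn v t) hX (dnHom v t)

theorem sat_ofV {T : Over V} {ψ : Red.bc v G ⊗ T ⟶ Red.bc v G} (h : Sat ψ) : Sat (ofV v ψ) := by
  apply sat_of_toV
  rwa [toV_ofV]

variable (G) in
/-- The sheaf commutes with base change. -/
noncomputable def FIso : F (Red.bc v G) ≅ (Over.map v).op ⋙ F G :=
  NatIso.ofComponents (fun T => Equiv.toIso
    { toFun := fun ψ => (⟨ofV (T := T.unop) v ψ.1, isIdem_ofV v ψ.2.1, sat_ofV v ψ.2.2⟩ :
          {y : (famF G G).obj (op ((Over.map v).obj T.unop)) // P G _ y})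
      invFun := fun φ => (⟨toV (T := T.unop) v φ.1, isIdem_toV v φ.2.1, sat_toV v φ.2.2⟩ :
          {y : (famF (Red.bc v G) (Red.bc v G)).obj (op T.unop) // P (Red.bc v G) _ y})
      left_inv := fun ψ => Subtype.ext (toV_ofV (T := T.unop) v ψ.1)
      right_inv := fun φ => Subtype.ext (ofV_toV (T := T.unop) v φ.1) }) (by
    intro T T' f
    refine ConcreteCategory.hom_ext _ _ fun ψ => ?_
    apply Subtype.ext
    exact ofV_pull (T := T.unop) v f.unop ψ.1)

end bc

end K216.DecSheaf
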