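import Groth.Agent.Red.K216.DecWeil
import Groth.Agent.Sga3B.SplitBc264

/-!
# The universal idempotent along the classifying maps of the local projections

* `star`: along the classifying map `w = cls k T : T ⟶ A` of the `k`-th projection, the base change of the universal
  idempotent of `G_A` is the base change of the idempotent `i_k p_k` of `G_V`.
* `facIso`: consequently the base change of the universal factor `G'` is the base change of the `k`-th factor.
-/

set_option autoImplicit false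
universe u

open CategoryTheory MonoidalCategory CartesianMonoidalCategory MonObj GrpObj AlgebraicGeometry Opposite

namespace K216.DecStar

open K216.DecDef K216.DecFam K216.DecRig K216.DecSheaf K216.DecLoc K216.DecRep K216.DecUniv K216.DecWeil
  Groth.Agent.Sga3B.BcPts Groth.Agent.Sga3B.RepDescent Groth.Agent.Sga3B Groth.Agent.Sga3B.BcNat Limits

section left

variable {S S' T T' : Scheme.{u}}

theorem compIso_inv_left (q : T' ⟶ T) (c : T ⟶ S) (P : Over S) [GrpObj P] :
    (BcIso.bcCompIso q c P).inv.hom.hom.left ≫ pullback.fst P.hom (q ≫ c) =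
      pullback.fst (Red.bc c P).hom q ≫ pullback.fst P.hom c := by
  rw [← SplitBc264.bcCompIso_left q c P, ← Category.assoc]
  have h2 : (BcIso.bcCompIso q c P).inv.hom.hom.left ≫
      (BcIso.bcCompIso q c P).hom.hom.hom.left = 𝟙 _ :=
    congrArg (fun k => k.hom.hom.left) (BcIso.bcCompIso q c P).inv_hom_id
  rw [h2, Category.id_comp]

theorem fibIso_left {θ : T' ⟶ T} {g : T ⟶ S} {g' : T' ⟶ S'} {f : S' ⟶ S} (h : θ ≫ g = g' ≫ f) (G : Over S)
    [GrpObj G] :
    (fibIso h G).hom.hom.hom.left ≫ pullback.fst (Red.bc g G).hom θ ≫ pullback.fst G.hom g =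
      pullback.fst (Red.bc f G).hom g' ≫ pullback.fst G.hom f := by
  have h1 : (fibIso h G).hom.hom.hom.left = (BcIso.bcCompIso g' f G).inv.hom.hom.left ≫
      (BcIso.bcCongrIso h.symm G).hom.hom.hom.left ≫ (BcIso.bcCompIso θ g G).hom.hom.hom.left := rfl
  rw [h1, Category.assoc, Category.assoc]
  refine (congrArg (fun z => (BcIso.bcCompIso g' f G).inv.hom.hom.left ≫
      (BcIso.bcCongrIso h.symm G).hom.hom.hom.left ≫ z) (SplitBc264.bcCompIso_left θ g G)).trans ?_
  rw [SplitBc264.bcCongrIso_left]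
  exact compIso_inv_left _ _ _

end left

section star

variable {S : Scheme.{u}} {G : Over S} [GrpObj G] {A : Over S} (r : (F G).RepresentableBy A)
variable {V : Scheme.{u}} (v : V ⟶ S) {J : Type} (d : Dec (Red.bc v G) J) (hR : NodeR.{u}) (hG : Red.IsSemisimple G)

/-- the square of a classifying map -/
theorem cls_w (k : J) (T : Over V) : T.hom ≫ v = (cls r v d hR hG k T).left ≫ A.hom :=
  (Over.w (cls r v d hR hG k T)).symm

/-- the comparison isomorphism -/
noncomputable def theta (k : J) (T : Over V) :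
    Grp.mk (Red.bc (cls r v d hR hG k T).left (Red.bc A.hom G)) ≅ Grp.mk (Red.bc T.hom (Red.bc v G)) :=
  fibIso (cls_w r v d hR hG k T) G

theorem hom_ext_bc {V' : Scheme.{u}} {v : V ⟶ S} {t : V' ⟶ V} {Z : Over V'} {X : Over S} {a b : Z ⟶ Red.bc t (Red.bc v X)}
    (h : a.left ≫ pullback.fst _ _ ≫ pullback.fst _ _ = b.left ≫ pullback.fst (Red.bc v X).hom t ≫ pullback.fst X.hom v) :
    a = b := by
  apply (bcEquiv t Z _).symm.injective
  apply (bcEquiv v _ _).symm.injective
  apply Over.OverMorphism.ext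
  rw [bcEquiv_symm_left, bcEquiv_symm_left, bcEquiv_symm_left, bcEquiv_symm_left, Category.assoc, Category.assoc]
  exact h

/-- **The universal idempotent along a classifying map.** -/
theorem star (k : J) (T : Over V) :
    (Over.pullback (cls r v d hR hG k T).left).map (K198.BidK.phi (univ r)) ≫ (theta r v d hR hG k T).hom.hom.hom =
      (theta r v d hR hG k T).hom.hom.hom ≫ (Over.pullback T.hom).map (d.p k ≫ d.i k) := by
  let w := (cls r v d hR hG k T).left
  let Z : Over T.left := Red.bc w (Red.bc A.hom G)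
  let x₁ : (Over.map w).obj Z ⟶ Red.bc A.hom G := (bcEquiv w Z _).symm (𝟙 _)
  let x₂ : (Over.map A.hom).obj ((Over.map w).obj Z) ⟶ G := (bcEquiv A.hom _ G).symm x₁
  let Θ : Z ⟶ Red.bc T.hom (Red.bc v G) := (theta r v d hR hG k T).hom.hom.hom
  let Y : Over V := (Over.map T.hom).obj Z
  let z₁ : Y ⟶ Red.bc v G := (bcEquiv T.hom Z _).symm Θ
  let z₂ : (Over.map v).obj Y ⟶ G := (bcEquiv v Y G).symm z₁
  have hΘ : Θ.left ≫ pullback.fst (Red.bc v G).hom T.hom ≫ pullback.fst G.hom v =
      pullback.fst (Red.bc A.hom G).hom w ≫ pullback.fst G.hom A.hom := fibIso_left (cls_w r v d hR hG k T) G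
  let ε : (Over.map v).obj Y ⟶ (Over.map A.hom).obj ((Over.map w).obj Z) := Over.homMk (𝟙 _) (by
    change 𝟙 _ ≫ (Z.hom ≫ w) ≫ A.hom = (Z.hom ≫ T.hom) ≫ v
    rw [Category.id_comp, Category.assoc, Category.assoc, ← cls_w])
  have hx₂ : x₂.left = pullback.fst (Red.bc A.hom G).hom w ≫ pullback.fst G.hom A.hom := by
    simp only [x₂, x₁]
    rw [bcEquiv_symm_left, bcEquiv_symm_left, Over.id_left]
    exact congrArg (fun z => z ≫ pullback.fst G.hom A.hom) (Category.id_comp _)
  have hz₂ : z₂.left = Θ.left ≫ pullback.fst (Red.bc v G).hom T.hom ≫ pullback.fst G.hom v := by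
    simp only [z₂, z₁]
    rw [bcEquiv_symm_left, bcEquiv_symm_left, Category.assoc]
  have e1 : ε ≫ x₂ = z₂ := by
    apply Over.OverMorphism.ext
    change 𝟙 _ ≫ x₂.left = z₂.left
    rw [Category.id_comp, hx₂, hz₂, hΘ]
  have e2 : ε ≫ K198.BidK.st A ((Over.map w).obj Z) = cls r v d hR hG k Y := by
    rw [← map_cls r v d hR hG k (K198.BidK.st T Z)]
    apply Over.OverMorphism.ext
    change 𝟙 _ ≫ Z.hom ≫ w = Z.hom ≫ w
    rw [Category.id_comp]
  apply hom_ext_bc
  have l1 : (K198.BidK.phi (univ r)) = K198.BidK.phi (univ r) := rfl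
  have hL : ((Over.pullback w).map (K198.BidK.phi (univ r))).left ≫ pullback.fst (Red.bc A.hom G).hom w ≫
      pullback.fst G.hom A.hom = (lift x₂ (K198.BidK.st A ((Over.map w).obj Z)) ≫ univ r).left := by
    have h1 : (bcEquiv A.hom _ G).symm ((bcEquiv w Z (Red.bc A.hom G)).symm
        (𝟙 _ ≫ (Over.pullback w).map (K198.BidK.phi (univ r)))) =
        lift x₂ (K198.BidK.st A ((Over.map w).obj Z)) ≫ univ r := by
      rw [bcEquiv_symm_comp, K198.BidK.comp_phi, Equiv.symm_apply_apply]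
    rw [← h1, bcEquiv_symm_left, bcEquiv_symm_left, Category.id_comp, Category.assoc]
  have hRr : (Θ ≫ (Over.pullback T.hom).map (d.p k ≫ d.i k)).left ≫ pullback.fst (Red.bc v G).hom T.hom ≫
      pullback.fst G.hom v = (lift z₂ (cls r v d hR hG k Y) ≫ univ r).left := by
    have h1 : (bcEquiv v _ G).symm ((bcEquiv T.hom Z (Red.bc v G)).symm
        (Θ ≫ (Over.pullback T.hom).map (d.p k ≫ d.i k))) =
        lift z₂ (cls r v d hR hG k Y) ≫ univ r := by
      rw [bcEquiv_symm_comp, lift_cls]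
      simp only [z₂, Equiv.apply_symm_apply, z₁]
      rfl
    rw [← h1, bcEquiv_symm_left, bcEquiv_symm_left, Category.assoc]
  have e3 : ε ≫ lift x₂ (K198.BidK.st A ((Over.map w).obj Z)) ≫ univ r =
      lift z₂ (cls r v d hR hG k Y) ≫ univ r := by
    rw [← Category.assoc, comp_lift, e1, e2]
  have e4 := congrArg (fun z => z.left) e3
  change 𝟙 _ ≫ (lift x₂ (K198.BidK.st A ((Over.map w).obj Z)) ≫ univ r).left = _ at e4
  rw [Category.id_comp, ← hL, ← hRr] at e4
  refine Eq.trans ?_ e4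
  rw [Over.comp_left, Category.assoc]
  exact congrArg (fun z => ((Over.pullback w).map (K198.BidK.phi (univ r))).left ≫ z) hΘ

variable {G' : Over A.left} [GrpObj G'] {i : G' ⟶ Red.bc A.hom G} {q : Red.bc A.hom G ⟶ G'} [IsMonHom i] [IsMonHom q]
  (hiq : i ≫ q = 𝟙 G') (hqi : q ≫ i = K198.BidK.phi (univ r))

include hiq hqi in
/-- **The universal factor along a classifying map.** -/
theorem nonempty_facIso (k : J) (T : Over V) :
    Nonempty (Grp.mk (Red.bc (cls r v d hR hG k T).left G') ≅ Grp.mk (Red.bc T.hom (d.H k))) := by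
  have hs := star r v d hR hG k T
  have mi := d.i_hom k
  have mp := d.p_hom k
  let w := (cls r v d hR hG k T).left
  let Θ := theta r v d hR hG k T
  have e1 : Θ.hom.hom.hom ≫ Θ.inv.hom.hom = 𝟙 _ := congrArg (fun z => z.hom.hom) Θ.hom_inv_id
  have e2 : Θ.inv.hom.hom ≫ Θ.hom.hom.hom = 𝟙 _ := congrArg (fun z => z.hom.hom) Θ.inv_hom_id
  let u : Red.bc w G' ⟶ Red.bc T.hom (d.H k) :=
    (Over.pullback w).map i ≫ Θ.hom.hom.hom ≫ (Over.pullback T.hom).map (d.p k)
  let u' : Red.bc T.hom (d.H k) ⟶ Red.bc w G' :=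
    (Over.pullback T.hom).map (d.i k) ≫ Θ.inv.hom.hom ≫ (Over.pullback w).map q
  have hs' : Θ.inv.hom.hom ≫ (Over.pullback w).map (K198.BidK.phi (univ r)) ≫ Θ.hom.hom.hom =
      (Over.pullback T.hom).map (d.p k ≫ d.i k) := by
    rw [hs, reassoc_of% e2]
  have hs'' : Θ.hom.hom.hom ≫ (Over.pullback T.hom).map (d.p k ≫ d.i k) ≫ Θ.inv.hom.hom =
      (Over.pullback w).map (K198.BidK.phi (univ r)) := by
    rw [← reassoc_of% hs, e1, Category.comp_id]
  have h1 : u ≫ u' = 𝟙 _ := by
    simp only [u, u', Category.assoc]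
    rw [← Functor.map_comp_assoc (Over.pullback T.hom), ← Category.assoc _ Θ.inv.hom.hom, ← Category.assoc Θ.hom.hom.hom,
      ← Category.assoc Θ.hom.hom.hom]
    rw [Category.assoc Θ.hom.hom.hom, hs'', ← Functor.map_comp_assoc, ← hqi, ← Functor.map_comp, Category.assoc,
      Category.assoc, hiq, Category.comp_id, hiq, CategoryTheory.Functor.map_id]
  have h2 : u' ≫ u = 𝟙 _ := by
    simp only [u, u', Category.assoc]
    rw [← Functor.map_comp_assoc (Over.pullback w), hqi, reassoc_of% hs', ← Functor.map_comp, ← Functor.map_comp,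
      ← CategoryTheory.Functor.map_id]
    congr 1
    rw [Category.assoc, reassoc_of% (d.ip k), d.ip]
  have m1 : IsMonHom ((Over.pullback w).map i) := inferInstance
  have m2 : IsMonHom ((Over.pullback T.hom).map (d.p k)) := inferInstance
  have m3 : IsMonHom Θ.hom.hom.hom := Θ.hom.hom.isMonHom_hom
  have m4 : IsMonHom u := inferInstance
  let e : Red.bc w G' ≅ Red.bc T.hom (d.H k) := ⟨u, u', h1, h2⟩
  have m5 : IsMonHom e.hom := m4
  exact ⟨Grp.mkIso' e⟩

end star

/-- **The universal factor has simple geometric fibres.** -/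
theorem simpleFibres (hL : NodeL.{u}) (hR : NodeR.{u}) {S : Scheme.{u}} {G : Over S} [GrpObj G]
    (hG : Red.IsSemisimple G) (hnt : ∀ s : S, ¬ Red.IsTrivialGrp (Red.geomFibre s G))
    (hsc : ∀ (s : S) (D : Red.SplitRed (Red.geomFibre s G)), Submodule.span ℤ (Set.range D.P.coroot) = ⊤)
    {A : Over S} (r : (F G).RepresentableBy A) {G' : Over A.left} [GrpObj G'] {i : G' ⟶ Red.bc A.hom G}
    {q : Red.bc A.hom G ⟶ G'} [IsMonHom i] [IsMonHom q]
    (hiq : i ≫ q = 𝟙 G') (hqi : q ≫ i = K198.BidK.phi (univ r)) : SimpleFibres G' := by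
  intro K _ _ t
  let x₀ : Spec (CommRingCat.of K) := IsLocalRing.closedPoint K
  obtain ⟨B, v, hv, hs, n, -, ⟨d⟩⟩ := exists_local hL hG hnt hsc ((t ≫ A.hom) x₀)
  obtain ⟨y₀, hy₀⟩ := Groth.Agent.Sga3.H819.ClosedOrbit.exists_lift_of_mem_range v (t ≫ A.hom) x₀ hs
  let T : Over (Spec B) := Over.mk y₀
  let X : Over S := Over.mk (t ≫ A.hom)
  have hX : IsGeom X := ⟨K, inferInstance, inferInstance, ⟨Iso.refl _⟩⟩
  let τ : X ⟶ (Over.map v).obj T := Over.homMk (𝟙 _) (by
    change 𝟙 _ ≫ y₀ ≫ v = t ≫ A.hom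
    rw [Category.id_comp, hy₀])
  let α : X ⟶ A := Over.homMk t rfl
  obtain ⟨k, hk⟩ := exists_fac r v d hR hG hX τ α
  have ht : t = (cls r v d hR hG k T).left := by
    have := congrArg (fun z => z.left) hk
    change t = 𝟙 _ ≫ (cls r v d hR hG k T).left at this
    rwa [Category.id_comp] at this
  obtain ⟨e⟩ := nonempty_facIso r v d hR hG hiq hqi k T
  rw [ht]
  exact simple_iso e.symm (d.simple k K y₀)

end K216.DecStar
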