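import Groth.Agent.Red.K216.DecRep
import Groth.Agent.RedSub.K199.RCMain
import Groth.Agent.RedSub.K195.TypeLoc
import Groth.Agent.AGF.K499.SepSplit
import Groth.Agent.Sga3B.Parab.Retr

/-!
# The scheme of simple factors

* `exists_local`: étale locally a semisimple group with non-trivial simply connected geometric fibres is decomposed;
* `exists_rep`: the sheaf of simple projections is represented by a finite étale surjective `S`-scheme;
* `cls`, `lift_cls`, `exists_fac`: the classifying maps of the local projections, and their joint surjectivity on geometric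
  points.
-/

set_option autoImplicit false
universe u

open CategoryTheory MonoidalCategory CartesianMonoidalCategory MonObj GrpObj AlgebraicGeometry Opposite

namespace K216.DecUniv

open K216.DecDef K216.DecFam K216.DecRig K216.DecSheaf K216.DecLoc K216.DecRep Groth.Agent.Sga3B.BcPts
  Groth.Agent.Sga3B.RepDescent Groth.Agent.Sga3B

/-- the statement of node L -/
def NodeL : Prop :=
  ∀ {V : Scheme.{u}} [Nonempty V] {G : Over V} [GrpObj G] (D : Red.SplitRed G),
    Submodule.span ℤ (Set.range D.P.coroot) = ⊤ → ∃ r : ℕ, Nonempty (Dec G (Fin r))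

theorem span_of_equiv {σ₁ σ₂ M₁ M₂ N₁ N₂ : Type*} [AddCommGroup M₁] [AddCommGroup M₂] [AddCommGroup N₁]
    [AddCommGroup N₂] {P : RootPairing σ₁ ℤ M₁ N₁} {Q : RootPairing σ₂ ℤ M₂ N₂} (e : RootPairing.Equiv P Q)
    (h : Submodule.span ℤ (Set.range P.coroot) = ⊤) : Submodule.span ℤ (Set.range Q.coroot) = ⊤ := by
  apply Submodule.map_injective_of_injective e.bijective_coweightMap.1
  rw [Submodule.map_span, ← Set.range_comp, e.coroot_coweightMap, Set.range_comp, Equiv.range_eq_univ, Set.image_univ, h,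
    Submodule.map_top, LinearMap.range_eq_top.2 e.bijective_coweightMap.2]

/-- **Étale local decomposition.** -/
theorem exists_local (hL : NodeL.{u}) {S : Scheme.{u}} {G : Over S} [GrpObj G] (hG : Red.IsSemisimple G)
    (hnt : ∀ s : S, ¬ Red.IsTrivialGrp (Red.geomFibre s G))
    (hsc : ∀ (s : S) (D : Red.SplitRed (Red.geomFibre s G)), Submodule.span ℤ (Set.range D.P.coroot) = ⊤) (s : S) :
    ∃ (A : CommRingCat.{u}) (v : Spec A ⟶ S), Etale v ∧ s ∈ Set.range v ∧
      ∃ r : ℕ, 0 < r ∧ Nonempty (Dec (Red.bc v G) (Fin r)) := by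
  have hred := K198.DerSS.isReductive_of_isSemisimple hG
  obtain ⟨A, v, hv, ⟨x, rfl⟩, ⟨D⟩⟩ := K199.RCMain.exists_split_spec hred s
  have hred' : Red.IsReductive (Red.geomFibre (v x) G) := RedBcAny636.isReductive_bc _ hred
  obtain ⟨D₀⟩ := K499.SepSplit.exists_splitRed _ _ hred'
  obtain ⟨e⟩ := K195.TypeLoc.equiv_of_geomFibre v D x D₀
  have h1 := span_of_equiv e (hsc _ D₀)
  have : Nonempty (Spec A) := ⟨x⟩
  obtain ⟨r, ⟨d⟩⟩ := hL D h1
  refine ⟨A, v, hv, ⟨x, rfl⟩, r, ?_, ⟨d⟩⟩
  by_contra h0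
  have h0' : r = 0 := by omega
  subst h0'
  apply hnt (v x)
  have h2 : Red.IsTrivialGrp (Red.bc v G) := isTrivialGrp_of_id_eq_one (d.ext _ _ _ fun j => j.elim0)
  obtain ⟨θ, hθ⟩ := MaxTorBc636.exists_geomPt v x
  have h3 : Red.IsTrivialGrp (Red.bc θ (Red.geomFibre (v x) G)) :=
    RedIso.isTrivialGrp_of_iso ((Grp.forget _).mapIso (BcNat.fibIso hθ G)) (RedIso.isTrivialGrp_bc (Red.geomPt x) h2)
  have hs : Smooth (Red.geomFibre (v x) G).hom := hred'.2.1
  have ha : IsAffineHom (Red.geomFibre (v x) G).hom := hred'.1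
  refine Groth.Agent.Sga3B.Parab.Retr.isTrivialGrp_of_fibres _ fun y => ⟨_, inferInstance, θ, ?_, h3⟩
  have : Subsingleton (Spec (CommRingCat.of (AlgebraicClosure (S.residueField (v x))))) :=
    inferInstanceAs (Subsingleton (PrimeSpectrum (AlgebraicClosure (S.residueField (v x)))))
  exact Subsingleton.elim _ _

section rep

variable {S : Scheme.{u}} {G : Over S} [GrpObj G]

set_option backward.isDefEq.respectTransparency false in
/-- étale local properties of the representing object -/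
theorem prop_of_rep (P : MorphismProperty Scheme.{u}) [IsZariskiLocalAtTarget P] [P.IsStableUnderBaseChange]
    [P.DescendsAlong (@Surjective ⊓ @Flat ⊓ @QuasiCompact)] {A : Over S} (r : (F G).RepresentableBy A)
    (h : ∀ s : S, ∃ (V : Scheme.{u}) (v : V ⟶ S), Etale v ∧ s ∈ Set.range v ∧
      ∃ A' : Over V, Nonempty ((F (Red.bc v G)).RepresentableBy A') ∧ P A'.hom) : P A.hom := by
  refine of_etale_cover A.hom fun s => ?_
  obtain ⟨V, v, hv, hs, A', ⟨r'⟩, hP⟩ := h s
  refine ⟨V, v, hv, hs, ?_⟩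
  let e : Red.bc v A ≅ A' := (repBC v r).uniqueUpToIso (r'.ofIso (FIso v G))
  exact (P.arrow_mk_iso_iff (Arrow.isoMk ((Over.forget _).mapIso e) (Iso.refl _) (by simp))).mpr hP

set_option backward.isDefEq.respectTransparency false in
theorem exists_rep (hL : NodeL.{u}) (hR : NodeR.{u}) (hG : Red.IsSemisimple G)
    (hnt : ∀ s : S, ¬ Red.IsTrivialGrp (Red.geomFibre s G))
    (hsc : ∀ (s : S) (D : Red.SplitRed (Red.geomFibre s G)), Submodule.span ℤ (Set.range D.P.coroot) = ⊤) :
    ∃ A : Over S, Nonempty ((F G).RepresentableBy A) ∧ IsFinite A.hom ∧ Etale A.hom ∧ Surjective A.hom := by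
  obtain ⟨A, ⟨r⟩⟩ := exists_representableBy_of_etale (isEtSheaf_F G) (by
    intro s
    obtain ⟨B, v, hv, hs, n, hn, ⟨d⟩⟩ := exists_local hL hG hnt hsc s
    obtain ⟨r⟩ := nonempty_rep d hR (RedBcAny636.isSemisimple_bc v hG)
    refine ⟨Spec B, v, hv, hs, copies (Spec B) (Fin n), ⟨r.ofIso (FIso v G)⟩, fun U hU => ?_⟩
    have : IsAffine (copies (Spec B) (Fin n)).left :=
      inferInstanceAs (IsAffine (∐ fun _ : ULift.{u} (Fin n) => Spec B))
    exact isQuasiAffine_of_le (W := ⊤) le_top (isAffineOpen_top _) hU)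
  have hloc : ∀ s : S, ∃ (B : CommRingCat.{u}) (v : Spec B ⟶ S), Etale v ∧ s ∈ Set.range v ∧ ∃ n : ℕ, 0 < n ∧
      Nonempty ((F (Red.bc v G)).RepresentableBy (copies (Spec B) (Fin n))) := by
    intro s
    obtain ⟨B, v, hv, hs, n, hn, ⟨d⟩⟩ := exists_local hL hG hnt hsc s
    exact ⟨B, v, hv, hs, n, hn, nonempty_rep d hR (RedBcAny636.isSemisimple_bc v hG)⟩
  refine ⟨A, ⟨r⟩, ?_, ?_, ?_⟩
  · refine prop_of_rep @IsFinite r fun s => ?_
    obtain ⟨B, v, hv, hs, n, hn, hr⟩ := hloc s
    exact ⟨_, v, hv, hs, _, hr, isFinite_copies B⟩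
  · refine prop_of_rep @Etale r fun s => ?_
    obtain ⟨B, v, hv, hs, n, hn, hr⟩ := hloc s
    exact ⟨_, v, hv, hs, _, hr, etale_copies⟩
  · refine prop_of_rep @Surjective r fun s => ?_
    obtain ⟨B, v, hv, hs, n, hn, hr⟩ := hloc s
    have : Nonempty (Fin n) := ⟨⟨0, hn⟩⟩
    exact ⟨_, v, hv, hs, _, hr, surjective_copies⟩

end rep

section cls

variable {S : Scheme.{u}} {G : Over S} [GrpObj G] {A : Over S} (r : (F G).RepresentableBy A)

/-- the universal family -/
noncomputable def univ : G ⊗ A ⟶ G := (show {y : (famF G G).obj (op A) // P G A y} from r.homEquiv (𝟙 A)).1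

theorem isIdem_univ : IsIdem (univ r) :=
  (show {y : (famF G G).obj (op A) // P G A y} from r.homEquiv (𝟙 A)).2.1

theorem val_homEquiv {X : Over S} (a : X ⟶ A) :
    (show {y : (famF G G).obj (op X) // P G X y} from r.homEquiv a).1 = (G ◁ a) ≫ univ r := by
  have h := r.homEquiv_eq a
  exact congrArg (fun z : {y : (famF G G).obj (op X) // P G X y} => z.1) h

variable {V : Scheme.{u}} (v : V ⟶ S) {J : Type} (d : Dec (Red.bc v G) J) (hR : NodeR.{u}) (hG : Red.IsSemisimple G)

/-- the `k`-th projection as a section over `S`-schemes coming from `V` -/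
noncomputable def secS (k : J) (T : Over V) : (F G).obj (op ((Over.map v).obj T)) :=
  (⟨ofV v (eF d k T), isIdem_ofV v (isIdem_eF d k T),
    sat_ofV v (sat_eF d hR (RedBcAny636.isSemisimple_bc v hG) k T)⟩ :
      {y : (famF G G).obj (op ((Over.map v).obj T)) // P G _ y})

theorem secS_map (k : J) {T T' : Over V} (f : T' ⟶ T) :
    (F G).map ((Over.map v).map f).op (secS v d hR hG k T) = secS v d hR hG k T' := by
  apply Subtype.ext
  change (G ◁ (Over.map v).map f) ≫ ofV v (eF d k T) = ofV v (eF d k T')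
  rw [← ofV_pull, eF_pull]

/-- the classifying map of the `k`-th projection -/
noncomputable def cls (k : J) (T : Over V) : (Over.map v).obj T ⟶ A := r.homEquiv.symm (secS v d hR hG k T)

theorem homEquiv_cls (k : J) (T : Over V) : r.homEquiv (cls r v d hR hG k T) = secS v d hR hG k T :=
  Equiv.apply_symm_apply _ _

theorem map_cls (k : J) {T T' : Over V} (f : T' ⟶ T) :
    (Over.map v).map f ≫ cls r v d hR hG k T = cls r v d hR hG k T' := by
  apply r.homEquiv.injective
  rw [r.homEquiv_comp, homEquiv_cls, homEquiv_cls, secS_map]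

theorem whisker_cls (k : J) (T : Over V) : (G ◁ cls r v d hR hG k T) ≫ univ r = ofV v (eF d k T) := by
  rw [← val_homEquiv, homEquiv_cls]
  rfl

/-- the universal family at a classifying map -/
theorem lift_cls (k : J) {T : Over V} (g : (Over.map v).obj T ⟶ G) :
    lift g (cls r v d hR hG k T) ≫ univ r =
      (bcEquiv v T G).symm (bcEquiv v T G g ≫ d.p k ≫ d.i k) := by
  have h1 : lift g (cls r v d hR hG k T) = lift g (𝟙 _) ≫ (G ◁ cls r v d hR hG k T) := by
    rw [lift_whiskerLeft, Category.id_comp]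
  rw [h1, Category.assoc, whisker_cls]
  have h2 := lift_ofV v (eF d k T) g (𝟙 T)
  rw [CategoryTheory.Functor.map_id, lift_eF] at h2
  exact h2

/-- **Geometric points of the scheme of simple factors.** -/
theorem exists_fac {T : Over V} {X : Over S} (hX : IsGeom X) (τ : X ⟶ (Over.map v).obj T) (α : X ⟶ A) :
    ∃ k, α = τ ≫ cls r v d hR hG k T := by
  let Y : Over V := dn v τ
  let β : (Over.map v).obj Y ⟶ A := (dnIso v τ).hom ≫ α
  let y : {y : (famF G G).obj (op ((Over.map v).obj Y)) // P G _ y} := r.homEquiv β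
  have hy1 : IsIdem (toV (T := Y) v y.1) := isIdem_toV v y.2.1
  have hy2 : Sat (toV (T := Y) v y.1) := sat_toV v y.2.2
  obtain ⟨W, hW1, -, hW3⟩ := loc d hR (RedBcAny636.isSemisimple_bc v hG) hy1 hy2
  have hsub : Subsingleton Y.left := IsGeom.subsingleton hX
  obtain ⟨x₀⟩ : Nonempty Y.left := IsGeom.nonempty hX
  obtain ⟨k, hk⟩ := hW1 x₀
  have h1 : toV (T := Y) v y.1 = eF d k Y := by
    have h2 := hW3 k _ (fst (Red.bc v G) Y) (snd (Red.bc v G) Y) (by
      rintro z -
      rwa [Subsingleton.elim z x₀])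
    rw [lift_fst_snd, Category.id_comp] at h2
    exact h2
  have h2 : y.1 = ofV v (eF d k Y) := by
    rw [← h1]
    exact (ofV_toV (T := Y) v y.1).symm
  have h3 : r.homEquiv β = secS v d hR hG k Y := Subtype.ext h2
  have h4 : β = cls r v d hR hG k Y := by
    apply r.homEquiv.injective
    rw [h3, homEquiv_cls]
  refine ⟨k, ?_⟩
  rw [← cancel_epi (dnIso v τ).hom, ← Category.assoc, dnIso_hom_comp, map_cls, ← h4]

end cls

end K216.DecUniv
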