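import Groth.Agent.Red.K216.DecUniv
import Groth.Agent.Red.K994.WeilEtLocal

/-!
# The Weil restriction property of the universal simple factor

For a representing object `A` of the sheaf of simple projections of `G`, the universal idempotent `e` of `G_A`, and a group
`G'` over `A` with `q : G_A ⟶ G'`, `i : G' ⟶ G_A`, `i q = 1`, `q i = e`: `G` is the Weil restriction of `G'`.
-/

set_option autoImplicit false
universe u

open CategoryTheory MonoidalCategory CartesianMonoidalCategory MonObj GrpObj AlgebraicGeometry Opposite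

namespace K216.DecWeil

open K216.DecDef K216.DecFam K216.DecRig K216.DecSheaf K216.DecLoc K216.DecRep K216.DecUniv
  Groth.Agent.Sga3B.BcPts Groth.Agent.Sga3B.RepDescent Groth.Agent.Sga3B

lemma bcEquiv_symm_left {S S' : Scheme.{u}} (q : S' ⟶ S) {T : Over S'} {X : Over S} (y : T ⟶ Red.bc q X) :
    ((bcEquiv q T X).symm y).left = y.left ≫ Limits.pullback.fst X.hom q := by
  rw [bcEquiv, Adjunction.homEquiv_counit, Over.mapPullbackAdj_counit_app, Over.comp_left]
  rfl

section prod

variable {S : Scheme.{u}} {A : Over S} (T : Over S)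

/-- the product `T ×_S A` as the base change of `T`, regarded over `S` -/
noncomputable abbrev ZS (A : Over S) : Over S := (Over.map A.hom).obj (Red.bc A.hom T)

/-- first projection -/
noncomputable def pr (A : Over S) : ZS T A ⟶ T := (bcEquiv A.hom (Red.bc A.hom T) T).symm (𝟙 _)

/-- second projection -/
noncomputable abbrev sd (A : Over S) : ZS T A ⟶ A := K198.BidK.st A (Red.bc A.hom T)

theorem pr_left (A : Over S) : (pr T A).left = Limits.pullback.fst T.hom A.hom := by
  rw [pr, bcEquiv_symm_left]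
  exact Category.id_comp _

theorem hom_ext_ZS {X : Over S} {a b : X ⟶ ZS T A} (h1 : a ≫ pr T A = b ≫ pr T A) (h2 : a ≫ sd T A = b ≫ sd T A) :
    a = b := by
  apply Over.OverMorphism.ext
  refine Limits.pullback.hom_ext (f := T.hom) (g := A.hom) ?_ ?_
  · have := congrArg (fun z => z.left) h1
    simpa only [Over.comp_left, pr_left] using this
  · exact congrArg (fun z => z.left) h2

/-- the section attached to a map to `A` -/
noncomputable def sc (a : T ⟶ A) : T ⟶ ZS T A :=
  (overIso (f := A.hom) (T := T) a).inv ≫ (Over.map A.hom).map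
    (bcEquiv A.hom (Over.mk a.left) T (overIso (f := A.hom) (T := T) a).hom)

theorem sc_pr (a : T ⟶ A) : sc T a ≫ pr T A = 𝟙 T := by
  rw [sc, pr, Category.assoc, ← comp_bcEquiv_symm, Category.comp_id, Equiv.symm_apply_apply, Iso.inv_hom_id]

theorem sc_sd (a : T ⟶ A) : sc T a ≫ sd T A = a := by
  rw [sc, Category.assoc, K198.BidK.map_st]
  apply Over.OverMorphism.ext
  exact Category.id_comp _

instance [Etale A.hom] (a : T ⟶ A) : Etale (sc T a).left := by
  have h1 : Etale (pr T A).left := by
    rw [pr_left]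
    infer_instance
  have h2 : (sc T a).left ≫ (pr T A).left = 𝟙 _ := by
    rw [← Over.comp_left, sc_pr]
    rfl
  have h3 : Etale ((sc T a).left ≫ (pr T A).left) := by
    rw [h2]
    infer_instance
  exact Etale.of_comp _ (pr T A).left

end prod

section main

variable {S : Scheme.{u}} {G : Over S} [GrpObj G] {A : Over S} (r : (F G).RepresentableBy A)

theorem bcEquiv_restr {G' : Over A.left} {i : G' ⟶ Red.bc A.hom G} {q : Red.bc A.hom G ⟶ G'}
    (hqi : q ≫ i = K198.BidK.phi (univ r)) {T : Over S} (g : T ⟶ G) :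
    (bcEquiv A.hom _ G).symm (WeilRes.restr A.hom q T g ≫ i) = lift (pr T A ≫ g) (sd T A) ≫ univ r := by
  rw [WeilRes.restr_apply, Category.assoc, hqi, K198.BidK.comp_phi, Equiv.symm_apply_apply]
  have h1 : (bcEquiv A.hom (Red.bc A.hom T) G).symm ((Over.pullback A.hom).map g) = pr T A ≫ g := by
    rw [pr, ← bcEquiv_symm_comp, Category.id_comp]
  exact congrArg (fun z => lift z (sd T A) ≫ univ r) h1

variable {V : Scheme.{u}} (v : V ⟶ S) {J : Type} (d : Dec (Red.bc v G) J) (hR : NodeR.{u})
  (hG : Red.IsSemisimple G)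

include d hR hG in
/-- bijectivity over schemes coming from `V` -/
theorem bijective [Etale A.hom] {G' : Over A.left} {i : G' ⟶ Red.bc A.hom G} {q : Red.bc A.hom G ⟶ G'}
    (hiq : i ≫ q = 𝟙 G') (hqi : q ≫ i = K198.BidK.phi (univ r)) (T : Over V) :
    Function.Bijective (WeilRes.restr A.hom q ((Over.map v).obj T)) := by
  let TS : Over S := (Over.map v).obj T
  let σ : J → (TS ⟶ ZS TS A) := fun k => sc TS (cls r v d hR hG k T)
  have hσ : ∀ (k : J) (g : ZS TS A ⟶ G),
      σ k ≫ lift g (sd TS A) ≫ univ r = lift (σ k ≫ g) (cls r v d hR hG k T) ≫ univ r := by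
    intro k g
    rw [← Category.assoc, comp_lift, sc_sd]
  have hσ' : ∀ (k : J) (g : TS ⟶ G),
      σ k ≫ lift (pr TS A ≫ g) (sd TS A) ≫ univ r = lift g (cls r v d hR hG k T) ≫ univ r := by
    intro k g
    rw [hσ, ← Category.assoc, sc_pr, Category.id_comp]
  have hcov : ∀ z : (ZS TS A).left, ∃ (k : ULift.{u} J) (t : TS.left), (σ k.down).left t = z := by
    intro z
    obtain ⟨k, hk⟩ := exists_fac r v d hR hG (isGeom_gpt z) (gt z ≫ pr TS A) (gt z ≫ sd TS A)
    have h1 : gt z = (gt z ≫ pr TS A) ≫ σ k := by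
      apply hom_ext_ZS
      · rw [Category.assoc _ (σ k), sc_pr, Category.comp_id]
      · rw [Category.assoc _ (σ k), sc_sd, hk]
    obtain ⟨x⟩ := IsGeom.nonempty (isGeom_gpt z)
    have h2 : (gt z).left x = z := by
      have := range_comp_gt z (𝟙 _) {z} rfl ⟨x, rfl⟩
      rw [Category.id_comp] at this
      exact this
    refine ⟨⟨k⟩, (gt z ≫ pr TS A).left x, ?_⟩
    rw [← Scheme.Hom.comp_apply, ← Over.comp_left, ← h1, h2]
  have hext : ∀ x y : ZS TS A ⟶ G, (∀ k, σ k ≫ x = σ k ≫ y) → x = y := by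
    intro x y hxy
    refine hom_ext_cover (fun _ : ULift.{u} J => TS) (fun k => σ k.down) (fun k => inferInstance) hcov (𝟙 _) x y
      fun k R a b hab => ?_
    rw [Category.comp_id] at hab
    rw [hab, Category.assoc, Category.assoc, hxy]
  constructor
  · intro g g' hgg
    have h1 : lift (pr TS A ≫ g) (sd TS A) ≫ univ r = lift (pr TS A ≫ g') (sd TS A) ≫ univ r := by
      rw [← bcEquiv_restr r hqi g, ← bcEquiv_restr r hqi g', hgg]
    apply (bcEquiv v T G).injective
    refine d.ext T _ _ fun k => ?_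
    have h2 := congrArg (fun z => σ k ≫ z) h1
    simp only [hσ', lift_cls] at h2
    have h3 := congrArg (fun z => z ≫ d.p k) ((bcEquiv v T G).symm.injective h2)
    simpa only [Category.assoc, d.ip, Category.comp_id] using h3
  · intro y
    let x : ZS TS A ⟶ G := (bcEquiv A.hom _ G).symm (y ≫ i)
    have hx : lift x (sd TS A) ≫ univ r = x := by
      have h1 : (y ≫ i) ≫ K198.BidK.phi (univ r) = y ≫ i := by
        rw [← hqi, Category.assoc, reassoc_of% hiq]
      rw [K198.BidK.comp_phi] at h1
      have h2 := congrArg (bcEquiv A.hom _ G).symm h1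
      rw [Equiv.symm_apply_apply] at h2
      exact h2
    have hxk : ∀ k, lift (σ k ≫ x) (cls r v d hR hG k T) ≫ univ r = σ k ≫ x := by
      intro k
      rw [← hσ, hx]
    obtain ⟨g, hg⟩ := d.exists_lift T (fun k => bcEquiv v T G (σ k ≫ x) ≫ d.p k)
    refine ⟨(bcEquiv v T G).symm g, ?_⟩
    have h4 : lift (pr TS A ≫ (bcEquiv v T G).symm g) (sd TS A) ≫ univ r = x := by
      refine hext _ _ fun k => ?_
      rw [hσ', lift_cls, Equiv.apply_symm_apply, ← Category.assoc, hg, Category.assoc, ← lift_cls r v d hR hG k, hxk]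
    have h5 : WeilRes.restr A.hom q TS ((bcEquiv v T G).symm g) ≫ i = y ≫ i := by
      apply (bcEquiv A.hom _ G).symm.injective
      rw [bcEquiv_restr r hqi, h4]
    have h6 := congrArg (fun z => z ≫ q) h5
    simpa only [Category.assoc, hiq, Category.comp_id] using h6

end main

/-- **The Weil restriction property.** -/
theorem isWeilRes (hL : NodeL.{u}) (hR : NodeR.{u}) {S : Scheme.{u}} {G : Over S} [GrpObj G]
    (hG : Red.IsSemisimple G) (hnt : ∀ s : S, ¬ Red.IsTrivialGrp (Red.geomFibre s G))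
    (hsc : ∀ (s : S) (D : Red.SplitRed (Red.geomFibre s G)), Submodule.span ℤ (Set.range D.P.coroot) = ⊤)
    {A : Over S} (r : (F G).RepresentableBy A) [Etale A.hom] {G' : Over A.left} {i : G' ⟶ Red.bc A.hom G}
    {q : Red.bc A.hom G ⟶ G'} (hiq : i ≫ q = 𝟙 G') (hqi : q ≫ i = K198.BidK.phi (univ r)) :
    WeilRes.IsWeilRes A.hom G' G q := by
  refine K994.WeilEtLocal.nodeW A.hom q fun s => ?_
  obtain ⟨B, v, hv, hs, n, -, ⟨d⟩⟩ := exists_local hL hG hnt hsc s
  exact ⟨_, v, hv, hs, fun T => bijective r v d hR hG hiq hqi T⟩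

end K216.DecWeil
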