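import Mathlib.LinearAlgebra.FreeModule.PID
import Mathlib.RingTheory.Int.Basic
import Mathlib.Algebra.EuclideanDomain.Int
import Mathlib.LinearAlgebra.FreeModule.Finite.Basic
import Mathlib.GroupTheory.Finiteness
import Mathlib.RingTheory.Finiteness.Basic

/-!
# Lifting equivariant homomorphisms into an induced lattice
-/

set_option autoImplicit false
set_option linter.unusedSectionVars false

namespace K216.EquivLift

variable {W Q M X Γ : Type*} [CommGroup W] [CommGroup Q] [CommGroup M] [Group.FG M] [Finite X]

/-- `π x : W → Q` a family of homomorphisms such that there are enough equivariant families of elements of `W` which are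
concentrated at one index. Then a homomorphism modulo the intersection of the kernels, equivariant modulo this intersection,
is congruent to an equivariant homomorphism. -/
theorem exists_lift (act : Γ → W →* W) (ψ : Γ → M → M) (perm : Γ → X ≃ X) (π : X → W →* Q)
    (hπ : ∀ σ x w, π (perm σ x) (act σ w) = π x w)
    (htf : ∀ (q : Q) (n : ℤ), n ≠ 0 → q ^ n = 1 → q = 1)
    (hu : ∀ q : Q, ∃ u : X → W, (∀ σ x, act σ (u x) = u (perm σ x)) ∧ (∀ x, π x (u x) = q) ∧
      ∀ x x', x ≠ x' → π x' (u x) = 1)
    (f : M → W) (hf : ∀ m m' x, π x (f (m * m')) = π x (f m) * π x (f m'))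
    (hfσ : ∀ σ m x, π x (f (ψ σ m)) = π x (act σ (f m))) :
    ∃ g : M →* W, (∀ σ m, g (ψ σ m) = act σ (g m)) ∧ ∀ m x, π x (g m) = π x (f m) := by
  classical
  have := Fintype.ofFinite X
  let c : X → M →* Q := fun x => MonoidHom.mk' (fun m => π x (f m)) fun m m' => hf m m' x
  have hfin : Module.Finite ℤ (Additive M) := Module.Finite.iff_addGroup_fg.2 inferInstance
  let C : X → Additive M →ₗ[ℤ] Additive Q := fun x => (MonoidHom.toAdditive (c x)).toIntLinearMap
  let Φ : (X → Additive M) →ₗ[ℤ] Additive Q := ∑ x, (C x).comp (LinearMap.proj x)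
  have hΦ : ∀ x m, C x m ∈ LinearMap.range Φ := by
    intro x m
    refine ⟨Pi.single x m, ?_⟩
    simp only [Φ, LinearMap.sum_apply, LinearMap.comp_apply, LinearMap.proj_apply]
    rw [Finset.sum_eq_single x]
    · rw [Pi.single_eq_same]
    · intro y _ hy
      rw [Pi.single_eq_of_ne hy, map_zero]
    · intro h
      exact absurd (Finset.mem_univ _) h
  have htor : Module.IsTorsionFree ℤ (Additive Q) := by
    refine ⟨fun n hn q q' h => ?_⟩
    have hn0 : n ≠ 0 := hn.ne_zero
    have h1 : (n • (q - q') : Additive Q) = 0 := by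
      rw [smul_sub, sub_eq_zero]
      exact h
    have h2 : ((q - q').toMul : Q) ^ n = 1 := h1
    have h3 := htf _ n hn0 h2
    exact sub_eq_zero.1 (congrArg Additive.ofMul h3)
  have hfinL : Module.Finite ℤ (LinearMap.range Φ) := inferInstance
  have htor2 : Module.IsTorsionFree ℤ (LinearMap.range Φ) := inferInstance
  have hfree : Module.Free ℤ (LinearMap.range Φ) := Module.free_of_finite_type_torsion_free'
  let ι := Module.Free.ChooseBasisIndex ℤ (LinearMap.range Φ)
  let b : Module.Basis ι ℤ (LinearMap.range Φ) := Module.Free.chooseBasis ℤ _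
  have hj := fun j : ι => hu (b j : Additive Q).toMul
  choose u hu1 hu2 hu3 using hj
  let k : X → Additive M →ₗ[ℤ] (ι →₀ ℤ) := fun x => b.repr.toLinearMap.comp ((C x).codRestrict _ (hΦ x))
  let g : M →* W := MonoidHom.mk' (fun m => ∏ x, ∏ j, u j x ^ (k x (Additive.ofMul m) j)) (by
    intro m m'
    rw [← Finset.prod_mul_distrib]
    refine Finset.prod_congr rfl fun x _ => ?_
    rw [← Finset.prod_mul_distrib]
    refine Finset.prod_congr rfl fun j _ => ?_
    rw [ofMul_mul, map_add, Finsupp.add_apply, zpow_add])
  have hk : ∀ σ x m, k (perm σ x) (Additive.ofMul (ψ σ m)) = k x (Additive.ofMul m) := by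
    intro σ x m
    change b.repr _ = b.repr _
    congr 1
    apply Subtype.ext
    change Additive.ofMul (π (perm σ x) (f (ψ σ m))) = Additive.ofMul (π x (f m))
    rw [hfσ, hπ]
  refine ⟨g, fun σ m => ?_, fun m x => ?_⟩
  · change ∏ x, ∏ j, _ = act σ (∏ x, ∏ j, _)
    rw [map_prod]
    rw [← Equiv.prod_comp (perm σ)]
    refine Finset.prod_congr rfl fun x _ => ?_
    rw [map_prod]
    refine Finset.prod_congr rfl fun j _ => ?_
    rw [map_zpow, hu1, hk]
  · change π x (∏ x', ∏ j, _) = π x (f m)
    rw [map_prod, Finset.prod_eq_single x]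
    · rw [map_prod]
      have h1 : ∀ j, π x (u j x ^ (k x (Additive.ofMul m) j)) = (b j : Additive Q).toMul ^ (k x (Additive.ofMul m) j) := by
        intro j
        rw [map_zpow, hu2]
      rw [Finset.prod_congr rfl fun j _ => h1 j]
      have h2 := b.sum_repr ((C x).codRestrict _ (hΦ x) (Additive.ofMul m))
      have h3 := congrArg (Subtype.val) h2
      rw [AddSubmonoidClass.coe_finsetSum] at h3
      have h4 := congrArg Additive.toMul h3
      rw [toMul_sum] at h4
      exact h4
    · intro x' _ hx'
      rw [map_prod]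
      refine Finset.prod_eq_one fun j _ => ?_
      rw [map_zpow, hu3 j x' x hx', one_zpow]
    · intro h
      exact absurd (Finset.mem_univ _) h

end K216.EquivLift
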