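import Groth.Agent.Etcore.NormalEtale
import Mathlib.FieldTheory.Normal.Closure
import Mathlib.FieldTheory.SeparableClosure
import Mathlib.FieldTheory.IsSepClosed
import Mathlib.FieldTheory.Galois.Basic
import Mathlib.RingTheory.Etale.Field
import Mathlib.RingTheory.Invariant.Basic

/-!
# Galois closure of a connected finite étale algebra over a normal domain
-/

set_option autoImplicit false
set_option linter.unusedSectionVars false
universe u

open TensorProduct Groth.Agent

namespace K216.GalCover

section range

variable {R T L : Type u} [CommRing R] [IsDomain R] [IsIntegrallyClosed R] [CommRing T] [Algebra R T]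
  [Algebra.Etale R T] [Module.Finite R T] [CommRing L] [IsDomain L] [Algebra R L] [FaithfulSMul R L]

theorem etale_range (φ : T →ₐ[R] L) : Algebra.Etale R φ.range := by
  have hP : (RingHom.ker φ).IsPrime := RingHom.ker_isPrime _
  obtain ⟨e, he, heP, hd, -⟩ := Etcore.NormalEtale.exists_idempotent_notMem R T (RingHom.ker φ)
  have h1 : φ e = 1 := by
    have h2 : φ e * φ e = φ e := by rw [← map_mul, he.eq]
    have h3 : φ e ≠ 0 := fun h => heP h
    exact mul_left_cancel₀ h3 (by rw [h2, mul_one])
  have hs : Function.Surjective (algebraMap T (Localization.Away e)) := by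
    have h1 : algebraMap T (Localization.Away e) e = 1 := by
      have hu : IsUnit (algebraMap T (Localization.Away e) e) := IsLocalization.Away.algebraMap_isUnit e
      exact hu.mul_left_cancel (by rw [← map_mul, he, mul_one])
    intro z
    obtain ⟨⟨t, ⟨_, k, rfl⟩⟩, ht⟩ := IsLocalization.surj (Submonoid.powers e) z
    refine ⟨t, ?_⟩
    rw [← ht]
    simp [h1]
  have het : Algebra.Etale R (Localization.Away e) := by
    have : Algebra.Etale T (Localization.Away e) := Algebra.Etale.of_isLocalizationAway e
    exact Algebra.Etale.comp R T (Localization.Away e)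
  have hfin : Module.Finite R (Localization.Away e) :=
    Module.Finite.of_surjective (IsScalarTower.toAlgHom R T (Localization.Away e)).toLinearMap hs
  have hu : IsUnit (φ e) := by rw [h1]; exact isUnit_one
  let ψ : Localization.Away e →ₐ[R] L := IsLocalization.Away.liftAlgHom e (f := φ) hu
  have hψ : ∀ t, ψ (algebraMap T _ t) = φ t := fun t => IsLocalization.Away.lift_eq e hu t
  have hψi : Function.Injective ψ := by
    rw [injective_iff_map_eq_zero]
    have hk : RingHom.ker (ψ : Localization.Away e →+* L) = ⊥ := by
      apply Ideal.eq_bot_of_comap_eq_bot (R := R)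
      rw [eq_bot_iff]
      intro r hr
      have h2 : ψ (algebraMap R _ r) = 0 := hr
      rw [AlgHom.commutes] at h2
      exact (FaithfulSMul.algebraMap_injective R L) (by rw [h2, map_zero])
    intro x hx
    have : x ∈ RingHom.ker (ψ : Localization.Away e →+* L) := hx
    rw [hk] at this
    exact this
  have hr : ψ.range = φ.range := by
    ext x
    constructor
    · rintro ⟨z, rfl⟩
      obtain ⟨t, rfl⟩ := hs z
      exact ⟨t, (hψ t).symm⟩
    · rintro ⟨t, rfl⟩
      exact ⟨_, hψ t⟩
  have e1 : Localization.Away e ≃ₐ[R] ψ.range := AlgEquiv.ofInjective ψ hψi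
  rw [← hr]
  exact Algebra.Etale.of_equiv e1

theorem finite_range (φ : T →ₐ[R] L) : Module.Finite R φ.range :=
  Module.Finite.of_surjective φ.rangeRestrict.toLinearMap φ.rangeRestrict_surjective

end range

section sup

variable {R L : Type u} [CommRing R] [IsDomain R] [IsIntegrallyClosed R] [CommRing L] [IsDomain L] [Algebra R L]
  [FaithfulSMul R L]

/-- finite étale subalgebras -/
def FE (A : Subalgebra R L) : Prop := Algebra.Etale R A ∧ Module.Finite R A

lemma FE.bot : FE (⊥ : Subalgebra R L) := by
  have h : (Algebra.ofId R L).range = ⊥ := rfl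
  rw [← h]
  exact ⟨etale_range _, finite_range _⟩

lemma FE.sup {A B : Subalgebra R L} (hA : FE A) (hB : FE B) : FE (A ⊔ B) := by
  obtain ⟨_, _⟩ := hA
  obtain ⟨_, _⟩ := hB
  have h : (Algebra.TensorProduct.productMap A.val B.val).range = A ⊔ B := by
    rw [Algebra.TensorProduct.productMap_range, Subalgebra.range_val, Subalgebra.range_val]
  rw [← h]
  have : Algebra.Etale R (A ⊗[R] B) := by
    have : Algebra.Etale A (A ⊗[R] B) := inferInstance
    exact Algebra.Etale.comp R A (A ⊗[R] B)
  exact ⟨etale_range _, finite_range _⟩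

lemma FE.iSup {ι : Type*} [Finite ι] (A : ι → Subalgebra R L) (hA : ∀ i, FE (A i)) : FE (⨆ i, A i) := by
  have := Fintype.ofFinite ι
  rw [← Finset.sup_univ_eq_iSup]
  exact Finset.sup_induction FE.bot (fun _ h _ h' => h.sup h') fun i _ => hA i

end sup

section galois

variable (R T : Type u) [CommRing R] [IsDomain R] [IsIntegrallyClosed R] [CommRing T] [Algebra R T]
  [Algebra.Etale R T] [Module.Finite R T] [IsDomain T]

lemma isField_tensor : IsField (FractionRing R ⊗[R] T) := by
  have hinj := Etcore.NormalEtale.includeLeft_injective R T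
  set L := T ⊗[R] FractionRing R with hL
  have hinj' : Function.Injective (algebraMap T L) := hinj
  have hRS : Function.Injective (algebraMap R T) := by
    have : Module.IsTorsionFree R T := Module.Flat.isTorsionFree
    exact FaithfulSMul.algebraMap_injective R T
  have hloc : IsLocalization (Algebra.algebraMapSubmonoid T (nonZeroDivisors R)) L := inferInstance
  have hle : Algebra.algebraMapSubmonoid T (nonZeroDivisors R) ≤ nonZeroDivisors T := by
    rintro _ ⟨r, hr, rfl⟩
    rw [mem_nonZeroDivisors_iff_ne_zero]
    exact (map_ne_zero_iff _ hRS).mpr (nonZeroDivisors.ne_zero hr)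
  have hdom : IsDomain L := IsLocalization.isDomain_of_le_nonZeroDivisors L hle
  have hfin : IsField L := by
    obtain ⟨I, _, Ai, _, ⟨e⟩⟩ := Etcore.NormalEtale.exists_algEquiv_pi R T
    have : IsDomain (Π i, Ai i) := e.symm.toMulEquiv.isDomain _
    have : IsArtinianRing (Π i, Ai i) := inferInstance
    exact MulEquiv.isField (IsArtinianRing.isField_of_isDomain (Π i, Ai i)) e.toMulEquiv
  exact MulEquiv.isField hfin (Algebra.TensorProduct.comm R (FractionRing R) T).toMulEquiv

theorem exists_galois : ∃ (S : Type u) (_ : CommRing S) (_ : IsDomain S) (_ : Algebra R S) (_ : Algebra.Etale R S)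
    (_ : Module.Finite R S) (_ : FaithfulSMul R S) (Γ : Type u) (_ : Group Γ) (_ : Finite Γ)
    (_ : MulSemiringAction Γ S) (_ : SMulCommClass Γ R S) (_ : Algebra.IsInvariant R S Γ),
    Nonempty (T →ₐ[R] S) := by
  let K := FractionRing R
  let F := K ⊗[R] T
  let _ : Field F := (isField_tensor R T).toField
  have : Algebra.Etale K F := inferInstance
  have hsep : Algebra.IsSeparable K F := Algebra.FormallyEtale.iff_isSeparable (K := K) (L := F) |>.1 inferInstance
  have hfd : FiniteDimensional K F := inferInstance
  let Ω := SeparableClosure K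
  have hΩ : IsGalois K Ω := inferInstance
  have hnorm : Normal K Ω := inferInstance
  let L := IntermediateField.normalClosure K F Ω
  have hg : IsGalois K L :=
    { to_isSeparable := Algebra.isSeparable_tower_bot_of_isSeparable K L Ω
      to_normal := inferInstance }
  have hfL : FiniteDimensional K L := inferInstance
  let j₀ : F →ₐ[K] Ω := IsSepClosed.lift
  let j : F →ₐ[K] L := (IntermediateField.inclusion (AlgHom.fieldRange_le_normalClosure j₀)).comp j₀.rangeRestrict
  let _ : Algebra R L := ((algebraMap K L).comp (algebraMap R K)).toAlgebra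
  have hst : IsScalarTower R K L := .of_algebraMap_eq' rfl
  have hRL : Function.Injective (algebraMap R L) := (algebraMap K L).injective.comp (IsFractionRing.injective R K)
  have hfs : FaithfulSMul R L := (faithfulSMul_iff_algebraMap_injective R L).2 hRL
  let f₀ : T →ₐ[R] L := (j.restrictScalars R).comp (Algebra.TensorProduct.includeRight : T →ₐ[R] F)
  let Γ := L ≃ₐ[K] L
  let r : Γ → (L →ₐ[R] L) := fun σ => ((σ : L →ₐ[K] L).restrictScalars R)
  let S : Subalgebra R L := ⨆ σ : Γ, ((r σ).comp f₀).range
  have hS : FE S := FE.iSup _ fun σ => ⟨etale_range _, finite_range _⟩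
  obtain ⟨hS1, hS2⟩ := hS
  have hstab : ∀ (τ : Γ) (s : L), s ∈ S → τ s ∈ S := by
    intro τ s hs
    have h1 : S ≤ S.comap (r τ) := by
      apply iSup_le
      rintro σ _ ⟨t, rfl⟩
      have h2 : ((r (τ * σ)).comp f₀).range ≤ S := le_iSup (fun σ : Γ => ((r σ).comp f₀).range) (τ * σ)
      exact h2 ⟨t, rfl⟩
    exact h1 hs
  let act : MulSemiringAction Γ S :=
    { smul := fun σ s => ⟨σ s, hstab σ s s.2⟩
      one_smul := fun s => Subtype.ext rfl
      mul_smul := fun σ τ s => Subtype.ext rfl
      smul_zero := fun σ => Subtype.ext (map_zero σ)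
      smul_add := fun σ s t => Subtype.ext (map_add σ _ _)
      smul_one := fun σ => Subtype.ext (map_one σ)
      smul_mul := fun σ s t => Subtype.ext (map_mul σ _ _) }
  have hcomm : SMulCommClass Γ R S := ⟨fun σ x s => Subtype.ext (by
    change σ (x • (s : L)) = x • σ (s : L)
    exact map_smul (r σ) x (s : L))⟩
  have hinv : Algebra.IsInvariant R S Γ := by
    refine ⟨fun b hb => ?_⟩
    have h1 : ∀ σ : L ≃ₐ[K] L, σ (b : L) = b := fun σ => congrArg Subtype.val (hb σ)
    obtain ⟨k, hk⟩ := (IsGalois.mem_range_algebraMap_iff_fixed (F := K) (b : L)).2 h1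
    have h2 : IsIntegral R b := Algebra.IsIntegral.isIntegral b
    have h3 : IsIntegral R (b : L) := h2.map S.val
    rw [← hk] at h3
    have h4 : IsIntegral R k := (isIntegral_algebraMap_iff (algebraMap K L).injective).1 h3
    obtain ⟨x, hx⟩ := (isIntegrallyClosed_iff K).1 inferInstance h4
    refine ⟨x, Subtype.ext ?_⟩
    change algebraMap R L x = b
    rw [IsScalarTower.algebraMap_apply R K L, hx, hk]
  have hfsS : FaithfulSMul R S := (faithfulSMul_iff_algebraMap_injective R S).2 fun x y h =>
    hRL (congrArg Subtype.val h)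
  have hf₀ : ∀ t, f₀ t ∈ S := by
    intro t
    have h2 : ((r (1 : Γ)).comp f₀).range ≤ S := le_iSup (fun σ : Γ => ((r σ).comp f₀).range) 1
    exact h2 ⟨t, rfl⟩
  exact ⟨S, inferInstance, inferInstance, inferInstance, hS1, hS2, hfsS, Γ, inferInstance, inferInstance, act, hcomm,
    hinv, ⟨f₀.codRestrict S hf₀⟩⟩

end galois

end K216.GalCover
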