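import Groth.Prelude.Def_Hensel
import Groth.Agent.S0505
import Groth.Agent.S0495

/-!
# Henselization modulo an ideal with zero-dimensional quotient
-/

set_option autoImplicit false
set_option linter.unusedSectionVars false
universe u

open IsLocalRing

namespace K216.HensQuot

lemma isLocalHom_mk {A : Type u} [CommRing A] [IsLocalRing A] (I : Ideal A) (hI : I ≤ maximalIdeal A) :
    IsLocalHom (Ideal.Quotient.mk I) := by
  refine ⟨fun x hx => ?_⟩
  obtain ⟨⟨y, z, hyz, hzy⟩, hy⟩ := hx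
  obtain ⟨z, rfl⟩ := Ideal.Quotient.mk_surjective z
  have h1 : Ideal.Quotient.mk I (x * z - 1) = 0 := by
    rw [map_sub, map_mul, map_one, ← hy]
    change y * _ - 1 = 0
    rw [hyz, sub_self]
  rw [Ideal.Quotient.eq_zero_iff_mem] at h1
  by_contra hx
  have h2 : x ∈ maximalIdeal A := (mem_maximalIdeal _).2 hx
  have h3 := (maximalIdeal A).sub_mem (Ideal.mul_mem_right z _ h2) (hI h1)
  rw [sub_sub_cancel] at h3
  exact (Ideal.ne_top_iff_one _).1 (maximalIdeal.isMaximal A).ne_top h3

lemma isLocalRing_quot {A : Type u} [CommRing A] [IsLocalRing A] (I : Ideal A) (hI : I ≤ maximalIdeal A) :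
    IsLocalRing (A ⧸ I) := by
  have hnt : Nontrivial (A ⧸ I) := Ideal.Quotient.nontrivial_iff.2 fun h =>
    (maximalIdeal.isMaximal A).ne_top (top_le_iff.1 (h ▸ hI))
  exact IsLocalRing.of_surjective' (Ideal.Quotient.mk I) Ideal.Quotient.mk_surjective

lemma henselian_quot {A : Type u} [CommRing A] [HenselianLocalRing A] (I : Ideal A) (hI : I ≤ maximalIdeal A) :
    HenselianLocalRing (A ⧸ I) := by
  have := isLocalRing_quot I hI
  exact Groth.Agent.S0505.result A (A ⧸ I)

lemma henselian_of_nil {A : Type u} [CommRing A] [IsLocalRing A] (b : A) (hb : b ∈ maximalIdeal A)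
    (hnil : ∀ x ∈ maximalIdeal A, ∃ k, b ∣ x ^ k) : HenselianLocalRing (A ⧸ Ideal.span {b}) := by
  have hI : Ideal.span {b} ≤ maximalIdeal A := (Ideal.span_singleton_le_iff_mem _).2 hb
  have := isLocalRing_quot _ hI
  apply Groth.Agent.S0495.result
  have : Nontrivial (A ⧸ Ideal.span {b}) := inferInstance
  rw [← ringKrullDimZero_iff_ringKrullDim_eq_zero, Ring.krullDimLE_zero_iff]
  intro P hP
  have h1 : (P.comap (Ideal.Quotient.mk (Ideal.span {b}))) = maximalIdeal A := by
    apply le_antisymm (le_maximalIdeal (Ideal.comap_ne_top _ hP.ne_top))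
    intro x hx
    obtain ⟨k, y, hy⟩ := hnil x hx
    have h2 : (Ideal.Quotient.mk (Ideal.span {b}) x) ^ k ∈ P := by
      rw [← map_pow, hy, map_mul, Ideal.Quotient.eq_zero_iff_mem.2 (Ideal.mem_span_singleton_self b), zero_mul]
      exact P.zero_mem
    exact hP.mem_of_pow_mem _ h2
  have h2 := Ideal.map_eq_top_or_isMaximal_of_surjective (Ideal.Quotient.mk (Ideal.span {b}))
    Ideal.Quotient.mk_surjective (h1 ▸ maximalIdeal.isMaximal A : (P.comap (Ideal.Quotient.mk (Ideal.span {b}))).IsMaximal)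
  rw [Ideal.map_comap_of_surjective _ Ideal.Quotient.mk_surjective] at h2
  exact h2.resolve_left hP.ne_top

variable {V S : Type u} [CommRing V] [IsLocalRing V] [CommRing S] [IsLocalRing S] [Algebra V S]
  [IsLocalHom (algebraMap V S)] [h : Hensel.IsHenselization V S]

include h in
theorem exists_retraction (b : V) (hb : b ∈ maximalIdeal V) (hnil : ∀ x ∈ maximalIdeal V, ∃ k, b ∣ x ^ k) :
    ∃ g : S →+* V ⧸ Ideal.span {b}, g.comp (algebraMap V S) = Ideal.Quotient.mk _ ∧
      ∀ (s : S) (v : V), g s = Ideal.Quotient.mk _ v → ∃ r, s = algebraMap V S v + algebraMap V S b * r := by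
  have hI : Ideal.span {b} ≤ maximalIdeal V := (Ideal.span_singleton_le_iff_mem _).2 hb
  have h1 := henselian_of_nil b hb hnil
  obtain ⟨g, hg, -⟩ := h.universal (V ⧸ Ideal.span {b}) (Ideal.Quotient.mk _) (isLocalHom_mk _ hI)
  refine ⟨g, hg, fun s v hsv => ?_⟩
  let J : Ideal S := Ideal.span {algebraMap V S b}
  have hbS : algebraMap V S b ∈ maximalIdeal S := by
    rw [mem_maximalIdeal, mem_nonunits_iff] at hb ⊢
    exact fun hu => hb (isUnit_of_map_unit (algebraMap V S) b hu)
  have hJ : J ≤ maximalIdeal S := (Ideal.span_singleton_le_iff_mem _).2 hbS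
  have hS := h.henselian
  have h2 : HenselianLocalRing (S ⧸ J) := henselian_quot J hJ
  let j : V ⧸ Ideal.span {b} →+* S ⧸ J := Ideal.Quotient.lift _ ((Ideal.Quotient.mk J).comp (algebraMap V S)) (by
    intro x hx
    obtain ⟨y, rfl⟩ := Ideal.mem_span_singleton.1 hx
    rw [RingHom.comp_apply, map_mul, Ideal.Quotient.eq_zero_iff_mem]
    exact Ideal.mul_mem_right _ _ (Ideal.mem_span_singleton_self _))
  have hl := isLocalHom_mk J hJ
  have h3 : IsLocalHom ((Ideal.Quotient.mk J).comp (algebraMap V S)) := inferInstance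
  have h4 := (h.universal (S ⧸ J) ((Ideal.Quotient.mk J).comp (algebraMap V S)) h3).unique
    (y₁ := j.comp g) (y₂ := Ideal.Quotient.mk J) (by
      rw [RingHom.comp_assoc, hg]
      ext x
      rfl) rfl
  have h5 := RingHom.congr_fun h4 s
  rw [RingHom.comp_apply, hsv] at h5
  have h6 : Ideal.Quotient.mk J (algebraMap V S v) = Ideal.Quotient.mk J s := h5
  rw [eq_comm, Ideal.Quotient.eq, Ideal.mem_span_singleton] at h6
  obtain ⟨r, hr⟩ := h6
  exact ⟨r, by rw [← hr, add_sub_cancel]⟩

include h in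
theorem exists_sub (b : V) (hb : b ∈ maximalIdeal V) (hnil : ∀ x ∈ maximalIdeal V, ∃ k, b ∣ x ^ k) (s : S) :
    ∃ (v : V) (r : S), s = algebraMap V S v + algebraMap V S b * r := by
  obtain ⟨g, -, hg⟩ := exists_retraction (S := S) b hb hnil
  obtain ⟨v, hv⟩ := Ideal.Quotient.mk_surjective (g s)
  exact ⟨v, hg s v hv.symm⟩

include h in
theorem dvd_of_dvd (b : V) (hb : b ∈ maximalIdeal V) (hnil : ∀ x ∈ maximalIdeal V, ∃ k, b ∣ x ^ k) (v : V)
    (hv : algebraMap V S b ∣ algebraMap V S v) : b ∣ v := by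
  obtain ⟨g, hg, -⟩ := exists_retraction (S := S) b hb hnil
  obtain ⟨s, hs⟩ := hv
  rw [← Ideal.mem_span_singleton, ← Ideal.Quotient.eq_zero_iff_mem]
  have h1 := RingHom.congr_fun hg v
  have h2 := RingHom.congr_fun hg b
  rw [RingHom.comp_apply] at h1 h2
  rw [← h1, hs, map_mul, h2, Ideal.Quotient.eq_zero_iff_mem.2 (Ideal.mem_span_singleton_self b), zero_mul]

end K216.HensQuot
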