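import Groth.Agent.Sga3B.Hens.CocHens
import Groth.Agent.Hensel.LocalSplit
import Mathlib.AlgebraicGeometry.Morphisms.Smooth
import Mathlib.AlgebraicGeometry.Morphisms.Etale

/-!
# Sections of smooth schemes and local factors of étale schemes over henselian local rings

* `exists_section`: a point of a smooth scheme over a henselian local ring with values in the residue field lifts
  to a section.
* `exists_local_etale`: an étale scheme `U` over a henselian local ring with a point over the closed point
  receives a map from the spectrum of a local finite étale algebra.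
-/

set_option autoImplicit false
universe u

open CategoryTheory Limits AlgebraicGeometry
open IsLocalRing

namespace K216.HensSmooth

/-- A point of a smooth scheme over a henselian local ring with values in the residue field lifts. -/
theorem exists_section {A : Type u} [CommRing A] [HenselianLocalRing A] {M : Scheme.{u}}
    (f : M ⟶ Spec (CommRingCat.of A)) [Smooth f]
    (x : Spec (CommRingCat.of (ResidueField A)) ⟶ M)
    (hx : x ≫ f = Spec.map (CommRingCat.ofHom (residue A))) :
    ∃ s : Spec (CommRingCat.of A) ⟶ M, s ≫ f = 𝟙 _ ∧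
      Spec.map (CommRingCat.ofHom (residue A)) ≫ s = x := by
  obtain ⟨_, ⟨V, hV, rfl⟩, hxV, -⟩ := M.isBasis_affineOpens.exists_subset_of_mem_open
    (a := x (closedPoint (ResidueField A))) (Set.mem_univ _) isOpen_univ
  have hV : IsAffineOpen V := hV
  have hr : Set.range x ⊆ Set.range hV.fromSpec := by
    rintro _ ⟨y, rfl⟩
    rw [hV.range_fromSpec]
    obtain rfl : y = closedPoint (ResidueField A) := Subsingleton.elim _ _
    exact hxV
  let x' : Spec (CommRingCat.of (ResidueField A)) ⟶ Spec Γ(M, V) := IsOpenImmersion.lift hV.fromSpec x hr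
  have hx' : x' ≫ hV.fromSpec = x := IsOpenImmersion.lift_fac _ _ _
  obtain ⟨φ, hφ⟩ : ∃ φ : CommRingCat.of A ⟶ Γ(M, V), Spec.map φ = hV.fromSpec ≫ f :=
    ⟨Spec.preimage _, Spec.map_preimage _⟩
  algebraize [φ.hom]
  have hsm : Algebra.Smooth A Γ(M, V) := by
    have h1 : Smooth (Spec.map φ) := by rw [hφ]; infer_instance
    have h2 := (HasRingHomProperty.Spec_iff (P := @Smooth)).mp h1
    exact h2
  obtain ⟨ψ, hψ⟩ : ∃ ψ : Γ(M, V) ⟶ CommRingCat.of (ResidueField A), Spec.map ψ = x' :=
    ⟨Spec.preimage _, Spec.map_preimage _⟩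
  have hc : φ ≫ ψ = CommRingCat.ofHom (residue A) := by
    apply Spec.map_injective
    rw [Spec.map_comp, hψ, hφ, ← Category.assoc, hx', hx]
  let q : Γ(M, V) →ₐ[A] ResidueField A :=
    { ψ.hom with
      commutes' := fun r => by
        have := congrArg (fun z => z.hom r) hc
        exact this }
  obtain ⟨q', hq'⟩ := Groth.Agent.Sga3B.Hens.CocHens.exists_algHom_lift Γ(M, V) q
  refine ⟨Spec.map (CommRingCat.ofHom q'.toRingHom) ≫ hV.fromSpec, ?_, ?_⟩
  · rw [Category.assoc, ← hφ, ← Spec.map_comp, ← Spec.map_id]
    congr 1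
    ext r
    exact q'.commutes r
  · rw [← Category.assoc, ← Spec.map_comp, ← hx', ← hψ]
    congr 2
    ext r
    exact DFunLike.congr_fun hq' r

/-- An étale scheme over a henselian local ring with a point over the closed point receives a map from
the spectrum of a local finite étale algebra. -/
theorem exists_local_etale {A : Type u} [CommRing A] [HenselianLocalRing A] {U : Scheme.{u}}
    (f : U ⟶ Spec (CommRingCat.of A)) [Etale f] (x : U) (hx : f x = closedPoint A) :
    ∃ (A' : Type u) (_ : CommRing A') (_ : Algebra A A') (_ : IsLocalRing A'),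
      Module.Finite A A' ∧ Algebra.Etale A A' ∧ ∃ g : Spec (CommRingCat.of A') ⟶ U,
        g ≫ f = Spec.map (CommRingCat.ofHom (algebraMap A A')) := by
  obtain ⟨_, ⟨V, hV, rfl⟩, hxV, -⟩ := U.isBasis_affineOpens.exists_subset_of_mem_open
    (a := x) (Set.mem_univ _) isOpen_univ
  have hV : IsAffineOpen V := hV
  obtain ⟨φ, hφ⟩ : ∃ φ : CommRingCat.of A ⟶ Γ(U, V), Spec.map φ = hV.fromSpec ≫ f :=
    ⟨Spec.preimage _, Spec.map_preimage _⟩
  obtain ⟨Q, hQ⟩ : ∃ Q : Spec Γ(U, V), hV.fromSpec Q = x := by
    have := hV.range_fromSpec.ge hxV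
    exact this
  algebraize [φ.hom]
  let C := Γ(U, V)
  have het : Algebra.Etale A C := by
    have h1 : Etale (Spec.map φ) := by rw [hφ]; infer_instance
    have h2 := (HasRingHomProperty.Spec_iff (P := @Etale)).mp h1
    exact h2
  have hQm : Q.asIdeal.comap (algebraMap A C) = maximalIdeal A := by
    have h1 : (Spec.map φ) Q = closedPoint A := by
      rw [hφ, Scheme.Hom.comp_apply, hQ, hx]
    exact congrArg PrimeSpectrum.asIdeal h1
  have hprime : Q.asIdeal.IsPrime := Q.isPrime
  have : Q.asIdeal.LiesOver (maximalIdeal A) := ⟨hQm.symm⟩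
  obtain ⟨e, he, heQ, hfin, huniq⟩ :=
    Groth.Agent.Hensel.LocalSplit.exists_isIdempotentElem_of_quasiFiniteAt (R := A) Q.asIdeal
  let A' := C ⧸ Ideal.span {1 - e}
  have hloc : IsLocalization.Away e A' := IsLocalization.Away.quotient_of_isIdempotentElem he
  have het' : Algebra.Etale C A' := Algebra.Etale.of_isLocalizationAway e
  have het2 : Algebra.Etale A A' := Algebra.Etale.comp A C A'
  have hmax : ∀ n : Ideal A', n.IsMaximal → n.comap (algebraMap C A') = Q.asIdeal := by
    intro n hn
    have h1 : n.LiesOver (maximalIdeal A) := Groth.Agent.Hensel.LocalSplit.comap_eq_maximalIdeal n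
    refine huniq _ inferInstance ⟨?_⟩ ?_
    · rw [h1.over]
      rw [Ideal.under, Ideal.under, Ideal.comap_comap, ← IsScalarTower.algebraMap_eq]
    · intro h2
      apply hn.ne_top
      rw [Ideal.eq_top_iff_one]
      have h3 : algebraMap C A' e = 1 := by
        have : algebraMap C A' (1 - e) = 0 :=
          Ideal.Quotient.eq_zero_iff_mem.mpr (Ideal.subset_span rfl)
        rw [map_sub, map_one, sub_eq_zero] at this
        exact this.symm
      rw [← h3]
      exact h2
  have hnt : Nontrivial A' := by
    have : Ideal.span {1 - e} ≤ Q.asIdeal := by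
      rw [Ideal.span_singleton_le_iff_mem]
      exact Groth.Agent.Hensel.LocalSplit.one_sub_mem_of_notMem he heQ
    exact Ideal.Quotient.nontrivial_iff.mpr (fun h => Q.isPrime.ne_top (top_le_iff.mp (h ▸ this)))
  obtain ⟨n₀, hn₀⟩ := Ideal.exists_maximal A'
  have hlocal : IsLocalRing A' := by
    refine IsLocalRing.of_unique_max_ideal ⟨n₀, hn₀, ?_⟩
    intro n hn
    have h1 := (hmax n hn).trans (hmax n₀ hn₀).symm
    exact Ideal.comap_injective_of_surjective _ Ideal.Quotient.mk_surjective h1
  refine ⟨A', inferInstance, inferInstance, hlocal, hfin, het2,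
    Spec.map (CommRingCat.ofHom (algebraMap C A')) ≫ hV.fromSpec, ?_⟩
  rw [Category.assoc, ← hφ, ← Spec.map_comp]
  congr 1

end K216.HensSmooth
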