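import Mathlib.RingTheory.Valuation.LocalSubring
import Mathlib.RingTheory.Ideal.GoingDown
import Mathlib.RingTheory.Etale.Basic
import Mathlib.RingTheory.Unramified.Finite
import Mathlib.RingTheory.Flat.FaithfullyFlat.Algebra
import Mathlib.FieldTheory.IsAlgClosed.AlgebraicClosure
import Mathlib.RingTheory.RingHom.Etale

/-!
# Valuation rings of an algebraic closure containing an étale algebra
-/

set_option autoImplicit false
universe u

open IsLocalRing TensorProduct

namespace K216.IsogVal

theorem exists_hom {V F : Type u} [CommRing V] [IsDomain V] [Field F] [Algebra V F]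
    [IsFractionRing V F] {B₀ : Type u} [CommRing B₀] [Algebra V B₀] [Algebra.Etale V B₀] (m : Ideal V) [m.IsPrime]
    (q : PrimeSpectrum B₀) (hq : q.asIdeal.comap (algebraMap V B₀) = m) :
    ∃ θ : B₀ →+* AlgebraicClosure F, (∀ v, θ (algebraMap V B₀ v) = algebraMap F _ (algebraMap V F v)) ∧
      RingHom.ker θ ≤ q.asIdeal := by
  have hflat : Module.Flat V B₀ := inferInstance
  have hlo : q.asIdeal.LiesOver m := ⟨hq.symm⟩
  obtain ⟨P₀, hP₀, hp, hl⟩ := Ideal.exists_ideal_le_liesOver_of_le (R := V) (S := B₀) (p := ⊥) (q := m)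
    q.asIdeal bot_le
  have hinj : ∀ v : V, algebraMap V B₀ v ∈ P₀ → v = 0 := by
    intro v hv
    have h1 : v ∈ P₀.under V := hv
    rw [← hl.over] at h1
    exact h1
  -- the residue field of `P₀`
  let k := P₀.ResidueField
  have hk : Function.Injective (algebraMap V k) := by
    rw [injective_iff_map_eq_zero]
    intro v hv
    apply hinj
    rw [IsScalarTower.algebraMap_apply V B₀ k] at hv
    rwa [Ideal.algebraMap_residueField_eq_zero] at hv
  let i : F →+* k := IsFractionRing.lift hk
  let _ : Algebra F k := i.toAlgebra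
  have hsc : IsScalarTower V F k := IsScalarTower.of_algebraMap_eq fun v =>
    (IsFractionRing.lift_algebraMap hk v).symm
  let L := F ⊗[V] B₀
  have hL : Algebra.Etale F L := inferInstance
  have hLf : Module.Finite F L := Algebra.FormallyUnramified.finite_of_free F L
  let π : L →ₐ[F] k := Algebra.TensorProduct.lift (Algebra.ofId F k) (IsScalarTower.toAlgHom V B₀ k)
    (fun _ _ => Commute.all _ _)
  have hint : Algebra.IsIntegral F L := inferInstance
  let E := π.range
  have hE : Algebra.IsIntegral F E := by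
    have : Module.Finite F E := Module.Finite.of_surjective π.rangeRestrict.toLinearMap π.rangeRestrict_surjective
    infer_instance
  have hEa : Algebra.IsAlgebraic F E := inferInstance
  let σ : E →ₐ[F] AlgebraicClosure F := IsAlgClosed.lift
  have hσ : Function.Injective σ := by
    have hf : IsField E := isField_of_isIntegral_of_isField' (Field.toIsField F)
    rw [injective_iff_map_eq_zero]
    intro x hx
    by_contra hne
    obtain ⟨y, hy⟩ := hf.mul_inv_cancel hne
    have h1 := congrArg σ hy
    rw [map_mul, hx, zero_mul, map_one] at h1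
    exact zero_ne_one h1
  refine ⟨(σ.toRingHom.comp π.rangeRestrict.toRingHom).comp
    (Algebra.TensorProduct.includeRight : B₀ →ₐ[V] L).toRingHom, fun v => ?_, fun b hb => ?_⟩
  · change σ (π.rangeRestrict ((1 : F) ⊗ₜ[V] algebraMap V B₀ v)) = _
    have h1 : (1 : F) ⊗ₜ[V] algebraMap V B₀ v = algebraMap F L (algebraMap V F v) := by
      rw [Algebra.algebraMap_eq_smul_one, ← TensorProduct.smul_tmul, Algebra.smul_def, mul_one]
      rfl
    rw [h1, AlgHom.commutes, AlgHom.commutes]
  · have h1 : σ (π.rangeRestrict ((1 : F) ⊗ₜ[V] b)) = 0 := hb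
    have h2 : π.rangeRestrict ((1 : F) ⊗ₜ[V] b) = 0 := hσ (by rw [h1, map_zero])
    have h3 : π ((1 : F) ⊗ₜ[V] b) = 0 := congrArg Subtype.val h2
    have h4 : π ((1 : F) ⊗ₜ[V] b) = algebraMap B₀ k b := by
      change Algebra.TensorProduct.lift _ _ _ _ = _
      rw [Algebra.TensorProduct.lift_tmul, map_one, one_mul]
      rfl
    rw [h4, Ideal.algebraMap_residueField_eq_zero] at h3
    exact hP₀ h3

theorem exists_valuationSubring {V F : Type u} [CommRing V] [IsDomain V] [ValuationRing V] [Field F] [Algebra V F]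
    [IsFractionRing V F] {B₀ : Type u} [CommRing B₀] [Algebra V B₀] [Algebra.Etale V B₀]
    (q : PrimeSpectrum B₀) (hq : q.asIdeal.comap (algebraMap V B₀) = maximalIdeal V) :
    ∃ (W : ValuationSubring (AlgebraicClosure F)) (φ : B₀ →+* W),
      (∀ v : V, ((φ (algebraMap V B₀ v) : W) : AlgebraicClosure F) = algebraMap F _ (algebraMap V F v)) ∧
      ∀ x : F, algebraMap F (AlgebraicClosure F) x ∈ W → ∃ v : V, algebraMap V F v = x := by
  obtain ⟨θ, hθ, hker⟩ := exists_hom (F := F) (maximalIdeal V) q hq
  have hI : Ideal.map θ.rangeRestrict q.asIdeal ≠ ⊤ := by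
    intro h
    have h1 := congrArg (Ideal.comap θ.rangeRestrict) h
    rw [Ideal.comap_map_of_surjective' _ θ.rangeRestrict_surjective, Ideal.comap_top] at h1
    have h2 : RingHom.ker θ.rangeRestrict ≤ q.asIdeal := by
      rw [RingHom.ker_rangeRestrict]
      exact hker
    rw [sup_eq_left.2 h2] at h1
    exact q.isPrime.ne_top h1
  obtain ⟨W, hW1, hW2⟩ := Ideal.image_subset_nonunits_valuationSubring _ hI
  refine ⟨W, (Subring.inclusion hW1).comp θ.rangeRestrict, hθ, fun x hx => ?_⟩
  by_contra hcon
  push Not at hcon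
  rcases ValuationRing.isInteger_or_isInteger V x with h | h
  · obtain ⟨v, hv⟩ := h
    exact hcon v hv
  · obtain ⟨v, hv⟩ := h
    have hx0 : x ≠ 0 := by
      rintro rfl
      exact hcon 0 (map_zero _)
    have hvm : v ∈ maximalIdeal V := by
      rw [mem_maximalIdeal, mem_nonunits_iff]
      intro hu
      obtain ⟨w, hw⟩ := hu.exists_right_inv
      apply hcon w
      have h1 := congrArg (algebraMap V F) hw
      rw [map_mul, hv, map_one] at h1
      field_simp at h1
      exact h1
    have h2 : algebraMap V B₀ v ∈ q.asIdeal := by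
      rw [← hq] at hvm
      exact hvm
    have h3 : algebraMap F (AlgebraicClosure F) x⁻¹ ∈ W.nonunits := by
      apply hW2
      refine ⟨θ.rangeRestrict (algebraMap V B₀ v), Ideal.mem_map_of_mem _ h2, ?_⟩
      rw [← hv]
      exact hθ v
    rw [ValuationSubring.mem_nonunits_iff_exists_mem_maximalIdeal] at h3
    obtain ⟨h4, h5⟩ := h3
    rw [mem_maximalIdeal, mem_nonunits_iff] at h5
    apply h5
    refine IsUnit.of_mul_eq_one ⟨_, hx⟩ ?_
    apply Subtype.ext
    change algebraMap F _ x⁻¹ * algebraMap F _ x = 1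
    rw [← map_mul, inv_mul_cancel₀ hx0, map_one]

end K216.IsogVal
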