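import Groth.Agent.Sga3B.MT.Final824
import Groth.Agent.Sga3B.SplitFin885
import Groth.Prelude.Def_W4c4lgringredgrpLG

/-!
# Maximal tori over LG-rings

* `exists_open`: the condition that a linear combination `∑ a_j ξ_j` of infinitesimal automorphisms is
  regular at a point `t` of the base is open in `(a, t)`;
* `exists_maximalTorus`: a reductive group over an LG-ring has a maximal torus.
-/

set_option autoImplicit false
universe u

open CategoryTheory MonoidalCategory CartesianMonoidalCategory MonObj GrpObj AlgebraicGeometry Limits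
open TensorProduct
open Groth.Agent.Sga3B.Cell

namespace K216.LG

open Groth.Agent Groth.Agent.Sga3B Groth.Agent.Sga3B.BcPts Groth.Agent.Sga3B.Parab Groth.Agent.Sga3B.ResAlg
open Groth.Agent.Books.AffBridge Groth.Agent.Sga3B.MT

lemma aeval_eq_eval' {R : Type u} [CommRing R] {n : ℕ} (v : Fin n → R) (f : MvPolynomial (Fin n) R) :
    MvPolynomial.aeval v f = MvPolynomial.eval v f :=
  DFunLike.congr_fun (MvPolynomial.coe_aeval_eq_eval v) f

/-- base change of an étale ring homomorphism, with points -/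
theorem exists_bc {C B R : Type u} [CommRing C] [CommRing B] [CommRing R] (θ : C →+* B) (hθ : θ.Etale)
    (e : C →+* R) :
    ∃ (B₃ : Type u) (_ : CommRing B₃) (_ : Algebra R B₃) (π : B →+* B₃), (algebraMap R B₃).Etale ∧
      π.comp θ = (algebraMap R B₃).comp e ∧
      ∀ (t : PrimeSpectrum R) (q : PrimeSpectrum B), PrimeSpectrum.comap θ q = PrimeSpectrum.comap e t →
        ∃ r : PrimeSpectrum B₃, PrimeSpectrum.comap (algebraMap R B₃) r = t := by
  let _ : Algebra C B := θ.toAlgebra
  let _ : Algebra C R := e.toAlgebra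
  have : Algebra.Etale C B := hθ
  refine ⟨R ⊗[C] B, inferInstance, inferInstance, Algebra.TensorProduct.includeRight.toRingHom,
    RingHom.etale_algebraMap.mpr inferInstance, ?_, fun t q h => ?_⟩
  · ext c
    exact (Algebra.TensorProduct.includeRight.commutes (R := C) c).trans
      (Algebra.TensorProduct.algebraMap_apply (R := C) (S := C) (A := R) (B := B) c)
  · have h1 := isPullback_SpecMap_of_isPushout _ _ _ _ (CommRingCat.isPushout_tensorProduct C R B)
    obtain ⟨r, hr, -⟩ := Scheme.Pullback.exists_preimage_pullback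
      (f := Spec.map (CommRingCat.ofHom (algebraMap C R))) (g := Spec.map (CommRingCat.ofHom (algebraMap C B)))
      t q h.symm
    refine ⟨h1.isoPullback.inv r, ?_⟩
    have h2 := congrArg (fun f => f r) (congrArg (fun f => f.base) h1.isoPullback_inv_fst)
    exact h2.trans hr

section

variable {R : Type u} [CommRing R] {G : Over (Spec (CommRingCat.of R))} [GrpObj G]
  {A : Type u} [CommRing A] [Algebra R A] [PtGrp R A] (Q : GPts G A)

theorem exists_open [Algebra.Smooth R A] [Algebra.FinitePresentation R A] (hdom : MT.GeomDom R A)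
    (hstr : StructHyp R A) {n : ℕ} (ξ : Fin n → InfAut R A R) (i : Fin n) (K : Chart Q (ξ i))
    (s : PrimeSpectrum R) (hs : s ∈ Set.range (PrimeSpectrum.comap (algebraMap R K.B₁))) :
    ∃ f : MvPolynomial (Fin n) R, MvPolynomial.eval (Pi.single i 1) f ∉ s.asIdeal ∧
      ∀ (a : Fin n → R) (t : PrimeSpectrum R), MvPolynomial.eval a f ∉ t.asIdeal →
        ∃ K' : Chart Q (∑ j, a j • ξ j), t ∈ Set.range (PrimeSpectrum.comap (algebraMap R K'.B₁)) := by
  obtain ⟨q, hq⟩ := hs
  let k := q.asIdeal.ResidueField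
  let C := MvPolynomial (Fin n) R
  let P := C ⊗[R] K.B₁
  let ι₁ : K.B₁ →ₐ[R] P := Algebra.TensorProduct.includeRight
  let ι₀ : C →ₐ[R] P := Algebra.TensorProduct.includeLeft
  let ρ : K.B₀ →ₐ[R] P := ι₁.comp K.ψ
  let κ₀ : K.B₁ →ₐ[R] k := IsScalarTower.toAlgHom R K.B₁ k
  let e₀ : C →ₐ[R] k := MvPolynomial.aeval (Pi.single i (1 : k))
  let κ : P →ₐ[R] k := Algebra.TensorProduct.lift e₀ κ₀ (fun _ _ => Commute.all _ _)
  have hκ1 : κ.comp ι₁ = κ₀ := by
    apply AlgHom.ext
    intro b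
    change Algebra.TensorProduct.lift e₀ κ₀ (fun _ _ => Commute.all _ _) ((1 : C) ⊗ₜ[R] b) = _
    simp
  have hκ0 : κ.comp ι₀ = e₀ := by
    apply AlgHom.ext
    intro b
    change Algebra.TensorProduct.lift e₀ κ₀ (fun _ _ => Commute.all _ _) (b ⊗ₜ[R] (1 : K.B₁)) = _
    simp
  let x : InfAut R A P := ∑ j, (ι₀ (MvPolynomial.X j)) • InfAut.map (Algebra.ofId R P) (ξ j)
  have hx : ∀ {E : Type u} [CommRing E] [Algebra R E] (χ : P →ₐ[R] E), InfAut.map χ x =
      ∑ j, χ (ι₀ (MvPolynomial.X j)) • InfAut.map (Algebra.ofId R E) (ξ j) := by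
    intro E _ _ χ
    rw [map_sum]
    refine Finset.sum_congr rfl fun j _ => ?_
    have h : χ.comp (Algebra.ofId R P) = Algebra.ofId R E := AlgHom.ext fun r => χ.commutes r
    rw [InfAut.map_smul, InfAut.map_map, h]
  let F' := K.F.bc ρ
  have hreg : F'.IsReg κ (InfAut.map κ x) := by
    rw [RCell.bc_isReg, hx]
    have h1 : ∀ j, κ (ι₀ (MvPolynomial.X j)) = (Pi.single i (1 : k) : Fin n → k) j := by
      intro j
      have := congrArg (fun f : C →ₐ[R] k => f (MvPolynomial.X j)) hκ0
      refine this.trans ?_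
      exact MvPolynomial.aeval_X _ _
    simp only [h1]
    rw [Finset.sum_eq_single i, Pi.single_eq_same, one_smul]
    · have h2 : K.F.IsReg K.ψ (InfAut.map (Algebra.ofId R K.B₁) (ξ i)) := ⟨K.g, K.c, K.y, K.diag, K.reg, K.eq⟩
      have h3 := h2.map κ₀
      have h4 : κ₀.comp (Algebra.ofId R K.B₁) = Algebra.ofId R k := AlgHom.ext fun r => κ₀.commutes r
      rw [InfAut.map_map, h4] at h3
      have h5 : κ.comp ρ = κ₀.comp K.ψ := by
        rw [← hκ1]
        rfl
      rw [h5]
      exact h3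
    · intro j _ hj
      rw [Pi.single_eq_of_ne hj, zero_smul]
    · intro h
      exact absurd (Finset.mem_univ i) h
  obtain ⟨B₂, _, _, ψ₂, hψ₂, ⟨q₂, hq₂⟩, hreg₂⟩ := F'.exists_etale'
    (fun φ c => F'.exists_diag hdom φ c)
    (fun φ c y y' hy hy' => F'.ext_infAut hdom φ y y'
      (fun ψ t => (hy.1 ψ t).trans (hy'.1 ψ t).symm)
      (fun a _ _ _ ψ z => (hy.2 a ψ z).trans (hy'.2 a ψ z).symm))
    (fun φ x => hstr.zero F' φ x)
    (fun φ ψ h1 h2 ξ g₀ c₀ y₀ h3 h4 h5 => hstr.lift F' φ ψ h1 h2 ξ g₀ c₀ y₀ h3 h4 h5)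
    x k κ hreg
  let θ : C →+* B₂ := ψ₂.toRingHom.comp ι₀.toRingHom
  have hetK : (algebraMap R K.B₁).Etale := by
    have := RingHom.Etale.stableUnderComposition _ _ K.et₀ K.et₁
    rwa [show K.ψ.toRingHom.comp (algebraMap R K.B₀) = algebraMap R K.B₁ from K.ψ.comp_algebraMap] at this
  have hetK' : Algebra.Etale R K.B₁ := RingHom.etale_algebraMap.mp hetK
  have hι₀ : ι₀.toRingHom.Etale := by
    have h1 : Algebra.Etale C P := inferInstance
    exact RingHom.etale_algebraMap.mpr h1
  have hθ : θ.Etale := RingHom.Etale.stableUnderComposition _ _ hι₀ hψ₂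
  have hop : IsOpen (Set.range (PrimeSpectrum.comap θ)) := by
    have h1 : Etale (Spec.map (CommRingCat.ofHom θ)) := by
      rw [HasRingHomProperty.Spec_iff (P := @Etale)]
      exact hθ
    exact (Spec.map (CommRingCat.ofHom θ)).isOpenMap.isOpen_range
  -- the point of `Spec R[X]`
  let p₀ : PrimeSpectrum C := PrimeSpectrum.comap (MvPolynomial.eval (Pi.single i (1 : R))) s
  have hp₀ : p₀ ∈ Set.range (PrimeSpectrum.comap θ) := by
    refine ⟨q₂, ?_⟩
    apply PrimeSpectrum.ext
    ext c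
    have h1 : c ∈ (PrimeSpectrum.comap θ q₂).asIdeal ↔ e₀ c = 0 := by
      rw [← hκ0]
      change ψ₂ (ι₀ c) ∈ q₂.asIdeal ↔ κ (ι₀ c) = 0
      rw [← RingHom.mem_ker, ← hq₂]
      rfl
    rw [h1]
    change _ ↔ MvPolynomial.eval (Pi.single i (1 : R)) c ∈ s.asIdeal
    have h2 : e₀ c = algebraMap R k (MvPolynomial.eval (Pi.single i (1 : R)) c) := by
      have h3 : (Pi.single i (1 : k) : Fin n → k) = fun j => algebraMap R k ((Pi.single i (1 : R) : Fin n → R) j) := by
        funext j
        by_cases hj : j = i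
        · subst hj; simp
        · simp [Pi.single_eq_of_ne hj]
      change MvPolynomial.aeval (Pi.single i (1 : k)) c = _
      rw [h3]
      exact (MvPolynomial.aeval_algebraMap_apply k (Pi.single i (1 : R)) c).trans
        (congrArg (algebraMap R k) (aeval_eq_eval' _ c))
    rw [h2, ← hq]
    change algebraMap R k _ = 0 ↔ algebraMap R K.B₁ _ ∈ q.asIdeal
    rw [IsScalarTower.algebraMap_apply R K.B₁ k, Ideal.algebraMap_residueField_eq_zero]
  obtain ⟨_, ⟨_, ⟨f, rfl⟩, rfl⟩, hf1, hf2⟩ := PrimeSpectrum.isBasis_basic_opens.exists_subset_of_mem_open hp₀ hop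
  refine ⟨f, hf1, fun a t hat => ?_⟩
  have hat' : PrimeSpectrum.comap (MvPolynomial.eval a) t ∈ Set.range (PrimeSpectrum.comap θ) := hf2 hat
  obtain ⟨q₃, hq₃⟩ := hat'
  obtain ⟨B₃, _, _, π, hB₃, hπ, hpt⟩ := exists_bc θ hθ (MvPolynomial.eval a)
  let π' : B₂ →ₐ[R] B₃ :=
    { π with
      commutes' := fun r => by
        have h1 : algebraMap R B₂ r = θ (MvPolynomial.C r) := by
          change _ = ψ₂ (ι₀ (MvPolynomial.C r))
          rw [← MvPolynomial.algebraMap_eq, AlgHom.commutes, AlgHom.commutes]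
        change π _ = _
        rw [h1]
        have h2 := congrArg (fun g : C →+* B₃ => g (MvPolynomial.C r)) hπ
        refine h2.trans ?_
        change algebraMap R B₃ (MvPolynomial.eval a (MvPolynomial.C r)) = _
        rw [MvPolynomial.eval_C] }
  have hX : ∀ j, (π'.comp ψ₂) (ι₀ (MvPolynomial.X j)) = algebraMap R B₃ (a j) := by
    intro j
    have h2 := congrArg (fun g : C →+* B₃ => g (MvPolynomial.X j)) hπ
    refine h2.trans ?_
    change algebraMap R B₃ (MvPolynomial.eval a (MvPolynomial.X j)) = _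
    rw [MvPolynomial.eval_X]
  have hreg₃ := hreg₂.map π'
  rw [InfAut.map_map, hx, RCell.bc_isReg] at hreg₃
  simp only [hX] at hreg₃
  have hsum : ∑ j, algebraMap R B₃ (a j) • InfAut.map (Algebra.ofId R B₃) (ξ j) =
      InfAut.map (Algebra.ofId R B₃) (∑ j, a j • ξ j) := by
    rw [map_sum]
    refine Finset.sum_congr rfl fun j _ => ?_
    rw [InfAut.map_smul]
    rfl
  rw [hsum] at hreg₃
  obtain ⟨g, c, y, hy, hc, hgy⟩ := hreg₃
  refine ⟨{
    B₀ := K.B₀
    D := K.D
    b := K.b
    F := K.F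
    hF := K.hF
    B₁ := B₃
    ψ := (π'.comp ψ₂).comp ρ
    et₀ := K.et₀
    et₁ := ?_
    g := g
    c := c
    y := y
    diag := hy
    reg := hc
    eq := hgy }, ?_⟩
  · let ψ₃ := (π'.comp ψ₂).comp ρ
    change ψ₃.toRingHom.Etale
    let _ : Algebra K.B₀ B₃ := ψ₃.toRingHom.toAlgebra
    have : IsScalarTower R K.B₀ B₃ := IsScalarTower.of_algebraMap_eq' ψ₃.comp_algebraMap.symm
    have h1 : Algebra.Etale R K.B₀ := RingHom.etale_algebraMap.mp K.et₀
    have h2 : Algebra.Etale R B₃ := RingHom.etale_algebraMap.mp hB₃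
    exact RingHom.etale_algebraMap.mpr (Algebra.Etale.of_restrictScalars (R := R) (A := K.B₀) (B := B₃))
  · obtain ⟨r, hr⟩ := hpt t q₃ hq₃
    exact ⟨r, hr⟩

include Q in
/-- affine form -/
theorem exists_maximalTorus_of_hyps (hR : LGRing.IsLGRing R) [Algebra.Smooth R A]
    [Algebra.FinitePresentation R A] (hdom : MT.GeomDom R A) (hstr : StructHyp R A) (hreg : RegHyp R A)
    (hpin : PinHyp G) (hmodel : ModelHyp.{u}) (hgeom : GeomPtHyp.{u}) :
    ∃ (T : Over (Spec (CommRingCat.of R))) (_ : GrpObj T) (t : T ⟶ G),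
      Red.IsMaximalTorus t ∧ IsClosedImmersion t.left := by
  classical
  -- local lifts
  have key : ∀ s : PrimeSpectrum R, ∃ p : (Σ ξ : InfAut R A R, Chart Q ξ),
      s ∈ Set.range (PrimeSpectrum.comap (algebraMap R p.2.B₁)) := by
    intro s
    obtain ⟨m, hm, hpm⟩ := Ideal.exists_le_maximal s.asIdeal s.isPrime.ne_top
    obtain ⟨x, ⟨B, _, _, hB1, hB2, hB3⟩, h2⟩ := exists_local Q hdom hstr hreg hpin hmodel hgeom m
    obtain ⟨ξ, hξ⟩ := InfAut.map_mk_surjective m B hB2 hB3 x
    obtain ⟨K, hK⟩ := h2 ξ hξ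
    refine ⟨⟨ξ, K⟩, ?_⟩
    have h3 : Set.range K.f = Set.range (PrimeSpectrum.comap (algebraMap R K.B₁)) := by
      rw [K.f_eq]
      rfl
    have hle : s ≤ (⟨m, hm.isPrime⟩ : PrimeSpectrum R) := hpm
    have hsp := (PrimeSpectrum.le_iff_specializes _ _).mp hle
    have := K.etale_f
    have hop : IsOpen (Set.range K.f) := K.f.isOpenMap.isOpen_range
    have h4 := hsp.mem_open hop hK
    rwa [h3] at h4
  choose p hp using key
  -- finitely many `ξ` suffice
  have hop : ∀ s, IsOpen (Set.range (PrimeSpectrum.comap (algebraMap R (p s).2.B₁))) := by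
    intro s
    have h3 : Set.range (p s).2.f = Set.range (PrimeSpectrum.comap (algebraMap R (p s).2.B₁)) := by
      rw [(p s).2.f_eq]
      rfl
    rw [← h3]
    have := (p s).2.etale_f
    exact (p s).2.f.isOpenMap.isOpen_range
  obtain ⟨F, hF⟩ := (isCompact_univ (X := PrimeSpectrum R)).elim_finite_subcover _ hop
    (fun s _ => Set.mem_iUnion.2 ⟨s, hp s⟩)
  let n := F.card
  let e : Fin n ≃ F := F.equivFin.symm
  let ξ : Fin n → InfAut R A R := fun i => (p (e i)).1
  have hξ : ∀ s : PrimeSpectrum R, ∃ i : Fin n,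
      s ∈ Set.range (PrimeSpectrum.comap (algebraMap R (p (e i)).2.B₁)) := by
    intro s
    obtain ⟨t, ht, hst⟩ := Set.mem_iUnion₂.1 (hF (Set.mem_univ s))
    obtain ⟨i, hi⟩ := e.surjective ⟨t, ht⟩
    refine ⟨i, ?_⟩
    rw [hi]
    exact hst
  choose i hi using hξ
  choose f hf1 hf2 using fun s => exists_open Q hdom hstr ξ (i s) (p (e (i s))).2 s (hi s)
  -- finitely many of the polynomials suffice
  obtain ⟨F', hF'⟩ := (isCompact_univ (X := PrimeSpectrum R)).elim_finite_subcover
    (fun s => (PrimeSpectrum.basicOpen (MvPolynomial.eval (Pi.single (i s) 1) (f s)) : Set (PrimeSpectrum R)))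
    (fun s => (PrimeSpectrum.basicOpen _).isOpen)
    (fun s _ => Set.mem_iUnion.2 ⟨s, hf1 s⟩)
  let n' := F'.card
  let e' : Fin n' ≃ F' := F'.equivFin.symm
  let εq : Fin n ⊕ Fin n' ≃ Fin (n + n') := finSumFinEquiv
  let g : MvPolynomial (Fin (n + n')) R := ∑ j : Fin n', MvPolynomial.X (εq (Sum.inr j)) *
    MvPolynomial.rename (fun a => εq (Sum.inl a)) (f (e' j))
  have hg : ∀ {E : Type u} [CommRing E] [Algebra R E] (v : Fin (n + n') → E), MvPolynomial.aeval v g =
      ∑ j : Fin n', v (εq (Sum.inr j)) * MvPolynomial.aeval (fun a => v (εq (Sum.inl a))) (f (e' j)) := by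
    intro E _ _ v
    rw [map_sum]
    refine Finset.sum_congr rfl fun j _ => ?_
    rw [map_mul, MvPolynomial.aeval_X, MvPolynomial.aeval_rename]
    rfl
  obtain ⟨v, hv⟩ := hR (n + n') g (by
    intro m hm
    have hmp : m.IsPrime := hm.isPrime
    obtain ⟨t, ht, hst⟩ := Set.mem_iUnion₂.1 (hF' (Set.mem_univ (⟨m, hmp⟩ : PrimeSpectrum R)))
    obtain ⟨j, hj⟩ := e'.surjective ⟨t, ht⟩
    let _ : Field (R ⧸ m) := Ideal.Quotient.field m
    refine ⟨fun a => Sum.elim (Pi.single (i t) (1 : R ⧸ m)) (Pi.single j (1 : R ⧸ m)) (εq.symm a), ?_⟩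
    rw [hg, Finset.sum_eq_single j]
    · simp only [Equiv.symm_apply_apply, Sum.elim_inr, Sum.elim_inl, Pi.single_eq_same, _root_.one_mul]
      rw [hj]
      have h1 : (fun a => (Pi.single (i t) (1 : R ⧸ m) : Fin n → R ⧸ m) a) =
          fun a => algebraMap R (R ⧸ m) ((Pi.single (i t) (1 : R) : Fin n → R) a) := by
        funext a
        by_cases ha : a = i t
        · subst ha; simp
        · simp [Pi.single_eq_of_ne ha]
      rw [h1]
      have h2 : MvPolynomial.aeval (fun a => algebraMap R (R ⧸ m) ((Pi.single (i t) (1 : R) : Fin n → R) a)) (f t) =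
          algebraMap R (R ⧸ m) (MvPolynomial.eval (Pi.single (i t) (1 : R)) (f t)) :=
        (MvPolynomial.aeval_algebraMap_apply (R ⧸ m) (Pi.single (i t) (1 : R)) (f t)).trans
        (congrArg (algebraMap R (R ⧸ m)) (aeval_eq_eval' _ _))
      rw [h2, isUnit_iff_ne_zero]
      intro h3
      exact hst (Ideal.Quotient.eq_zero_iff_mem.1 h3)
    · intro j' _ hj'
      simp only [Equiv.symm_apply_apply, Sum.elim_inr]
      rw [Pi.single_eq_of_ne hj', zero_mul]
    · intro h
      exact absurd (Finset.mem_univ j) h)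
  rw [hg] at hv
  let a : Fin n → R := fun b => v (εq (Sum.inl b))
  have hch : ∀ s : PrimeSpectrum R, ∃ K : Chart Q (∑ j, a j • ξ j),
      s ∈ Set.range (PrimeSpectrum.comap (algebraMap R K.B₁)) := by
    intro s
    have h1 : ∃ j : Fin n', MvPolynomial.eval a (f (e' j)) ∉ s.asIdeal := by
      by_contra hcon
      push Not at hcon
      refine s.isPrime.ne_top (s.asIdeal.eq_top_of_isUnit_mem ?_ hv)
      refine Ideal.sum_mem _ fun j _ => Ideal.mul_mem_left _ _ ?_
      have h5 := hcon j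
      rwa [← aeval_eq_eval'] at h5
    obtain ⟨j, hj⟩ := h1
    exact hf2 (e' j) a s hj
  choose K hK using hch
  refine exists_maximalTorus_of_charts Q _ hdom K fun s => ⟨s, ?_⟩
  rw [(K s).f_eq]
  exact hK s

end

/-- **Maximal tori over LG-rings.** -/
theorem exists_maximalTorus {R : Type u} [CommRing R] (hR : LGRing.IsLGRing R)
    {G : Over (Spec (CommRingCat.of R))} [GrpObj G] (hG : Red.IsReductive G) :
    ∃ (T : Over (Spec (CommRingCat.of R))) (_ : GrpObj T) (t : T ⟶ G),
      Red.IsMaximalTorus t ∧ IsClosedImmersion t.left := by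
  obtain ⟨A, _, _, ⟨e⟩⟩ := AdCentre.exists_specIso G hG.1
  let _ : PtGrp R A := ptGrpOf (A := A) e
  have hp : IsPullback e.inv.left (Spec.map (CommRingCat.ofHom (algebraMap R A))) G.hom (𝟙 _) := by
    have : IsIso e.inv.left := inferInstanceAs (IsIso ((Over.forget _).map e.inv))
    exact IsPullback.of_horiz_isIso_mono ⟨by rw [Category.comp_id]; exact Over.w e.inv⟩
  have := hG.2.1
  have h1 : Algebra.Smooth R A := ChartFib.smooth_of_isPullback hp
  have h2 : Algebra.FinitePresentation R A := ChartFib.finitePresentation_of_isPullback hp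
  have hdom : MT.GeomDom R A := fun K _ _ => ChartFib.isDomain hG hp K
  exact exists_maximalTorus_of_hyps (gptsOf (A := A) e) hR hdom (structHyp hdom) (regHyp hdom)
    (fun s => exists_pinning_affine G s (SplitFin885.splitNear G hG s)) modelHyp
    (fun h m _ q hq => EtRes904.exists_geomPoint h m q hq)

end K216.LG
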