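import Groth.Agent.Red.K216.IsogTor
import Groth.Agent.Red.K216.IsogVal
import Groth.Agent.Red.K216.LG

/-!
# Points of the kernel of a quasi-finite homomorphism extend over valuation rings
-/

set_option autoImplicit false
universe u

open CategoryTheory MonoidalCategory CartesianMonoidalCategory MonObj GrpObj AlgebraicGeometry Limits
open TensorProduct
open Groth.Agent.Sga3B.Cell

namespace K216.IsogMain

open Groth.Agent Groth.Agent.Sga3B Groth.Agent.Sga3B.BcPts Groth.Agent.Sga3B.Parab Groth.Agent.Sga3B.ResAlg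
open Groth.Agent.Books.AffBridge Groth.Agent.Sga3B.MT K216.TorPts IsLocalRing

lemma mem_of_pow_eq_one {K : Type u} [Field K] (W : ValuationSubring K) {n : ℕ} (hn : 0 < n) {x : K}
    (hx : x ^ n = 1) : x ∈ W := by
  rcases W.mem_or_inv_mem x with h | h
  · exact h
  · have hx0 : x ≠ 0 := by
      rintro rfl
      rw [zero_pow hn.ne'] at hx
      exact zero_ne_one hx
    have h1 : x = (x⁻¹) ^ (n - 1) := by
      rw [inv_pow]
      refine eq_inv_of_mul_eq_one_left ?_
      rw [← pow_succ', Nat.sub_add_cancel hn, hx]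
    rw [h1]
    exact pow_mem h _

/-- geometric points of the kernel have finite order -/
lemma exists_pow_eq_one {S : Scheme.{u}} {G Q : Over S} [GrpObj G] [GrpObj Q] {Ω : Type u} [Field Ω] [IsAlgClosed Ω]
    [LocallyOfFiniteType G.hom] (f : G ⟶ Q) [IsMonHom f] [LocallyQuasiFinite f.left] [QuasiCompact f.left]
    (p : Spec (CommRingCat.of Ω) ⟶ S) (z : Over.mk p ⟶ G) (hz : z ≫ f = 1) : ∃ n : ℕ, 0 < n ∧ z ^ n = 1 := by
  have hqf : LocallyQuasiFinite ((Over.pullback p).map f).left :=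
    MorphismProperty.of_isPullback (Parab.EtHom.isPullback_map p f) inferInstance
  have hqc : QuasiCompact ((Over.pullback p).map f).left :=
    MorphismProperty.of_isPullback (Parab.EtHom.isPullback_map p f) inferInstance
  let ζ : 𝟙_ (Over (Spec (CommRingCat.of Ω))) ⟶ Red.bc p G := bcPt (𝟙 (Over.mk p)) z
  have hζ : ζ ≫ (Over.pullback p).map f = 1 := by
    change bcEquiv p _ G _ ≫ _ = _
    rw [← bcEquiv_comp, Category.assoc, hz, MonObj.comp_one, bcEquiv_one]
  have hft : LocallyOfFiniteType (Red.bc p G).hom := by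
    change LocallyOfFiniteType (pullback.snd G.hom p)
    infer_instance
  obtain ⟨n, hn, h⟩ := IsogPts.exists_pow_eq_one ((Over.pullback p).map f) ζ hζ
  refine ⟨n, hn, ?_⟩
  apply IsogTor.bcPt_injective (𝟙 (Over.mk p))
  have h1 : ∀ k : ℕ, bcPt (𝟙 (Over.mk p)) (z ^ k) = (bcPt (𝟙 (Over.mk p)) z) ^ k := by
    intro k
    induction k with
    | zero => rw [pow_zero, pow_zero, bcPt_one]
    | succ k ih => rw [pow_succ, pow_succ, bcPt_mul, ih]
  rw [h1, bcPt_one]
  exact h

theorem exists_point {V F : Type u} [CommRing V] [IsDomain V] [ValuationRing V] [Field F] [Algebra V F]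
    [IsFractionRing V F] {G' G : Over (Spec (CommRingCat.of V))} [GrpObj G'] [GrpObj G] (hG' : Red.IsReductive G')
    (f : G' ⟶ G) [IsMonHom f] [LocallyQuasiFinite f.left] [QuasiCompact f.left] (z : SpecOver V F ⟶ G')
    (hz : z ≫ f = 1) : ∃ z₀ : SpecOver V V ⟶ G', specMap V (Algebra.ofId V F) ≫ z₀ = z := by
  obtain ⟨A, _, _, ⟨e⟩⟩ := AdCentre.exists_specIso G' hG'.1
  let _ : PtGrp V A := ptGrpOf (A := A) e
  let Q : GPts G' A := gptsOf (A := A) e
  obtain ⟨B₀, _, _, het, ⟨q, hq⟩, ⟨D⟩⟩ := exists_pinning_affine G' (closedPoint V)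
    (SplitFin885.splitNear G' hG' _)
  have hq' : q.asIdeal.comap (algebraMap V B₀) = maximalIdeal V := congrArg PrimeSpectrum.asIdeal hq
  obtain ⟨model⟩ := modelHyp D B₀ (𝟙 _)
  obtain ⟨C, hC⟩ := exists_rcell Q D.toSplitRed D.base model
  have hBet : Algebra.Etale V B₀ := RingHom.etale_algebraMap.mp het
  obtain ⟨W, φ, hφ, hW⟩ := IsogVal.exists_valuationSubring (F := F) q hq'
  let Ω := AlgebraicClosure F
  let _ : Algebra V W := (φ.comp (algebraMap V B₀)).toAlgebra
  let φ' : B₀ →ₐ[V] W := { φ with commutes' := fun v => rfl }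
  have hinc : ∀ v : V, W.subtype (algebraMap V W v) = algebraMap V Ω v := by
    intro v
    rw [IsScalarTower.algebraMap_apply V F Ω v]
    exact hφ v
  let inc : W →ₐ[V] Ω := { W.subtype with commutes' := hinc }
  let j : F →ₐ[V] Ω := IsScalarTower.toAlgHom V F Ω
  have hsm : Smooth G'.hom := hG'.2.1
  obtain ⟨gF, hgF⟩ := (Q.pt F).surjective z
  let g : Pt V A Ω := Pt.map j gF
  let zΩ : SpecOver V Ω ⟶ G' := specMap V j ≫ z
  have hzΩ : Q.pt Ω g = zΩ := by
    rw [Q.nat, hgF]
  have hzΩ1 : zΩ ≫ f = 1 := by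
    rw [Category.assoc, hz, MonObj.comp_one]
  have ha : Spec.map (CommRingCat.ofHom (inc.comp φ').toRingHom) ≫ f₀ V B₀ = f₀ V Ω := spec_comp _
  let a : SpecOver V Ω ⟶ Over.mk (f₀ V B₀) := Over.homMk (Spec.map (CommRingCat.ofHom (inc.comp φ').toRingHom)) ha
  have hmem : MemAt D.i a zΩ := by
    refine IsogTor.memAt_of_central hG' D.i D.maximalTorus (f₀ V Ω) a zΩ ?_
    exact IsogTor.central hG' f (f₀ V Ω) zΩ hzΩ1
  rw [← hzΩ] at hmem
  obtain ⟨t, ht⟩ := (hC (inc.comp φ') g a rfl).2 hmem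
  obtain ⟨n, hn, hzn⟩ := exists_pow_eq_one f (f₀ V Ω) zΩ hzΩ1
  have hgn : g ^ n = 1 := by
    apply (Q.pt Ω).injective
    rw [map_pow, map_one, hzΩ]
    exact hzn
  have htn : t ^ n = 1 := by
    apply C.i_inj (inc.comp φ')
    refine (map_pow (C.i (inc.comp φ')) t n).trans ?_
    rw [← ht, hgn, map_one]
  have htm : ∀ m : Multiplicative D.M, ((t m : Ωˣ) : Ω) ∈ W := by
    intro m
    refine mem_of_pow_eq_one W hn ?_
    have h1 := congrArg (fun s : TPt D.M Ω => ((s m : Ωˣ) : Ω)) htn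
    simpa using h1
  let t₀ : Multiplicative D.M →* W :=
    { toFun := fun m => ⟨(t m : Ω), htm m⟩
      map_one' := by
        apply Subtype.ext
        simp
      map_mul' := fun m m' => by
        apply Subtype.ext
        simp }
  let t' : TPt D.M W := MonoidHom.toHomUnits t₀
  have htt' : TPt.map inc t' = t := by
    apply MonoidHom.ext
    intro m
    apply Units.ext
    rfl
  let g' : Pt V A W := C.i φ' t'
  have hg' : Pt.map inc g' = g := by
    rw [C.i_nat, htt', ← ht]
  have hmemF : ∀ x : A, gF.hom x ∈ (⊥ : Subalgebra V F) := by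
    intro x
    have h1 : algebraMap F Ω (gF.hom x) = inc (g'.hom x) := by
      have h2 := congrArg (fun k : Pt V A Ω => k.hom x) hg'
      exact h2.symm
    obtain ⟨v, hv⟩ := hW (gF.hom x) (by
      have h3 : algebraMap F Ω (gF.hom x) = ((g'.hom x : W) : Ω) := h1
      rw [h3]
      exact (g'.hom x).2)
    rw [Algebra.mem_bot]
    exact ⟨v, hv⟩
  let β := Algebra.botEquivOfInjective (IsFractionRing.injective V F)
  let g₀ : Pt V A V := Pt.mk ((β : (⊥ : Subalgebra V F) →ₐ[V] V).comp (gF.hom.codRestrict ⊥ hmemF))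
  refine ⟨Q.pt V g₀, ?_⟩
  rw [← Q.nat, ← hgF]
  congr 1
  apply Pt.ext
  intro x
  change algebraMap V F (β ⟨gF.hom x, hmemF x⟩) = gF.hom x
  have h5 : β.symm (β ⟨gF.hom x, hmemF x⟩) = ⟨gF.hom x, hmemF x⟩ := β.symm_apply_apply _
  have h6 := congrArg Subtype.val h5
  exact h6

end K216.IsogMain
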