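import Mathlib.AlgebraicGeometry.AlgClosed.Basic
import Mathlib.AlgebraicGeometry.Morphisms.QuasiFinite
import Groth.Prelude.Def_Red
import Groth.Agent.Flat2B.SmoothGeom

/-!
# Points of the kernel of a quasi-finite homomorphism over an algebraically closed field

`f : H ⟶ Q` a finite homomorphism of groups over `Ω`, `H` smooth and connected: a point `z` of `H` with `f z = 1` is
central and of finite order.
-/

set_option autoImplicit false
universe u

open CategoryTheory MonoidalCategory CartesianMonoidalCategory MonObj GrpObj AlgebraicGeometry Limits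

namespace K216.IsogPts

open Groth.Agent

variable {Ω : Type u} [Field Ω] [IsAlgClosed Ω] {H Q : Over (Spec (CommRingCat.of Ω))} [GrpObj H] [GrpObj Q]

omit [GrpObj H] [GrpObj Q] in
/-- Endomorphisms over the identity of `Q` of a connected group are constant. -/
theorem const_of_comp_eq {X : Over (Spec (CommRingCat.of Ω))} [IsReduced X.left] [ConnectedSpace X.left]
    [LocallyOfFiniteType X.hom] [IsSeparated H.hom] [LocallyOfFiniteType H.hom] (f : H ⟶ Q) [LocallyQuasiFinite f.left]
    (κ : X ⟶ H) (q : 𝟙_ _ ⟶ Q) (hκ : κ ≫ f = toUnit X ≫ q) (x₀ : 𝟙_ _ ⟶ X) : κ = toUnit X ≫ x₀ ≫ κ := by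
  have hpt : ∀ p p' : (𝟙_ (Over (Spec (CommRingCat.of Ω)))).left, p = p' := by
    intro p p'
    exact Subsingleton.elim (α := PrimeSpectrum Ω) _ _
  let p₀ : (𝟙_ (Over (Spec (CommRingCat.of Ω)))).left := (⊥ : PrimeSpectrum Ω)
  have hsub : Set.range κ.left ⊆ f.left ⁻¹' {q.left p₀} := by
    rintro _ ⟨x, rfl⟩
    change f.left (κ.left x) = _
    have h1 := congrArg (fun t => t.left x) hκ
    simp only [Over.comp_left, Scheme.Hom.comp_apply] at h1
    rw [h1]
    exact congrArg q.left (hpt _ _)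
  have hd := Scheme.Hom.isDiscrete_preimage_singleton f.left (q.left p₀)
  have hd' : DiscreteTopology (f.left ⁻¹' {q.left p₀} : Set H.left) := hd.to_subtype
  let κ' : X.left → (f.left ⁻¹' {q.left p₀} : Set H.left) := fun x => ⟨κ.left x, hsub ⟨x, rfl⟩⟩
  have hκ' : Continuous κ' := κ.left.continuous.subtype_mk _
  have hs : ∀ x y, κ.left x = κ.left y := fun x y =>
    congrArg Subtype.val (PreconnectedSpace.constant inferInstance hκ' : κ' x = κ' y)
  have hft : LocallyOfFiniteType (κ.left ≫ H.hom) := by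
    rw [Over.w κ]
    infer_instance
  ext1
  refine ext_of_apply_eq (K := Ω) H.hom Set.univ isClosed_univ.isLocallyClosed dense_univ (fun x _ _ => ?_) ?_
  · rw [Over.comp_left, Over.comp_left, Scheme.Hom.comp_apply, Scheme.Hom.comp_apply]
    exact hs _ _
  · rw [Over.w, Over.w]

/-- a point of the kernel is central -/
theorem central [Smooth H.hom] [ConnectedSpace H.left] [IsSeparated H.hom] (f : H ⟶ Q) [IsMonHom f]
    [LocallyQuasiFinite f.left] (z : 𝟙_ _ ⟶ H) (hz : z ≫ f = 1) (X : Over (Spec (CommRingCat.of Ω))) (h : X ⟶ H) :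
    h * (toUnit X ≫ z) = (toUnit X ≫ z) * h := by
  have hgr : GeometricallyReduced H.hom := Flat2B.SmoothGeom.geometricallyReduced_of_smooth _
  have hred : IsReduced H.left := by
    exact GeometricallyReduced.isReduced_of_flat_of_isLocallyNoetherian H.hom
  let κ : H ⟶ H := 𝟙 H * (toUnit H ≫ z) * (𝟙 H)⁻¹
  have hκ : ∀ {Y : Over (Spec (CommRingCat.of Ω))} (y : Y ⟶ H), y ≫ κ = y * (toUnit Y ≫ z) * y⁻¹ := by
    intro Y y
    have h2 : y ≫ toUnit H = toUnit Y := toUnit_unique _ _
    simp only [κ, MonObj.comp_mul, GrpObj.comp_inv, Category.comp_id, ← Category.assoc, h2]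
  have h1 : κ ≫ f = toUnit H ≫ (1 : 𝟙_ _ ⟶ Q) := by
    rw [← Category.id_comp κ, hκ, MonObj.mul_comp, MonObj.mul_comp, Category.assoc, hz, MonObj.comp_one,
      _root_.mul_one, GrpObj.inv_comp, mul_inv_cancel]
  have h2 := const_of_comp_eq f κ 1 h1 (1 : 𝟙_ _ ⟶ H)
  have h3 : (1 : 𝟙_ _ ⟶ H) ≫ κ = z := by
    rw [hκ, _root_.one_mul, inv_one, _root_.mul_one]
    have : toUnit (𝟙_ (Over (Spec (CommRingCat.of Ω)))) = 𝟙 _ := toUnit_unique _ _
    rw [this, Category.id_comp]
  rw [h3] at h2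
  have h4 := hκ h
  have h5 : h ≫ toUnit H = toUnit X := toUnit_unique _ _
  rw [h2, ← Category.assoc, h5] at h4
  rw [eq_mul_inv_iff_mul_eq] at h4
  exact h4.symm

/-- a point of the kernel is of finite order -/
theorem exists_pow_eq_one [LocallyOfFiniteType H.hom] (f : H ⟶ Q) [IsMonHom f]
    [LocallyQuasiFinite f.left] [QuasiCompact f.left] (z : 𝟙_ _ ⟶ H) (hz : z ≫ f = 1) :
    ∃ n : ℕ, 0 < n ∧ z ^ n = 1 := by
  let p₀ : (𝟙_ (Over (Spec (CommRingCat.of Ω)))).left := (⊥ : PrimeSpectrum Ω)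
  let N : Set (𝟙_ (Over (Spec (CommRingCat.of Ω))) ⟶ H) := {z | z ≫ f = 1}
  have hN : N.Finite := by
    refine Set.Finite.of_injOn (f := fun z : 𝟙_ (Over (Spec (CommRingCat.of Ω))) ⟶ H => z.left p₀)
      (t := f.left ⁻¹' {(1 : 𝟙_ (Over (Spec (CommRingCat.of Ω))) ⟶ Q).left p₀}) ?_ ?_
      (Scheme.Hom.finite_preimage_singleton f.left _)
    · intro z hz
      have h1 := congrArg (fun t => t.left p₀) (show z ≫ f = 1 from hz)
      rw [Over.comp_left, Scheme.Hom.comp_apply] at h1
      exact h1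
    · intro z hz z' hz' h
      ext1
      have hp : IsLocalRing.closedPoint Ω = (⊥ : PrimeSpectrum Ω) := Subsingleton.elim _ _
      refine ext_of_apply_closedPoint_eq (K := Ω) H.hom (Over.w z) (Over.w z') ?_
      rw [hp]
      exact h
  have hfin : {z ^ n | n : ℕ}.Finite := by
    refine hN.subset ?_
    rintro _ ⟨n, rfl⟩
    change (z ^ n) ≫ f = 1
    induction n with
    | zero => rw [pow_zero, MonObj.one_comp]
    | succ n ih => rw [pow_succ, MonObj.mul_comp, ih, hz, _root_.mul_one]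
  have h1 : IsOfFinOrder z := by
    rw [← finite_powers]
    exact hfin
  exact isOfFinOrder_iff_pow_eq_one.1 h1

end K216.IsogPts
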