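import Groth.Agent.Sga3B.MT.Final824
import Groth.Agent.Sga3B.MaxTorBc505
import Groth.Agent.Sga3B.RedBcAny636
import Groth.Agent.Sga3B.RG.BrHc2

/-!
# Points of maximal tori of base changes

`MemAt t a g`: the point `(a, g)` of `bc f G` factors through `t : T ⟶ bc f G`.

* `exists_bcSub`: base change of a maximal torus `t : T ⟶ bc f G` along `q`, with prescribed composite;
* `exists_conj`: two maximal tori over an algebraically closed field are conjugate;
* `exists_torAt`: a maximal torus over a field `κ` becomes over `K ⊇ κ` the conjugate of the torus of given split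
  cell data;
* `exists_univ`: the universal point of an affine subscheme.
-/

set_option autoImplicit false
universe u

open CategoryTheory MonoidalCategory CartesianMonoidalCategory MonObj GrpObj AlgebraicGeometry Limits
open TensorProduct
open Groth.Agent.Sga3B.Cell

namespace K216.TorPts

open Groth.Agent Groth.Agent.Sga3B Groth.Agent.Sga3B.BcPts Groth.Agent.Sga3B.Parab Groth.Agent.Sga3B.ResAlg
open Groth.Agent.Books.AffBridge Groth.Agent.Sga3B.MT

section gen

variable {S S' S'' : Scheme.{u}} {G : Over S} [GrpObj G]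

omit [GrpObj G] in
/-- points of the base change of a subscheme -/
lemma memAt_pullback_map {f : S' ⟶ S} {P : Over S} (p : P ⟶ G) {X : Over S} (a : X ⟶ Over.mk f)
    (g : X ⟶ G) : MemAt ((Over.pullback f).map p) a g ↔ ∃ x : X ⟶ P, x ≫ p = g := by
  have e1 : ((Over.pullback f).map p).left ≫ pullback.fst G.hom f = pullback.fst P.hom f ≫ p.left :=
    (EtHom.isPullback_map f p).w.symm
  rw [memAt_iff']
  constructor
  · rintro ⟨x, hx1, hx2⟩
    refine ⟨Over.homMk (x ≫ pullback.fst P.hom f) ?_, ?_⟩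
    · rw [Category.assoc, pullback.condition, ← Category.assoc]
      have h1 : x ≫ pullback.snd P.hom f = a.left := hx1
      rw [h1]
      exact Over.w a
    · ext1
      rw [← hx2, e1]
      exact Category.assoc _ _ _
  · rintro ⟨x, rfl⟩
    refine ⟨pullback.lift x.left a.left ((Over.w x).trans (Over.w a).symm), pullback.lift_snd _ _ _, ?_⟩
    rw [e1, ← Category.assoc]
    exact congrArg (· ≫ p.left) (pullback.lift_fst _ _ _)

omit [GrpObj G] in
lemma memAt_iso {f : S' ⟶ S} {T T' : Over S'} (t : T ⟶ Red.bc f G) (e : T' ≅ T) {X : Over S}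
    (a : X ⟶ Over.mk f) (g : X ⟶ G) : MemAt (e.hom ≫ t) a g ↔ MemAt t a g := by
  rw [memAt_iff, memAt_iff]
  constructor
  · rintro ⟨x, hx⟩
    exact ⟨x ≫ e.hom, by rw [Category.assoc]; exact hx⟩
  · rintro ⟨x, hx⟩
    exact ⟨x ≫ e.inv, by rw [Category.assoc, Iso.inv_hom_id_assoc]; exact hx⟩

theorem isMaximalTorus_bcSub' (hG : Red.IsReductive G) {f : S' ⟶ S} {T : Over S'} [GrpObj T] (q : S'' ⟶ S')
    (t : T ⟶ Red.bc f G) (h : Red.IsMaximalTorus t) : Red.IsMaximalTorus (bcSub q t) := by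
  refine AlgBc.isMaximalTorus_of_arrow (Iso.refl _) (BcIso.bcCompIso q f G).symm ?_
    (MaxTorBc505.isMaximalTorus_bc q (RedBcAny636.isReductive_bc f hG) h)
  have e : (RedIso.und (BcIso.bcCompIso q f G).symm).hom = (Over.pullbackComp q f).inv.app G := by
    have h1 := BcNat.und_bcCompIso q f G
    have h2 : (RedIso.und (BcIso.bcCompIso q f G).symm).hom ≫
        (RedIso.und (BcIso.bcCompIso q f G)).hom = 𝟙 _ := by
      rw [BcNat.und_symm, Iso.inv_hom_id]
    rw [h1] at h2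
    have h3 : (Over.pullbackComp q f).inv.app G ≫ (Over.pullbackComp q f).hom.app G = 𝟙 _ := by
      simp
    exact (cancel_mono ((Over.pullbackComp q f).hom.app G)).1 (h2.trans h3.symm)
  rw [e]
  exact (Category.id_comp _).symm

/-- Base change of a maximal torus. -/
theorem exists_bcSub (hG : Red.IsReductive G) {f : S' ⟶ S} {T : Over S'} [GrpObj T]
    (t : T ⟶ Red.bc f G) (ht : Red.IsMaximalTorus t) (hcl : IsClosedImmersion t.left) (q : S'' ⟶ S')
    (F : S'' ⟶ S) (h : q ≫ f = F) :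
    ∃ (T' : Over S'') (_ : GrpObj T') (t' : T' ⟶ Red.bc F G), Red.IsMaximalTorus t' ∧
      IsClosedImmersion t'.left ∧ ∀ (X : Over S) (a : X ⟶ Over.mk F) (g : X ⟶ G),
        MemAt t' a g ↔ MemAt t (a ≫ Over.homMk q h) g := by
  subst h
  exact ⟨Red.bc q T, inferInstance, bcSub q t, isMaximalTorus_bcSub' hG q t ht,
    isClosedImmersion_bcSub q t, fun X a g => memAt_bcSub q t a g⟩

/-- Conjugacy of maximal tori over an algebraically closed field. -/
theorem exists_conj (hG : Red.IsReductive G) {K : Type u} [Field K] [IsAlgClosed K]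
    (F : Spec (CommRingCat.of K) ⟶ S) {T₁ T₂ : Over (Spec (CommRingCat.of K))} [GrpObj T₁] [GrpObj T₂]
    (t₁ : T₁ ⟶ Red.bc F G) (t₂ : T₂ ⟶ Red.bc F G) (h₁ : Red.IsMaximalTorus t₁)
    (h₂ : Red.IsMaximalTorus t₂) :
    ∃ γ' : Over.mk F ⟶ G, ∀ (X : Over S) (a : X ⟶ Over.mk F) (g : X ⟶ G),
      MemAt t₁ a g ↔ MemAt t₂ a ((a ≫ γ')⁻¹ * g * (a ≫ γ')) := by
  have hGK := RedBcAny636.isReductive_bc F hG
  have h3 : IsAffineHom (Red.bc F G).hom := hGK.1
  have h4 : IsAffine (Red.bc F G).left := isAffine_of_isAffineHom (Red.bc F G).hom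
  have h5 : Smooth (Red.bc F G).hom := hGK.2.1
  have h6 : ConnectedSpace (Red.bc F G).left := MaxTorBc505.connectedSpace_bc hG F
  obtain ⟨γ₀, e, -, he⟩ := RG.BrHc2.exists_conj_iso (Red.bc F G) t₂ t₁ h₂ h₁
  let γ₁ : Over.mk (Over.Hom.left (𝟙 (Over.mk F))) ⟶ Red.bc F G := γ₀
  let γ' : Over.mk F ⟶ G :=
    (overIso (𝟙 (Over.mk F))).inv ≫ (bcEquiv F (Over.mk (Over.Hom.left (𝟙 (Over.mk F)))) G).symm γ₁
  have hγ : bcPt (𝟙 _) γ' = γ₁ := by
    rw [bcPt, Iso.hom_inv_id_assoc, Equiv.apply_symm_apply]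
  have hcj : t₂ ≫ cj γ' = e.hom ≫ t₁ := by
    rw [he, comp_cj, hγ, RG.BrHc.conjHom]
    have h7 : toE F T₂ ≫ γ₁ = toUnit T₂ ≫ γ₀ := by
      ext1
      have h8 : (toUnit T₂).left = T₂.hom := by
        have := Over.w (toUnit T₂)
        exact (Category.comp_id _).symm.trans this
      rw [Over.comp_left, Over.comp_left, h8]
      rfl
    rw [h7]
  refine ⟨γ', fun X a g => ?_⟩
  rw [← memAt_comp_cj, hcj, memAt_iso]

end gen

section aff

variable {R : Type u} [CommRing R] {G : Over (Spec (CommRingCat.of R))} [GrpObj G]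
  {A : Type u} [CommRing A] [Algebra R A] [PtGrp R A] (Q : GPts G A)
  {κ K B₀ : Type u} [CommRing κ] [Algebra R κ] [Field K] [IsAlgClosed K] [Algebra R K] [CommRing B₀]
  [Algebra R B₀]

lemma spec_comp {B C : Type u} [CommRing B] [Algebra R B] [CommRing C] [Algebra R C] (φ : B →ₐ[R] C) :
    Spec.map (CommRingCat.ofHom φ.toRingHom) ≫ f₀ R B = f₀ R C := by
  rw [f₀, f₀, ← Spec.map_comp, ← CommRingCat.ofHom_comp]
  congr 2
  exact φ.comp_algebraMap

theorem exists_torAt (hG : Red.IsReductive G) (j : κ →ₐ[R] K) (κ' : B₀ →ₐ[R] K)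
    (D : Red.SplitRed (Red.bc (f₀ R B₀) G)) (b : D.P.Base) (F : RCell D.P b R A B₀)
    (hF : ∀ {B : Type u} [CommRing B] [Algebra R B] (φ : B₀ →ₐ[R] B) (g : Pt R A B)
        (a : SpecOver R B ⟶ Over.mk (f₀ R B₀))
        (_ : a.left = Spec.map (CommRingCat.ofHom φ.toRingHom)),
        (∃ t : TPt D.M B, g = F.i φ t) ↔ MemAt D.i a (Q.pt B g))
    {T₀ : Over (Spec (CommRingCat.of κ))} [GrpObj T₀] (i₀ : T₀ ⟶ Red.bc (f₀ R κ) G)
    (h₀ : Red.IsMaximalTorus i₀) (hcl : IsClosedImmersion i₀.left) :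
    ∃ g₁ : Pt R A K, ∀ {B : Type u} [CommRing B] [Algebra R B] (ψ : K →ₐ[R] B) (h : Pt R A B)
      (a : SpecOver R B ⟶ Over.mk (f₀ R κ))
      (_ : a.left = Spec.map (CommRingCat.ofHom (ψ.comp j).toRingHom)),
      MemAt i₀ a (Q.pt B h) ↔ F.TorAt (ψ.comp κ') (Pt.map ψ g₁) h := by
  obtain ⟨T₁, _, t₁, ht₁, -, hm₁⟩ := exists_bcSub hG i₀ h₀ hcl (Spec.map (CommRingCat.ofHom j.toRingHom))
    (f₀ R K) (spec_comp j)
  obtain ⟨T₂, _, t₂, ht₂, -, hm₂⟩ := exists_bcSub hG D.i D.maximalTorus (AdCentre.isClosedImmersion_torus D)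
    (Spec.map (CommRingCat.ofHom κ'.toRingHom)) (f₀ R K) (spec_comp κ')
  obtain ⟨γ', hγ⟩ := exists_conj hG (f₀ R K) t₁ t₂ ht₁ ht₂
  let γ'' : SpecOver R K ⟶ G := γ'
  refine ⟨(Q.pt K).symm γ'', fun {B} _ _ ψ h a ha => ?_⟩
  let aK : SpecOver R B ⟶ Over.mk (f₀ R K) := specMap R ψ
  have ha1 : a = aK ≫ (Over.homMk (Spec.map (CommRingCat.ofHom j.toRingHom)) (spec_comp j) :
      Over.mk (f₀ R K) ⟶ Over.mk (f₀ R κ)) := by
    ext1
    rw [ha, Over.comp_left]
    change _ = Spec.map (CommRingCat.ofHom ψ.toRingHom) ≫ Spec.map (CommRingCat.ofHom j.toRingHom)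
    rw [← Spec.map_comp, ← CommRingCat.ofHom_comp]
    rfl
  have ha2 : (aK ≫ (Over.homMk (Spec.map (CommRingCat.ofHom κ'.toRingHom)) (spec_comp κ') :
      Over.mk (f₀ R K) ⟶ Over.mk (f₀ R B₀))).left =
      Spec.map (CommRingCat.ofHom (ψ.comp κ').toRingHom) := by
    rw [Over.comp_left]
    change Spec.map (CommRingCat.ofHom ψ.toRingHom) ≫ Spec.map (CommRingCat.ofHom κ'.toRingHom) = _
    rw [← Spec.map_comp, ← CommRingCat.ofHom_comp]
    rfl
  have hγ' : aK ≫ γ' = Q.pt B (Pt.map ψ ((Q.pt K).symm γ'')) := by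
    rw [Q.nat, MulEquiv.apply_symm_apply]
    rfl
  rw [ha1, ← hm₁, hγ, hγ', ← map_inv, ← map_mul, ← map_mul, hm₂, ← hF (ψ.comp κ') _ _ ha2]
  refine exists_congr fun t => ⟨fun h1 => ?_, fun h1 => ?_⟩
  · rw [← h1]
    group
  · rw [h1]
    group

/-- The universal point of an affine subscheme. -/
theorem exists_univ {T₀ : Over (Spec (CommRingCat.of κ))} (i₀ : T₀ ⟶ Red.bc (f₀ R κ) G)
    (haff : IsAffineHom T₀.hom) :
    ∃ (C₀ : Type u) (_ : CommRing C₀) (_ : Algebra R C₀) (φ₀ : κ →ₐ[R] C₀) (τ : Pt R A C₀),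
      ∀ {B : Type u} [CommRing B] [Algebra R B] (φ : κ →ₐ[R] B) (h : Pt R A B)
        (a : SpecOver R B ⟶ Over.mk (f₀ R κ)) (_ : a.left = Spec.map (CommRingCat.ofHom φ.toRingHom)),
        MemAt i₀ a (Q.pt B h) ↔ ∃ θ : C₀ →ₐ[R] B, θ.comp φ₀ = φ ∧ Pt.map θ τ = h := by
  obtain ⟨C₀, _, _, ⟨e⟩⟩ := AdCentre.exists_specIso T₀ haff
  let _ : Algebra R C₀ := ((algebraMap κ C₀).comp (algebraMap R κ)).toAlgebra
  let φ₀ : κ →ₐ[R] C₀ := { algebraMap κ C₀ with commutes' := fun r => rfl }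
  have he : e.inv.left ≫ T₀.hom = Spec.map (CommRingCat.ofHom φ₀.toRingHom) := Over.w e.inv
  have he' : e.hom.left ≫ Spec.map (CommRingCat.ofHom φ₀.toRingHom) = T₀.hom := Over.w e.hom
  have hi : e.hom.left ≫ e.inv.left = 𝟙 _ := congrArg (fun z => z.left) e.hom_inv_id
  have hi' : e.inv.left ≫ e.hom.left = 𝟙 _ := congrArg (fun z => z.left) e.inv_hom_id
  have hw : i₀.left ≫ pullback.fst G.hom (f₀ R κ) ≫ G.hom = T₀.hom ≫ f₀ R κ := by
    rw [pullback.condition, ← Category.assoc]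
    exact congrArg (· ≫ f₀ R κ) (Over.w i₀)
  let τ₀ : SpecOver R C₀ ⟶ G := Over.homMk (e.inv.left ≫ i₀.left ≫ pullback.fst G.hom (f₀ R κ)) (by
    refine (Category.assoc _ _ _).trans ?_
    refine (congrArg (e.inv.left ≫ ·) ((Category.assoc _ _ _).trans hw)).trans ?_
    refine (Category.assoc _ _ _).symm.trans ?_
    exact (congrArg (· ≫ f₀ R κ) he).trans (spec_comp φ₀))
  refine ⟨C₀, inferInstance, inferInstance, φ₀, (Q.pt C₀).symm τ₀, fun {B} _ _ φ h a ha => ?_⟩
  rw [memAt_iff']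
  constructor
  · rintro ⟨x, hx1, hx2⟩
    let y : Spec (CommRingCat.of B) ⟶ Spec (CommRingCat.of C₀) := x ≫ e.hom.left
    let θ' : C₀ →+* B := (Spec.preimage y).hom
    have hy : y = Spec.map (CommRingCat.ofHom θ') := (Spec.map_preimage y).symm
    have hθφ : θ'.comp φ₀.toRingHom = φ.toRingHom := by
      have h1 : Spec.map (CommRingCat.ofHom (θ'.comp φ₀.toRingHom)) =
          Spec.map (CommRingCat.ofHom φ.toRingHom) := by
        rw [CommRingCat.ofHom_comp, Spec.map_comp, ← hy, ← ha, ← hx1]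
        change (x ≫ e.hom.left) ≫ _ = _
        rw [Category.assoc, he']
      exact congrArg (fun f => f.hom) (Spec.map_injective h1)
    let θ : C₀ →ₐ[R] B :=
      { θ' with
        commutes' := fun r => by
          have h1 := DFunLike.congr_fun hθφ (algebraMap R κ r)
          have h2 : φ.toRingHom (algebraMap R κ r) = algebraMap R B r := φ.commutes r
          rw [← h2, ← h1]
          rfl }
    refine ⟨θ, ?_, ?_⟩
    · apply AlgHom.ext
      intro r
      exact DFunLike.congr_fun hθφ r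
    · apply (Q.pt B).injective
      rw [Q.nat, MulEquiv.apply_symm_apply]
      ext1
      rw [← hx2, Over.comp_left]
      change Spec.map (CommRingCat.ofHom θ') ≫ e.inv.left ≫ i₀.left ≫ _ = _
      rw [← hy]
      change (x ≫ e.hom.left) ≫ _ = _
      rw [Category.assoc, ← Category.assoc e.hom.left, hi]
      exact congrArg (x ≫ ·) (Category.id_comp _)
  · rintro ⟨θ, hθ, rfl⟩
    refine ⟨Spec.map (CommRingCat.ofHom θ.toRingHom) ≫ e.inv.left, ?_, ?_⟩
    · rw [ha, ← hθ]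
      refine (Category.assoc _ _ _).trans
        ((congrArg (Spec.map (CommRingCat.ofHom θ.toRingHom) ≫ ·) he).trans ?_)
      change Spec.map (CommRingCat.ofHom θ.toRingHom) ≫ Spec.map (CommRingCat.ofHom φ₀.toRingHom) = _
      rw [← Spec.map_comp, ← CommRingCat.ofHom_comp]
      rfl
    · rw [Q.nat, MulEquiv.apply_symm_apply, Over.comp_left]
      exact Category.assoc _ _ _

end aff

end K216.TorPts
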