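import Groth.Agent.Red.K216.IsogPts
import Groth.Agent.Red.K216.TorPts

/-!
# Central geometric points lie in every maximal torus
-/

set_option autoImplicit false
universe u

open CategoryTheory MonoidalCategory CartesianMonoidalCategory MonObj GrpObj AlgebraicGeometry Limits

namespace K216.IsogTor

open Groth.Agent Groth.Agent.Sga3B Groth.Agent.Sga3B.BcPts Groth.Agent.Sga3B.MT

variable {S S' : Scheme.{u}} {G Q : Over S} [GrpObj G] [GrpObj Q] {Ω : Type u} [Field Ω] [IsAlgClosed Ω]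

lemma bcPt_injective {f : S' ⟶ S} {G : Over S} {X : Over S} (a : X ⟶ Over.mk f) {g g' : X ⟶ G}
    (h : bcPt a g = bcPt a g') : g = g' := by
  have h1 := (bcEquiv f (Over.mk a.left) G).injective h
  rwa [cancel_epi] at h1

/-- points of the kernel of a quasi-finite homomorphism, over an algebraically closed field, are central -/
theorem central (hG : Red.IsReductive G) (f : G ⟶ Q) [IsMonHom f] [LocallyQuasiFinite f.left]
    (p : Spec (CommRingCat.of Ω) ⟶ S) (z : Over.mk p ⟶ G) (hz : z ≫ f = 1)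
    (Y : Over S) (x : Y ⟶ Over.mk p) (h : Y ⟶ G) : (x ≫ z) * h = h * (x ≫ z) := by
  have hR := RedBcAny636.isReductive_bc p hG
  have h1 : IsAffineHom (Red.bc p G).hom := hR.1
  have h2 : Smooth (Red.bc p G).hom := hR.2.1
  have h3 : ConnectedSpace (Red.bc p G).left := MaxTorBc505.connectedSpace_bc hG p
  have hqf : LocallyQuasiFinite ((Over.pullback p).map f).left :=
    MorphismProperty.of_isPullback (Parab.EtHom.isPullback_map p f) inferInstance
  let ζ : 𝟙_ (Over (Spec (CommRingCat.of Ω))) ⟶ Red.bc p G := bcPt (𝟙 (Over.mk p)) z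
  have hζ : ζ ≫ (Over.pullback p).map f = 1 := by
    change bcEquiv p _ G _ ≫ _ = _
    rw [← bcEquiv_comp, Category.assoc, hz, MonObj.comp_one, bcEquiv_one]
  have key := IsogPts.central ((Over.pullback p).map f) ζ hζ (Over.mk x.left) (bcPt x h)
  have e1 : toUnit (Over.mk x.left) ≫ ζ = bcPt x (x ≫ z) := by
    let u : Over.mk x.left ⟶ Over.mk (𝟙 (Over.mk p) : Over.mk p ⟶ Over.mk p).left := toUnit (Over.mk x.left)
    have h5 : u.left = x.left :=
      (Category.comp_id _).symm.trans (Over.w (toUnit (Over.mk x.left)))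
    refine (comp_bcEquiv p u ((overIso (𝟙 (Over.mk p))).hom ≫ z)).symm.trans ?_
    rw [bcPt, ← Category.assoc, ← Category.assoc]
    congr 2
  rw [e1, ← bcPt_mul, ← bcPt_mul] at key
  exact (bcPt_injective x key).symm

/-- a central geometric point lies in every maximal torus -/
theorem memAt_of_central (hG : Red.IsReductive G) {f : S' ⟶ S} {T : Over S'} [GrpObj T] (t : T ⟶ Red.bc f G)
    (ht : Red.IsMaximalTorus t) (p : Spec (CommRingCat.of Ω) ⟶ S) (a : Over.mk p ⟶ Over.mk f) (z : Over.mk p ⟶ G)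
    (hz : ∀ (Y : Over S) (x : Y ⟶ Over.mk p) (h : Y ⟶ G), (x ≫ z) * h = h * (x ≫ z)) : MemAt t a z := by
  have hR := RedBcAny636.isReductive_bc f hG
  let y : Spec (CommRingCat.of Ω) ⟶ S' := a.left
  let ε : (Over.map y).obj (𝟙_ (Over (Spec (CommRingCat.of Ω)))) ≅ Over.mk y :=
    Over.isoMk (Iso.refl _) (by
      change 𝟙 _ ≫ y = 𝟙 _ ≫ y
      rfl)
  let ζ₁ : (Over.map y).obj (𝟙_ (Over (Spec (CommRingCat.of Ω)))) ⟶ Red.bc f G := ε.hom ≫ bcPt a z
  obtain ⟨τ, hτ⟩ := MaxTorBc505.exists_of_comm' hR ht y (𝟙_ _) (bcEquiv y _ _ ζ₁) (by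
    intro X' x τ'
    obtain ⟨τ₁, rfl⟩ := (bcEquiv y X' T).surjective τ'
    rw [← comp_bcEquiv, ← bcEquiv_comp, ← bcEquiv_mul, ← bcEquiv_mul]
    congr 1
    generalize τ₁ ≫ t = u
    obtain ⟨u₁, rfl⟩ := (bcEquiv f _ G).surjective u
    have h1 : (Over.map y).map x ≫ ζ₁ = bcEquiv f ((Over.map y).obj X') G
        ((Over.map f).map ((Over.map y).map x ≫ ε.hom) ≫ (overIso a).hom ≫ z) := by
      rw [comp_bcEquiv, Category.assoc]
      rfl
    rw [h1, ← bcEquiv_mul, ← bcEquiv_mul]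
    congr 1
    rw [← Category.assoc]
    exact hz _ _ _)
  obtain ⟨τ₁, rfl⟩ := (bcEquiv y _ T).surjective τ
  rw [← bcEquiv_comp] at hτ
  have h2 := (bcEquiv y _ _).injective hτ
  rw [memAt_iff]
  refine ⟨ε.inv ≫ τ₁, ?_⟩
  rw [Category.assoc, ← h2, Iso.inv_hom_id_assoc]

end K216.IsogTor
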