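import Groth.Agent.Red.K216.IsogMain
import Groth.Agent.UnramA.FibreFlat
import Groth.Agent.Sga3C.KerSquare
import Mathlib.AlgebraicGeometry.ValuativeCriterion
import Mathlib.AlgebraicGeometry.Morphisms.FlatDescent

/-!
# Fibrewise isogenies of reductive group schemes are isogenies
-/

set_option autoImplicit false
universe u

open CategoryTheory MonoidalCategory CartesianMonoidalCategory MonObj GrpObj AlgebraicGeometry Limits

namespace K216.Isogeny

open Groth.Agent Groth.Agent.Sga3B Groth.Agent.Sga3B.BcPts Groth.Agent.Books.AffBridge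

variable {S : Scheme.{u}} {G' G : Over S} [GrpObj G'] [GrpObj G]

lemma isDominant_of_isFractionRing {V F : Type u} [CommRing V] [IsDomain V] [Field F] [Algebra V F]
    [IsFractionRing V F] : IsDominant (Spec.map (CommRingCat.ofHom (algebraMap V F))) := by
  refine ⟨?_⟩
  change DenseRange (PrimeSpectrum.comap (algebraMap V F))
  rw [PrimeSpectrum.denseRange_comap_iff_ker_le_nilRadical,
    (RingHom.injective_iff_ker_eq_bot _).1 (IsFractionRing.injective V F)]
  exact bot_le

/-- the kernel of a fibrewise finite homomorphism of reductive groups is universally closed -/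
theorem universallyClosed_ker (hG' : Red.IsReductive G') (hG : Red.IsReductive G) (f : G' ⟶ G) [IsMonHom f]
    [LocallyQuasiFinite f.left] [QuasiCompact f.left] :
    UniversallyClosed (pullback.snd f.left (η[G] : 𝟙_ (Over S) ⟶ G).left) := by
  have haf : IsAffineHom G.hom := hG.1
  have haf' : IsAffineHom G'.hom := hG'.1
  have hqc : QuasiCompact (pullback.snd f.left (η[G] : 𝟙_ (Over S) ⟶ G).left) := inferInstance
  refine UniversallyClosed.of_valuativeCriterion _ fun s => ?_
  let V := s.R
  let F := s.K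
  let e₀ : S ⟶ G.left := (η[G] : 𝟙_ (Over S) ⟶ G).left
  have he₀ : e₀ ≫ G.hom = 𝟙 S := Over.w (η[G] : 𝟙_ (Over S) ⟶ G)
  let π := pullback.snd f.left e₀
  have hcs : s.i₁ ≫ π = Spec.map (CommRingCat.ofHom (algebraMap s.R s.K)) ≫ s.i₂ := s.commSq.w
  have hcond : pullback.fst f.left e₀ ≫ f.left = π ≫ e₀ := pullback.condition
  have hw : (s.i₁ ≫ pullback.fst f.left e₀) ≫ G'.hom =
      Spec.map (CommRingCat.ofHom (algebraMap s.R s.K)) ≫ s.i₂ := by
    have h1 : f.left ≫ G.hom = G'.hom := Over.w f
    rw [← h1, ← Category.assoc, Category.assoc s.i₁, hcond, ← Category.assoc, Category.assoc, he₀, Category.comp_id,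
      hcs]
  let z₁ : (Over.map s.i₂).obj (SpecOver s.R s.K) ⟶ G' := Over.homMk (s.i₁ ≫ pullback.fst f.left e₀) hw
  let z : SpecOver s.R s.K ⟶ Red.bc s.i₂ G' := bcEquiv s.i₂ _ _ z₁
  have hone : ∀ X : Over S, (1 : X ⟶ G).left = X.hom ≫ e₀ := by
    intro X
    have h1 : (toUnit X).left = X.hom := (Category.comp_id _).symm.trans (Over.w (toUnit X))
    rw [Hom.one_def, Over.comp_left, h1]
  have hz₁ : z₁ ≫ f = 1 := by
    ext1
    rw [hone]
    change (s.i₁ ≫ pullback.fst f.left e₀) ≫ f.left = (Spec.map (CommRingCat.ofHom (algebraMap s.R s.K)) ≫ s.i₂) ≫ e₀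
    rw [Category.assoc, hcond, ← Category.assoc, hcs]
  have hz : z ≫ (Over.pullback s.i₂).map f = 1 := by
    rw [← bcEquiv_comp, hz₁, bcEquiv_one]
  have hqf : LocallyQuasiFinite ((Over.pullback s.i₂).map f).left :=
    MorphismProperty.of_isPullback (Parab.EtHom.isPullback_map s.i₂ f) inferInstance
  have hqc : QuasiCompact ((Over.pullback s.i₂).map f).left :=
    MorphismProperty.of_isPullback (Parab.EtHom.isPullback_map s.i₂ f) inferInstance
  obtain ⟨z₀, hz₀⟩ := IsogMain.exists_point (V := s.R) (F := s.K) (RedBcAny636.isReductive_bc s.i₂ hG')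
    ((Over.pullback s.i₂).map f) z hz
  have haff : IsAffineHom (Red.bc s.i₂ G).hom := (RedBcAny636.isReductive_bc s.i₂ hG).1
  have hz₀1 : z₀ ≫ (Over.pullback s.i₂).map f = 1 := by
    let jj : Spec (CommRingCat.of s.K) ⟶ (SpecOver s.R s.R).left :=
      Spec.map (CommRingCat.ofHom (algebraMap s.R s.K))
    have hd : IsDominant jj := isDominant_of_isFractionRing
    have hr : IsReduced (SpecOver s.R s.R).left := inferInstanceAs (IsReduced (Spec (CommRingCat.of s.R)))
    ext1
    refine ext_of_isDominant_of_isSeparated (Red.bc s.i₂ G).hom ?_ jj ?_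
    · rw [Over.w, Over.w]
    · have h1 : specMap s.R (Algebra.ofId s.R s.K) ≫ z₀ ≫ (Over.pullback s.i₂).map f =
          specMap s.R (Algebra.ofId s.R s.K) ≫ 1 := by
        rw [← Category.assoc, hz₀, hz, MonObj.comp_one]
      exact congrArg (fun t => t.left) h1
  let z₀' : (Over.map s.i₂).obj (SpecOver s.R s.R) ⟶ G' := (bcEquiv s.i₂ _ G').symm z₀
  have hz₀'1 : z₀' ≫ f = 1 := by
    rw [← bcEquiv_symm_comp, hz₀1, Equiv.symm_apply_eq, bcEquiv_one]
  have hz₀' : (Over.map s.i₂).map (specMap s.R (Algebra.ofId s.R s.K)) ≫ z₀' = z₁ := by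
    rw [← comp_bcEquiv_symm, hz₀, Equiv.symm_apply_apply]
  have hid : ((Over.map s.i₂).obj (SpecOver s.R s.R)).hom = s.i₂ := by
    change Spec.map (CommRingCat.ofHom (algebraMap s.R s.R)) ≫ s.i₂ = s.i₂
    have h1 : CommRingCat.ofHom (algebraMap s.R s.R) = 𝟙 _ := rfl
    rw [h1, Spec.map_id, Category.id_comp]
  let w : Spec (CommRingCat.of s.R) ⟶ G'.left := z₀'.left
  have hc : w ≫ f.left = s.i₂ ≫ e₀ := by
    have h1 := congrArg (fun t => t.left) hz₀'1
    rw [hone, hid] at h1
    exact h1
  refine ⟨⟨{ l := pullback.lift w s.i₂ hc, fac_left := ?_, fac_right := pullback.lift_snd _ _ _ }⟩⟩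
  refine pullback.hom_ext (f := f.left) (g := e₀) ?_ ?_
  · refine (Category.assoc _ _ _).trans ?_
    refine (congrArg (Spec.map (CommRingCat.ofHom (algebraMap s.R s.K)) ≫ ·) (pullback.lift_fst w s.i₂ hc)).trans ?_
    exact congrArg (fun t => t.left) hz₀'
  · refine (Category.assoc _ _ _).trans ?_
    refine (congrArg (Spec.map (CommRingCat.ofHom (algebraMap s.R s.K)) ≫ ·) (pullback.lift_snd w s.i₂ hc)).trans ?_
    exact hcs.symm

/-- **Fibrewise isogenies are isogenies.** -/
theorem main (hG' : Red.IsReductive G') (hG : Red.IsReductive G) (f : G' ⟶ G) [IsMonHom f]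
    (hfib : ∀ s : S, IsFinite (Limits.pullback.snd f.left (G.hom.fiberι s)) ∧
      Flat (Limits.pullback.snd f.left (G.hom.fiberι s)) ∧ Surjective (Limits.pullback.snd f.left (G.hom.fiberι s))) :
    IsFinite f.left ∧ Flat f.left ∧ Surjective f.left := by
  have haf : IsAffineHom G.hom := hG.1
  have haf' : IsAffineHom G'.hom := hG'.1
  have hsm : Smooth G.hom := hG.2.1
  have hsm' : Smooth G'.hom := hG'.2.1
  have hfl : Flat f.left := (UnramA.FibreFlat.flat_and_flat_of_fibres G.hom G'.hom f.left (Over.w f)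
    fun s => (hfib s).2.1).1
  have hsurj : Surjective f.left := by
    constructor
    intro y
    have h1 := (hfib (G.hom y)).2.2
    obtain ⟨x, hx⟩ := h1.surj (G.hom.asFiber y)
    refine ⟨pullback.fst f.left (G.hom.fiberι (G.hom y)) x, ?_⟩
    rw [← Scheme.Hom.comp_apply, pullback.condition, Scheme.Hom.comp_apply, hx, Scheme.Hom.fiberι_asFiber]
  have haff : IsAffineHom f.left := by
    have : IsAffineHom (f.left ≫ G.hom) := by
      rw [Over.w]
      infer_instance
    exact IsAffineHom.of_comp f.left G.hom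
  have hft : LocallyOfFiniteType f.left := by
    have : LocallyOfFiniteType (f.left ≫ G.hom) := by
      rw [Over.w]
      infer_instance
    exact locallyOfFiniteType_of_comp f.left G.hom
  have hqf : LocallyQuasiFinite f.left := by
    refine LocallyQuasiFinite.of_fiberToSpecResidueField f.left fun y => ?_
    obtain ⟨t, ht⟩ := UnramA.FibreFlat.isPullback_fiber_pullback f.left G.hom y
    have := (hfib (G.hom y)).1
    exact MorphismProperty.of_isPullback (P := @LocallyQuasiFinite) ht inferInstance
  have huc := universallyClosed_ker hG' hG f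
  have hucf : UniversallyClosed f.left := by
    obtain ⟨d, hd⟩ := Sga3C.KerSquare.isPullback_fst_ker f
    have h1 : UniversallyClosed (pullback.fst f.left f.left) :=
      MorphismProperty.of_isPullback (P := @UniversallyClosed) hd.flip huc
    exact MorphismProperty.of_pullback_fst_of_descendsAlong (P := @UniversallyClosed)
      (Q := @Surjective ⊓ @Flat ⊓ @QuasiCompact) (f := f.left) (g := f.left) ⟨⟨hsurj, hfl⟩, inferInstance⟩ h1
  refine ⟨?_, hfl, hsurj⟩
  have : IsProper f.left := {}
  exact IsFinite.iff_isProper_and_isAffineHom.2 ⟨inferInstance, inferInstance⟩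

end K216.Isogeny
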