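import Groth.Agent.Red.K216.LiftTorus
import Groth.Agent.Red.K216.DimPt
import Groth.Agent.Red.K216.LG

/-!
# Lifting maximal tori from the residue field of a local ring
-/

set_option autoImplicit false
universe u

open CategoryTheory MonoidalCategory CartesianMonoidalCategory MonObj GrpObj AlgebraicGeometry Limits
open TensorProduct
open Groth.Agent.Sga3B.Cell

namespace K216.LiftMain

open Groth.Agent Groth.Agent.Sga3B Groth.Agent.Sga3B.BcPts Groth.Agent.Sga3B.Parab Groth.Agent.Sga3B.ResAlg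
open Groth.Agent.Books.AffBridge Groth.Agent.Sga3B.MT K216.TorPts K216.LiftTorus IsLocalRing

lemma mem_range_geomPt (S : Scheme.{u}) (s : S) : s ∈ Set.range (Red.geomPt s) := by
  refine ⟨(⊥ : PrimeSpectrum (AlgebraicClosure (S.residueField s))), ?_⟩
  exact Scheme.fromSpecResidueField_apply (X := S) s _

variable {R : Type u} [CommRing R] [IsLocalRing R] {G : Over (Spec (CommRingCat.of R))} [GrpObj G]
  {A : Type u} [CommRing A] [Algebra R A] [PtGrp R A]

theorem exists_lift (hG : Red.IsReductive G) (Q : GPts G A) [Algebra.Smooth R A]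
    [Algebra.FinitePresentation R A] (hdom : MT.GeomDom R A)
    (hκ : Infinite (ResidueField R) ∨ ∃ n : ℕ,
      topologicalKrullDim ↥(Red.bc (f₀ R (ResidueField R)) G).left = n ∧ n ≤ Nat.card (ResidueField R))
    (T₀ : Over (Spec (CommRingCat.of (ResidueField R)))) [GrpObj T₀]
    (i₀ : T₀ ⟶ Red.bc (f₀ R (ResidueField R)) G) (h₀ : Red.IsMaximalTorus i₀) :
    ∃ (T : Over (Spec (CommRingCat.of R))) (_ : GrpObj T) (i : T ⟶ G), Red.IsMaximalTorus i ∧
      ∃ e : Red.bc (f₀ R (ResidueField R)) T ≅ T₀,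
        e.hom ≫ i₀ = (Over.pullback (f₀ R (ResidueField R))).map i := by
  have hstr : StructHyp R A := structHyp hdom
  let m : Ideal R := maximalIdeal R
  have hm : m.IsMaximal := maximalIdeal.isMaximal R
  obtain ⟨B₀, _, _, het, ⟨q, hq⟩, ⟨D⟩⟩ := exists_pinning_affine G (⟨m, hm.isPrime⟩ : PrimeSpectrum R)
    (SplitFin885.splitNear G hG _)
  have hq' : q.asIdeal.comap (algebraMap R B₀) = m := congrArg PrimeSpectrum.asIdeal hq
  obtain ⟨model⟩ := modelHyp D B₀ (𝟙 _)
  obtain ⟨F, hF⟩ := exists_rcell Q D.toSplitRed D.base model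
  obtain ⟨K, _, _, _, κ', j₀, hker, hint⟩ := EtRes904.exists_geomPoint het m q hq'
  let j : ResidueField R →ₐ[R] K := j₀
  have hmon : Mono i₀ := h₀.2.1
  have hmh : IsMonHom i₀ := h₀.1
  have haffG : IsAffineHom (Red.bc (f₀ R (ResidueField R)) G).hom := (RedBcAny636.isReductive_bc _ hG).1
  have hcl : IsClosedImmersion i₀.left := TorClosed636.isClosedImmersion_of_isTorus i₀ h₀.2.2.1
  have haff : IsAffineHom T₀.hom := by
    rw [← Over.w i₀]
    infer_instance
  obtain ⟨g₁, hg₁⟩ := exists_torAt Q hG j κ' D.toSplitRed D.base F hF i₀ h₀ hcl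
  obtain ⟨C₀, _, _, φ₀, τ, hτ⟩ := exists_univ Q i₀ haff
  have hpt : ∀ {B : Type u} [CommRing B] [Algebra R B] (φ : ResidueField R →ₐ[R] B),
      ∃ a : SpecOver R B ⟶ Over.mk (f₀ R (ResidueField R)),
        a.left = Spec.map (CommRingCat.ofHom φ.toRingHom) :=
    fun φ => ⟨Over.homMk _ (spec_comp φ), rfl⟩
  have hcard : Infinite (ResidueField R) ∨ Fintype.card D.idx ≤ Nat.card (ResidueField R) := by
    refine hκ.imp_right ?_
    rintro ⟨n, hn, hle⟩
    refine le_trans ?_ hle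
    have hft : LocallyOfFiniteType G.hom := by
      have := hG.2.1
      infer_instance
    have h1 : topologicalKrullDim ↥(Red.bc (f₀ R (ResidueField R)) G).left =
        topologicalKrullDim ↥(G.hom.fiber (⟨m, hm.isPrime⟩ : PrimeSpectrum R)) := by
      refine DimPt.dim_pullback_field (f₀ R (ResidueField R)) G.hom _ ⟨(⊥ : PrimeSpectrum (ResidueField R)), ?_⟩
      apply PrimeSpectrum.ext
      exact Ideal.mk_ker (I := m)
    have h2 : topologicalKrullDim ↥(Red.geomFibre (q : Spec (CommRingCat.of B₀)) (Red.bc (f₀ R B₀) G)).left =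
        topologicalKrullDim ↥(G.hom.fiber (⟨m, hm.isPrime⟩ : PrimeSpectrum R)) := by
      let gq := Red.geomPt (S := Spec (CommRingCat.of B₀)) q
      let e : pullback (pullback.snd G.hom (f₀ R B₀)) gq ≅ pullback G.hom (gq ≫ f₀ R B₀) :=
        pullbackLeftPullbackSndIso _ _ _
      have h3 : topologicalKrullDim ↥(pullback (pullback.snd G.hom (f₀ R B₀)) gq) =
          topologicalKrullDim ↥(pullback G.hom (gq ≫ f₀ R B₀)) :=
        IsHomeomorph.topologicalKrullDim_eq e.hom e.hom.homeomorph.isHomeomorph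
      refine h3.trans ?_
      obtain ⟨p, hp⟩ := mem_range_geomPt (Spec (CommRingCat.of B₀)) q
      refine DimPt.dim_pullback_field (gq ≫ f₀ R B₀) G.hom _ ⟨p, ?_⟩
      rw [Scheme.Hom.comp_apply]
      refine (congrArg (f₀ R B₀) hp).trans ?_
      exact hq
    have h3 := D.dim_fibre q
    rw [h2, ← h1, hn] at h3
    have h4 : n = Module.finrank ℤ D.M + Fintype.card D.idx := by exact_mod_cast h3
    omega
  obtain ⟨x₀, c₀, y₀, hy₀, hc₀, hx₀⟩ := RegTorus.exists_reg hdom j (F.bc κ') g₁ φ₀ τ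
    (fun {B} _ _ ψ θ hθ => by
      obtain ⟨a, ha⟩ := hpt (ψ.comp j)
      exact (hg₁ ψ _ a ha).1 ((hτ (ψ.comp j) _ a ha).2 ⟨θ, hθ, rfl⟩))
    (fun {B} _ _ ψ h hh => by
      obtain ⟨a, ha⟩ := hpt (ψ.comp j)
      exact (hτ (ψ.comp j) _ a ha).1 ((hg₁ ψ _ a ha).2 hh))
    hcard
  -- the lift
  have hBet : Algebra.Etale R B₀ := RingHom.etale_algebraMap.mp het
  obtain ⟨ξ, hξ⟩ := InfAut.map_mk_surjective m B₀ (by
      intro h
      have h1 : m.map (algebraMap R B₀) ≤ q.asIdeal := by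
        rw [Ideal.map_le_iff_le_comap, hq']
      exact q.isPrime.ne_top (top_le_iff.mp (h ▸ h1)))
    (hstr.surj F (AlgHom.id R B₀) _ Ideal.Quotient.mk_surjective) x₀
  have e1 : κ'.comp (Algebra.ofId R B₀) = j.comp (Ideal.Quotient.mkₐ R m) :=
    AlgHom.ext fun r => (κ'.commutes r).trans (j.commutes r).symm
  have e3 : κ'.comp (Algebra.ofId R B₀) = Algebra.ofId R K := AlgHom.ext fun r => κ'.commutes r
  have hξK : InfAut.map (Algebra.ofId R K) ξ = InfAut.Ad g₁ y₀ := by
    rw [← e3, e1, ← hx₀, ← hξ]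
    exact (InfAut.map_map _ _ ξ).symm
  have h1 : F.IsReg κ' (InfAut.map κ' (InfAut.map (Algebra.ofId R B₀) ξ)) := by
    rw [InfAut.map_map, e3]
    exact ⟨g₁, c₀, y₀, hy₀, hc₀, hξK⟩
  obtain ⟨B₁, _, _, ψ, hψ, ⟨q₁, hq₁⟩, g, c, y, hy, hc, heq⟩ := F.exists_etale'
    (fun φ c => F.exists_diag hdom φ c)
    (fun φ c y y' hy hy' => F.ext_infAut hdom φ y y'
      (fun ψ t => (hy.1 ψ t).trans (hy'.1 ψ t).symm)
      (fun a _ _ _ ψ z => (hy.2 a ψ z).trans (hy'.2 a ψ z).symm))
    (fun φ x => hstr.zero F φ x)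
    (fun φ ψ h1 h2 ξ g₀ c₀ y₀ h3 h4 h5 => hstr.lift F φ ψ h1 h2 ξ g₀ c₀ y₀ h3 h4 h5)
    (InfAut.map (Algebra.ofId R B₀) ξ) K κ' h1
  let Ch : Chart Q ξ := {
      B₀ := B₀
      D := D.toSplitRed
      b := D.base
      F := F
      hF := hF
      B₁ := B₁
      ψ := ψ
      et₀ := het
      et₁ := hψ
      g := g
      c := c
      y := y
      diag := hy
      reg := hc
      eq := by
        have e2 : ψ.comp (Algebra.ofId R B₀) = Algebra.ofId R B₁ :=
          AlgHom.ext fun r => ψ.commutes r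
        rw [← heq, InfAut.map_map, e2] }
  have hpt₁ : (⟨m, hm.isPrime⟩ : PrimeSpectrum R) ∈ Set.range Ch.f := by
    refine ⟨q₁, ?_⟩
    rw [Chart.f_eq]
    apply PrimeSpectrum.ext
    change q₁.asIdeal.comap (algebraMap R B₁) = m
    have e3 : algebraMap R B₁ = ψ.toRingHom.comp (algebraMap R B₀) := ψ.comp_algebraMap.symm
    rw [e3, ← Ideal.comap_comap, hq₁, hker, hq']
  have hCet : Etale Ch.f := Ch.etale_f
  have hcov : ∀ s : Spec (CommRingCat.of R), ∃ _ : PUnit.{u+1}, s ∈ Set.range Ch.f := by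
    intro p
    refine ⟨⟨⟩, ?_⟩
    have hle : (show PrimeSpectrum R from p) ≤ ⟨m, hm.isPrime⟩ := by
      change (p : PrimeSpectrum R).asIdeal ≤ m
      exact le_maximalIdeal (p : PrimeSpectrum R).isPrime.ne_top
    have hsp := (PrimeSpectrum.le_iff_specializes _ _).mp hle
    have hop : IsOpen (Set.range Ch.f) := Ch.f.isOpenMap.isOpen_range
    exact hsp.mem_open hop hpt₁
  obtain ⟨T, hT, t, ht, htc, hpts⟩ := exists_of_charts Q ξ hdom (fun _ : PUnit.{u+1} => Ch) hcov
  refine ⟨T, hT, t, ht, ?_⟩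
  have htm : Mono t := ht.2.1
  have hsurj : Surjective (f₀ R B₁) := by
    rw [← Ch.f_eq]
    refine ⟨fun s => ?_⟩
    obtain ⟨_, h⟩ := hcov s
    exact h
  have hflat : Flat (f₀ R B₁) := by
    rw [← Ch.f_eq]
    infer_instance
  have hjet : Flat (Spec.map (CommRingCat.ofHom j.toRingHom)) := by
    rw [Flat.SpecMap_iff]
    let _ : Algebra (ResidueField R) K := j.toRingHom.toAlgebra
    exact (RingHom.flat_algebraMap_iff (R := ResidueField R) (S := K)).2 inferInstance
  have hjs : Surjective (Spec.map (CommRingCat.ofHom j.toRingHom)) := by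
    constructor
    intro x
    exact ⟨(⊥ : PrimeSpectrum K), Subsingleton.elim (α := PrimeSpectrum (ResidueField R)) _ _⟩
  -- comparison of the points over `B₁` and `K`
  have hcmp : ∀ {B : Type u} [CommRing B] [Algebra R B] (χ : K →ₐ[R] B) (φ : B₁ →ₐ[R] B)
      (a : SpecOver R B ⟶ Over.mk (f₀ R (ResidueField R)))
      (_ : a.left = Spec.map (CommRingCat.ofHom (χ.comp j).toRingHom)) (h : Pt R A B),
      MemAt i₀ a (Q.pt B h) ↔ MemAt ((Over.pullback (f₀ R (ResidueField R))).map t) a (Q.pt B h) := by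
    intro B _ _ χ φ a ha h
    have hφ : Spec.map (CommRingCat.ofHom φ.toRingHom) ≫ Ch.f = f₀ R B := by
      rw [Ch.f_eq]
      exact spec_comp φ
    let a' : SpecOver R B ⟶ Over.mk Ch.f := Over.homMk (Spec.map (CommRingCat.ofHom φ.toRingHom)) hφ
    rw [memAt_pullback_map, hpts ⟨⟩ _ a', hg₁ χ h a ha, Ch.memAt_iff φ a' rfl h]
    have hKy : InfAut.Ad (Pt.map χ g₁) (InfAut.map χ y₀) = InfAut.Ad (Pt.map φ g) (InfAut.map φ y) := by
      have e4 : χ.comp (Algebra.ofId R K) = Algebra.ofId R B := AlgHom.ext fun r => χ.commutes r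
      rw [← InfAut.map_Ad, ← hξK, InfAut.map_map, e4]
      exact (Ch.map_ξ φ).symm
    have hd₀ : F.IsDiag (χ.comp κ') ((χ.toRingHom.toAddMonoidHom).comp c₀) (InfAut.map χ y₀) :=
      RCell.IsDiag.fix_map (D := F.bc κ') hy₀ χ
    have hd₁ : F.IsDiag (φ.comp ψ) ((φ.toRingHom.toAddMonoidHom).comp c) (InfAut.map φ y) := hy.fix_map φ
    constructor
    · exact RCell.torAt_of_torAt F F hdom _ _ hd₁ (fun a => (hc a).map φ) hd₀ hKy.symm
    · exact RCell.torAt_of_torAt F F hdom _ _ hd₀ (fun a => (hc₀ a).map χ) hd₁ hKy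
  have hclt : IsClosedImmersion ((Over.pullback (f₀ R (ResidueField R))).map t).left :=
    MorphismProperty.of_isPullback (EtHom.isPullback_map (f₀ R (ResidueField R)) t) htc
  refine exists_iso t i₀ fun X a g' => ?_
  rw [← memAt_pullback_map t a g']
  exact ⟨memAt_iff_of_cover Q j hjet hjs hflat hsurj i₀ _ (fun χ φ a ha h => (hcmp χ φ a ha h).1) X a g',
    memAt_iff_of_cover Q j hjet hjs hflat hsurj _ i₀ (fun χ φ a ha h => (hcmp χ φ a ha h).2) X a g'⟩

/-- **Lifting maximal tori from the residue field.** -/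
theorem exists_isMaximalTorus_lifting (hG : Red.IsReductive G)
    (hκ : Infinite (ResidueField R) ∨ ∃ n : ℕ,
      topologicalKrullDim ↥(Red.bc (Spec.map (CommRingCat.ofHom (residue R))) G).left = n ∧
        n ≤ Nat.card (ResidueField R))
    (T₀ : Over (Spec (CommRingCat.of (ResidueField R)))) [GrpObj T₀]
    (i₀ : T₀ ⟶ Red.bc (Spec.map (CommRingCat.ofHom (residue R))) G) (h₀ : Red.IsMaximalTorus i₀) :
    ∃ (T : Over (Spec (CommRingCat.of R))) (_ : GrpObj T) (i : T ⟶ G), Red.IsMaximalTorus i ∧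
      ∃ e : Red.bc (Spec.map (CommRingCat.ofHom (residue R))) T ≅ T₀,
        e.hom ≫ i₀ = (Over.pullback (Spec.map (CommRingCat.ofHom (residue R)))).map i := by
  obtain ⟨A, _, _, ⟨e⟩⟩ := AdCentre.exists_specIso G hG.1
  let _ : PtGrp R A := ptGrpOf (A := A) e
  have hp : IsPullback e.inv.left (Spec.map (CommRingCat.ofHom (algebraMap R A))) G.hom (𝟙 _) := by
    have : IsIso e.inv.left := inferInstanceAs (IsIso ((Over.forget _).map e.inv))
    exact IsPullback.of_horiz_isIso_mono ⟨by rw [Category.comp_id]; exact Over.w e.inv⟩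
  have := hG.2.1
  have h1 : Algebra.Smooth R A := ChartFib.smooth_of_isPullback hp
  have h2 : Algebra.FinitePresentation R A := ChartFib.finitePresentation_of_isPullback hp
  have hdom : MT.GeomDom R A := fun K _ _ => ChartFib.isDomain hG hp K
  exact exists_lift hG (gptsOf (A := A) e) hdom hκ T₀ i₀ h₀

end K216.LiftMain
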