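import Groth.Agent.Red.K216.RegTorus
import Groth.Agent.Red.K216.TorPts
import Groth.Agent.Sga3B.SplitFin885
import Groth.Agent.Sga3B.DimFib
import Groth.Agent.Sga3B.TorClosed636

/-!
# Lifting maximal tori from the residue field of a local ring
-/

set_option autoImplicit false
universe u

open CategoryTheory MonoidalCategory CartesianMonoidalCategory MonObj GrpObj AlgebraicGeometry Limits
open TensorProduct
open Groth.Agent.Sga3B.Cell

namespace K216.LiftTorus

open Groth.Agent Groth.Agent.Sga3B Groth.Agent.Sga3B.BcPts Groth.Agent.Sga3B.Parab Groth.Agent.Sga3B.ResAlg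
open Groth.Agent.Books.AffBridge Groth.Agent.Sga3B.MT K216.TorPts

section charts

variable {R : Type u} [CommRing R] {G : Over (Spec (CommRingCat.of R))} [GrpObj G]
  {A : Type u} [CommRing A] [Algebra R A] [PtGrp R A]

/-- The maximal torus given by charts, with its points. -/
theorem exists_of_charts (Q : GPts G A) (ξ : InfAut R A R) [Algebra.Smooth R A]
    (hdom : MT.GeomDom R A) {J : Type u} (K : J → Chart Q ξ)
    (hcov : ∀ s : Spec (CommRingCat.of R), ∃ j, s ∈ Set.range (K j).f) :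
    ∃ (T : Over (Spec (CommRingCat.of R))) (_ : GrpObj T) (t : T ⟶ G),
      Red.IsMaximalTorus t ∧ IsClosedImmersion t.left ∧
      ∀ (j : J) (X : Over (Spec (CommRingCat.of R))) (a : X ⟶ Over.mk (K j).f) (g : X ⟶ G),
        (∃ x : X ⟶ T, x ≫ t = g) ↔ MemAt (K j).t a g := by
  have hmt := fun j => (K j).isMaximalTorus
  have hmon : ∀ j, IsMonHom (K j).t := fun j => (hmt j).1
  have het : ∀ j, Etale (K j).f := fun j => (K j).etale_f
  have hc : Compat (fun j => (K j).t) := by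
    intro i j X a b g H
    have : Mono (K j).t := (hmt j).2.1
    refine MemAt.of_aff b g fun C _ c x => ?_
    obtain ⟨_, ⟨e⟩⟩ := exists_specOver C c
    have H' : MemAt (K i).t (e.hom ≫ x ≫ a) (e.hom ≫ x ≫ g) := (H.comp x).comp e.hom
    obtain ⟨φ, hφ⟩ := exists_algHom (K i).f_eq (e.hom ≫ x ≫ a)
    obtain ⟨φ', hφ'⟩ := exists_algHom (K j).f_eq (e.hom ≫ x ≫ b)
    obtain ⟨h, hh⟩ := (Q.pt C).surjective (e.hom ≫ x ≫ g)
    rw [← hh, (K i).memAt_iff φ _ hφ] at H'
    have H2 : MemAt (K j).t (e.hom ≫ x ≫ b) (e.hom ≫ x ≫ g) := by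
      rw [← hh, (K j).memAt_iff φ' _ hφ']
      exact Chart.torAt_of_torAt hdom (K j) (K i) φ' φ H'
    have H3 := H2.comp e.inv
    rwa [Iso.inv_hom_id_assoc, Iso.inv_hom_id_assoc] at H3
  obtain ⟨T, hT, t, ht, htc, hcomp⟩ := exists_closed_subgroup_of_family (f := fun j => (K j).f)
    ⟨fun j => inferInstance, fun j => inferInstance, hcov⟩ (fun j => (K j).t) hc
  have hm : Mono t := Sga3C.ClosedSub.mono_of_left t
  refine ⟨T, hT, t, isMaximalTorus_of_family (fun j => (K j).f) het hcov t ht hm fun j => ?_, htc, ?_⟩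
  · obtain ⟨e, he⟩ := hcomp j
    refine AlgBc.isMaximalTorus_of_arrow e (Iso.refl _) ?_ (hmt j)
    rw [he]
    exact Category.comp_id _
  · intro j X a g
    obtain ⟨e, he⟩ := hcomp j
    rw [← memAt_pullback_map t a g, ← he, memAt_iso]

end charts

section iso

variable {S S' : Scheme.{u}} {G : Over S} [GrpObj G] {f : S' ⟶ S}

omit [GrpObj G] in
/-- Subgroups with the same points are isomorphic. -/
theorem exists_iso {T : Over S} {T₀ : Over S'} (t : T ⟶ G) [Mono t] (i₀ : T₀ ⟶ Red.bc f G) [Mono i₀]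
    (h : ∀ (X : Over S) (a : X ⟶ Over.mk f) (g : X ⟶ G), MemAt i₀ a g ↔ ∃ x : X ⟶ T, x ≫ t = g) :
    ∃ e : Red.bc f T ≅ T₀, e.hom ≫ i₀ = (Over.pullback f).map t := by
  have key : ∀ (X : Over S') (g : X ⟶ Red.bc f G),
      (∃ x : X ⟶ T₀, x ≫ i₀ = g) ↔ ∃ x : X ⟶ Red.bc f T, x ≫ (Over.pullback f).map t = g := by
    intro X g
    rw [← MemAt.iff_of_over, ← MemAt.iff_of_over, h, memAt_pullback_map]
  have hm' : Mono ((Over.pullback f).map t) := inferInstance
  obtain ⟨u, hu⟩ := (key T₀ i₀).1 ⟨𝟙 _, Category.id_comp _⟩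
  obtain ⟨v, hv⟩ := (key (Red.bc f T) ((Over.pullback f).map t)).2 ⟨𝟙 _, Category.id_comp _⟩
  have huv : u ≫ v = 𝟙 _ := by rw [← cancel_mono i₀, Category.assoc, hv, hu, Category.id_comp]
  have hvu : v ≫ u = 𝟙 _ := by
    rw [← cancel_mono ((Over.pullback f).map t), Category.assoc, hu, hv, Category.id_comp]
  exact ⟨⟨v, u, hvu, huv⟩, hv⟩

end iso

section descent

variable {R : Type u} [CommRing R] {G : Over (Spec (CommRingCat.of R))} [GrpObj G]
  {A : Type u} [CommRing A] [Algebra R A] [PtGrp R A]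

/-- Comparison of two families of points, tested after faithfully flat extensions. -/
theorem memAt_iff_of_cover (Q : GPts G A) {κ K B₁ : Type u} [CommRing κ] [Algebra R κ] [CommRing K] [Algebra R K]
    [CommRing B₁] [Algebra R B₁] (j : κ →ₐ[R] K)
    (hj : Flat (Spec.map (CommRingCat.ofHom j.toRingHom)))
    (hj' : Surjective (Spec.map (CommRingCat.ofHom j.toRingHom)))
    (hB : Flat (f₀ R B₁)) (hB' : Surjective (f₀ R B₁))
    {T₁ T₂ : Over (Spec (CommRingCat.of κ))} (t₁ : T₁ ⟶ Red.bc (f₀ R κ) G) (t₂ : T₂ ⟶ Red.bc (f₀ R κ) G)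
    [IsClosedImmersion t₂.left]
    (h : ∀ {B : Type u} [CommRing B] [Algebra R B] (ψ : K →ₐ[R] B) (_ : B₁ →ₐ[R] B)
      (a : SpecOver R B ⟶ Over.mk (f₀ R κ)) (_ : a.left = Spec.map (CommRingCat.ofHom (ψ.comp j).toRingHom))
      (h : Pt R A B), MemAt t₁ a (Q.pt B h) → MemAt t₂ a (Q.pt B h))
    (X : Over (Spec (CommRingCat.of R))) (a : X ⟶ Over.mk (f₀ R κ)) (g : X ⟶ G) (H : MemAt t₁ a g) :
    MemAt t₂ a g := by
  have hm : Mono t₂ := Sga3C.ClosedSub.mono_of_left t₂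
  -- the covers
  let sj : Spec (CommRingCat.of K) ⟶ Spec (CommRingCat.of κ) := Spec.map (CommRingCat.ofHom j.toRingHom)
  have hw : pullback.snd a.left sj ≫ f₀ R K = pullback.fst a.left sj ≫ X.hom := by
    rw [← spec_comp j, ← Category.assoc, ← pullback.condition, Category.assoc]
    exact congrArg (pullback.fst a.left sj ≫ ·) (Over.w a)
  let X₁ : Over (Spec (CommRingCat.of R)) := Over.mk (pullback.fst a.left sj ≫ X.hom)
  let r₁ : X₁ ⟶ X := Over.homMk (pullback.fst a.left sj)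
  let a₁ : X₁ ⟶ Over.mk (f₀ R K) := Over.homMk (pullback.snd a.left sj) hw
  let jj : Over.mk (f₀ R K) ⟶ Over.mk (f₀ R κ) := Over.homMk sj (spec_comp j)
  have hr₁ : r₁ ≫ a = a₁ ≫ jj := by
    ext1
    exact pullback.condition
  have : Flat r₁.left := inferInstanceAs (Flat (pullback.fst a.left sj))
  have : Surjective r₁.left := inferInstanceAs (Surjective (pullback.fst a.left sj))
  refine MemAt.of_flat r₁ ?_
  let X₂ : Over (Spec (CommRingCat.of R)) := Over.mk (pullback.fst X₁.hom (f₀ R B₁) ≫ X₁.hom)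
  let r₂ : X₂ ⟶ X₁ := Over.homMk (pullback.fst X₁.hom (f₀ R B₁))
  let b₂ : X₂ ⟶ Over.mk (f₀ R B₁) := Over.homMk (pullback.snd X₁.hom (f₀ R B₁)) pullback.condition.symm
  have : Flat r₂.left := inferInstanceAs (Flat (pullback.fst X₁.hom (f₀ R B₁)))
  have : Surjective r₂.left := inferInstanceAs (Surjective (pullback.fst X₁.hom (f₀ R B₁)))
  refine MemAt.of_flat r₂ ?_
  refine MemAt.of_aff _ _ fun C _ c x => ?_
  obtain ⟨_, ⟨e⟩⟩ := exists_specOver C c
  have H' := (((H.comp r₁).comp r₂).comp x).comp e.hom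
  obtain ⟨ψ, hψ⟩ := exists_algHom (B₁ := K) rfl (e.hom ≫ x ≫ r₂ ≫ a₁)
  obtain ⟨φ, hφ⟩ := exists_algHom (B₁ := B₁) rfl (e.hom ≫ x ≫ b₂)
  obtain ⟨h', hh⟩ := (Q.pt C).surjective (e.hom ≫ x ≫ r₂ ≫ r₁ ≫ g)
  have ha : (e.hom ≫ x ≫ r₂ ≫ r₁ ≫ a).left = Spec.map (CommRingCat.ofHom (ψ.comp j).toRingHom) := by
    have e1 : e.hom ≫ x ≫ r₂ ≫ r₁ ≫ a = (e.hom ≫ x ≫ r₂ ≫ a₁) ≫ jj := by
      simp only [Category.assoc, hr₁]
    rw [e1, Over.comp_left, hψ]
    change Spec.map (CommRingCat.ofHom ψ.toRingHom) ≫ Spec.map (CommRingCat.ofHom j.toRingHom) = _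
    rw [← Spec.map_comp, ← CommRingCat.ofHom_comp]
    rfl
  rw [← hh] at H'
  have H2 := h ψ φ _ ha h' H'
  rw [hh] at H2
  have H3 := H2.comp e.inv
  rwa [Iso.inv_hom_id_assoc, Iso.inv_hom_id_assoc] at H3

end descent

end K216.LiftTorus
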