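import Groth.Agent.Red.K216.Complement
import Groth.Agent.Red.K216.Core

/-!
# Minimal normal smooth connected closed subgroups of a semisimple group over a field
-/

set_option autoImplicit false
open CategoryTheory MonoidalCategory CartesianMonoidalCategory MonObj GrpObj AlgebraicGeometry Limits
universe u

namespace K216.Minimal

open K216.Fppf K216.Comm K216.Complement Groth.Agent Groth.Agent.Sga3B

variable {k : Type u} [Field k]

/-- normal smooth connected closed subgroups -/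
def Nsc {N G : Over (Spec (CommRingCat.of k))} [GrpObj N] [GrpObj G] (i : N ⟶ G) : Prop :=
  IsMonHom i ∧ IsClosedImmersion i.left ∧ Smooth N.hom ∧ ConnectedSpace N.left ∧ AlgGrp.IsNormalHom i

/-- minimal non-trivial normal smooth connected closed subgroups -/
def Mnl {N G : Over (Spec (CommRingCat.of k))} [GrpObj N] [GrpObj G] (i : N ⟶ G) : Prop :=
  Nsc i ∧ ¬ Red.IsTrivialGrp N ∧
    ∀ (N' : Over (Spec (CommRingCat.of k))) [GrpObj N'] (i' : N' ⟶ G) (f : N' ⟶ N) [IsMonHom f],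
      Nsc i' → f ≫ i = i' → Red.IsTrivialGrp N' ∨ IsIso f

lemma isMonHom_of_comp {S : Scheme.{u}} {A B C : Over S} [GrpObj A] [GrpObj B] [GrpObj C] (f : A ⟶ B) (g : B ⟶ C)
    [IsMonHom g] [Mono g] [IsMonHom (f ≫ g)] : IsMonHom f := by
  refine Sga3B.Pts.isMonHom_of_points _ fun X x y => ?_
  rw [← cancel_mono g, Category.assoc, MonObj.mul_comp, MonObj.mul_comp, Category.assoc, Category.assoc]

section

variable {N G : Over (Spec (CommRingCat.of k))} [GrpObj N] [GrpObj G]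

/-- A minimal subgroup is `k`-simple. -/
theorem simple (hG : Red.IsSemisimple G) (i : N ⟶ G) (hi : Mnl i)
    (N' : Over (Spec (CommRingCat.of k))) [GrpObj N'] (f : N' ⟶ N) [IsMonHom f] (hf : IsClosedImmersion f.left)
    (hs : Smooth N'.hom) (hc : ConnectedSpace N'.left) (hn : AlgGrp.IsNormalHom f) : Red.IsTrivialGrp N' ∨ IsIso f := by
  obtain ⟨⟨hi1, hi2, hi3, hi4, hi5⟩, hi6, hi7⟩ := hi
  obtain ⟨P, _, j, -, -, -, -, -, hcom, hcov, -⟩ := exists_compl hG i hi2 hi3 hi4 hi5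
  refine hi7 N' (f ≫ i) f ⟨inferInstance, ?_, hs, hc, ?_⟩ rfl
  · rw [Over.comp_left]
    infer_instance
  · intro X g x
    have hm : Mono (f ≫ i) := by
      have := mono_of_closed f hf
      have := mono_of_closed i hi2
      infer_instance
    have hcl : IsClosedImmersion (f ≫ i).left := by
      rw [Over.comp_left]
      infer_instance
    obtain ⟨V, v, w, hvw, hw⟩ := hcov.exists_pull g
    obtain ⟨y, hy⟩ := hw.factor (f ≫ i) (g * (x ≫ f ≫ i) * g⁻¹) (by
      obtain ⟨y, hy⟩ := hn V (v ≫ fst N P) (w ≫ x)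
      refine ⟨y, ?_⟩
      have h1 : w ≫ g = ((v ≫ fst N P) ≫ i) * ((v ≫ snd N P) ≫ j) := by
        rw [← hvw, mulMap_eq]
        simp only [Category.assoc]
      have h2 := congrArg (· ≫ i) hy
      simp only [MonObj.mul_comp, GrpObj.inv_comp] at h2
      have h3 := hcom V (v ≫ snd N P) (w ≫ x ≫ f)
      rw [MonObj.comp_mul, MonObj.comp_mul, GrpObj.comp_inv, h1, ← Category.assoc y, ← h2]
      simp only [Category.assoc] at h3 ⊢
      generalize v ≫ fst N P ≫ i = A at *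
      generalize v ≫ snd N P ≫ j = B at *
      generalize w ≫ x ≫ f ≫ i = C at *
      calc A * C * A⁻¹ = A * (C * B * B⁻¹) * A⁻¹ := by rw [mul_inv_cancel_right]
        _ = A * (B * C * B⁻¹) * A⁻¹ := by rw [h3]
        _ = A * B * C * (A * B)⁻¹ := by simp only [_root_.mul_inv_rev, _root_.mul_assoc])
    exact ⟨y, hy.symm⟩

lemma connected_tensor (A B : Over (Spec (CommRingCat.of k))) [GrpObj A] [GrpObj B] [LocallyOfFiniteType A.hom]
    [LocallyOfFiniteType B.hom] [ConnectedSpace A.left] [ConnectedSpace B.left] :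
    ConnectedSpace (A ⊗ B).left := by
  have h1 := irr A
  have h2 := irr B
  have h3 : IrreducibleSpace A.left := GeometricallyIrreducible.irreducibleSpace_of_subsingleton A.hom
  have h4 : IrreducibleSpace ↥(pullback A.hom B.hom) := inferInstance
  exact inferInstanceAs (ConnectedSpace ↥(pullback A.hom B.hom))

end

/-- Two distinct minimal subgroups commute. -/
theorem commute {N₁ N₂ G : Over (Spec (CommRingCat.of k))} [GrpObj N₁] [GrpObj N₂] [GrpObj G]
    (hG : Red.IsSemisimple G) (i₁ : N₁ ⟶ G) (i₂ : N₂ ⟶ G) (h₁ : Mnl i₁) (h₂ : Mnl i₂)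
    (hne : ¬ ∃ e : N₁ ≅ N₂, e.hom ≫ i₂ = i₁) (X : Over (Spec (CommRingCat.of k))) (x : X ⟶ N₁) (y : X ⟶ N₂) :
    (x ≫ i₁) * (y ≫ i₂) = (y ≫ i₂) * (x ≫ i₁) := by
  obtain ⟨⟨a1, a2, a3, a4, a5⟩, a6, a7⟩ := h₁
  obtain ⟨⟨b1, b2, b3, b4, b5⟩, b6, b7⟩ := h₂
  have hGs : Smooth G.hom := hG.2.1
  have hGc : ConnectedSpace G.left :=
    connected_of_geomFibre (IsLocalRing.closedPoint k) (hG.2.2 _).1.2.2.1
  have hGirr := irr G
  have hm1 := mono_of_closed i₁ a2
  have hm2 := mono_of_closed i₂ b2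
  have hsm : Smooth (N₁ ⊗ N₂).hom := by
    change Smooth (pullback.fst N₁.hom N₂.hom ≫ N₁.hom)
    infer_instance
  have hgr : GeometricallyReduced (N₁ ⊗ N₂).hom := Flat2B.SmoothGeom.geometricallyReduced_of_smooth _
  have hcn : ConnectedSpace (N₁ ⊗ N₂).left := connected_tensor N₁ N₂
  let c : N₁ ⊗ N₂ ⟶ G := (fst _ _ ≫ i₁) * (snd _ _ ≫ i₂) * (fst _ _ ≫ i₁)⁻¹ * (snd _ _ ≫ i₂)⁻¹
  have hc : ∀ (T : Over (Spec (CommRingCat.of k))) (t : T ⟶ N₁ ⊗ N₂), t ≫ c =
      ((t ≫ fst _ _) ≫ i₁) * ((t ≫ snd _ _) ≫ i₂) * ((t ≫ fst _ _) ≫ i₁)⁻¹ * ((t ≫ snd _ _) ≫ i₂)⁻¹ := by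
    intro T t
    simp only [c, MonObj.comp_mul, GrpObj.comp_inv, Category.assoc]
  obtain ⟨Γ, _, g, hg1, hg2, ⟨f', hf'⟩, hgr', hmin⟩ := Groth.Agent.S3028.result k G (N₁ ⊗ N₂) c
  have hmg : Mono g := mono_of_closed g hg2
  have hlft' : LocallyOfFiniteType Γ.hom := by
    rw [← Over.w g]
    infer_instance
  have hs' : Smooth Γ.hom := by
    have : GrpObj (Over.mk Γ.hom) := inferInstanceAs (GrpObj Γ)
    exact smooth_of_grpObj Γ.hom
  have hc' : ConnectedSpace Γ.left := by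
    refine Groth.Agent.S3031.result k G (N₁ ⊗ N₂) (lift 1 1) c ?_ Γ g ⟨f', hf'⟩ hmin
    rw [hc, lift_fst, lift_snd, MonObj.one_eq_one, MonObj.one_comp, MonObj.one_comp]
    group
  have hnorm : AlgGrp.IsNormalHom g := by
    refine Core.isNormalHom_of_min g hg2 c hmin fun T h t => ?_
    obtain ⟨u, hu⟩ := a5 T h (t ≫ fst _ _)
    obtain ⟨v, hv⟩ := b5 T h (t ≫ snd _ _)
    refine ⟨lift u v ≫ f', ?_⟩
    rw [Category.assoc, hf', hc, hc, lift_fst, lift_snd, ← hu, ← hv]
    group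
  have hin1 : ∃ j : Γ ⟶ N₁, j ≫ i₁ = g := by
    refine hmin N₁ _ i₁ a1 a2 ?_
    obtain ⟨u, hu⟩ := a5 (N₁ ⊗ N₂) (snd _ _ ≫ i₂) (fst _ _)⁻¹
    refine ⟨fst _ _ * u, ?_⟩
    rw [MonObj.mul_comp, ← hu, GrpObj.inv_comp]
    simp only [c, _root_.mul_assoc]
  have hin2 : ∃ j : Γ ⟶ N₂, j ≫ i₂ = g := by
    refine hmin N₂ _ i₂ b1 b2 ?_
    obtain ⟨u, hu⟩ := b5 (N₁ ⊗ N₂) (fst _ _ ≫ i₁) (snd _ _)
    refine ⟨u * (snd _ _)⁻¹, ?_⟩
    rw [MonObj.mul_comp, ← hu, GrpObj.inv_comp]
  obtain ⟨j₁, hj₁⟩ := hin1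
  obtain ⟨j₂, hj₂⟩ := hin2
  have hmj1 : IsMonHom j₁ := by
    have : IsMonHom (j₁ ≫ i₁) := by rw [hj₁]; exact hg1
    exact isMonHom_of_comp j₁ i₁
  have hmj2 : IsMonHom j₂ := by
    have : IsMonHom (j₂ ≫ i₂) := by rw [hj₂]; exact hg1
    exact isMonHom_of_comp j₂ i₂
  have hnsc : Nsc g := ⟨hg1, hg2, hs', hc', hnorm⟩
  have htriv : Red.IsTrivialGrp Γ := by
    rcases a7 Γ g j₁ hnsc hj₁ with h | h
    · exact h
    rcases b7 Γ g j₂ hnsc hj₂ with h' | h'
    · exact h'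
    exfalso
    refine hne ⟨(asIso j₁).symm ≪≫ asIso j₂, ?_⟩
    change (inv j₁ ≫ j₂) ≫ i₂ = i₁
    rw [Category.assoc, hj₂, ← hj₁, IsIso.inv_hom_id_assoc]
  have hc1 : lift x y ≫ c = 1 := by
    have h3 : IsIso Γ.hom := htriv
    have h4 : lift x y ≫ f' = 1 := by
      ext1
      rw [← cancel_mono Γ.hom, Over.w, Over.w]
    rw [← hf', ← Category.assoc, h4, MonObj.one_comp]
  rw [hc, lift_fst, lift_snd, mul_inv_eq_one, mul_inv_eq_iff_eq_mul] at hc1
  exact hc1

/-- A minimal subgroup is not commutative. -/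
theorem not_comm {N G : Over (Spec (CommRingCat.of k))} [GrpObj N] [GrpObj G]
    (hG : Red.IsSemisimple G) (i : N ⟶ G) (h : Mnl i) : ¬ Com i i := by
  intro hcom
  obtain ⟨⟨a1, a2, a3, a4, a5⟩, a6, a7⟩ := h
  have hm1 := mono_of_closed i a2
  have hN := NormalSub.isSemisimple_of_normal i a2 a3 a4 a5 hG
  apply a6
  have hNa : IsAffineHom N.hom := hN.1
  have h1 : IsClosedImmersion (η[N] : 𝟙_ (Over (Spec (CommRingCat.of k))) ⟶ N).left := by
    have h2 : (η[N] : 𝟙_ (Over (Spec (CommRingCat.of k))) ⟶ N).left ≫ N.hom = 𝟙 _ := Over.w _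
    have h3 : IsClosedImmersion ((η[N] : 𝟙_ (Over (Spec (CommRingCat.of k))) ⟶ N).left ≫ N.hom) := by
      rw [h2]; infer_instance
    exact IsClosedImmersion.of_comp _ N.hom
  have h2 : IsIso (η[N] : 𝟙_ (Over (Spec (CommRingCat.of k))) ⟶ N) := by
    refine Perfect.isIso_of_commutators η[N] h1 hN fun X g g' => ⟨1, ?_⟩
    rw [MonObj.one_comp]
    symm
    rw [mul_inv_eq_one, mul_inv_eq_iff_eq_mul, ← cancel_mono i, MonObj.mul_comp, MonObj.mul_comp]
    exact (hcom.comp g).self g'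
  have h3 : IsIso (η[N] : 𝟙_ (Over (Spec (CommRingCat.of k))) ⟶ N).left :=
    inferInstanceAs (IsIso ((Over.forget _).map η[N]))
  have h4 : (η[N] : 𝟙_ (Over (Spec (CommRingCat.of k))) ⟶ N).left ≫ N.hom = 𝟙 _ := Over.w _
  have h5 : N.hom = inv (η[N] : 𝟙_ (Over (Spec (CommRingCat.of k))) ⟶ N).left := by
    rw [← cancel_epi (η[N] : 𝟙_ (Over (Spec (CommRingCat.of k))) ⟶ N).left, h4, IsIso.hom_inv_id]
  change IsIso N.hom
  rw [h5]
  infer_instance

/-- Reduced closed subgroups with the same image are the same. -/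
theorem iso_of_range {N₁ N₂ G : Over (Spec (CommRingCat.of k))} [GrpObj N₁] [GrpObj N₂] [GrpObj G]
    (i₁ : N₁ ⟶ G) (i₂ : N₂ ⟶ G) (h₁ : Nsc i₁) (h₂ : Nsc i₂) (h : Set.range i₁.left = Set.range i₂.left) :
    ∃ e : N₁ ≅ N₂, e.hom ≫ i₂ = i₁ := by
  obtain ⟨a1, a2, a3, a4, a5⟩ := h₁
  obtain ⟨b1, b2, b3, b4, b5⟩ := h₂
  have hm1 := mono_of_closed i₁ a2
  have hm2 := mono_of_closed i₂ b2
  have hr1 : IsReduced N₁.left := by
    have := Flat2B.SmoothGeom.geometricallyReduced_of_smooth N₁.hom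
    exact self_of_isIntegral_of_geometrically
      (P := fun X ↦ IsReduced X) (GeometricallyReduced.geometrically_isReduced (f := N₁.hom))
  have hr2 : IsReduced N₂.left := by
    have := Flat2B.SmoothGeom.geometricallyReduced_of_smooth N₂.hom
    exact self_of_isIntegral_of_geometrically
      (P := fun X ↦ IsReduced X) (GeometricallyReduced.geometrically_isReduced (f := N₂.hom))
  obtain ⟨f, hf⟩ := Core.factor_of_range i₂ b2 i₁ h.le
  obtain ⟨g, hg⟩ := Core.factor_of_range i₁ a2 i₂ h.ge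
  exact ⟨⟨f, g, by rw [← cancel_mono i₁, Category.assoc, hg, hf, Category.id_comp],
    by rw [← cancel_mono i₂, Category.assoc, hf, hg, Category.id_comp]⟩, hf⟩

/-- The images of the minimal subgroups form a finite set. -/
theorem finite_range {G : Over (Spec (CommRingCat.of k))} [GrpObj G] (hG : Red.IsSemisimple G) :
    {Z : Set G.left | ∃ (N : Over (Spec (CommRingCat.of k))) (_ : GrpObj N) (i : N ⟶ G), Mnl i ∧
      Set.range i.left = Z}.Finite := by
  by_contra hinf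
  have hinf' : Set.Infinite _ := hinf
  let f := Set.Infinite.natEmbedding _ hinf'
  choose N gN i hi hr using fun n => (f n).2
  have hGs : Smooth G.hom := hG.2.1
  have hGa : IsAffineHom G.hom := hG.1
  have hGaff : IsAffine G.left := isAffine_of_isAffineHom G.hom
  have hln : IsLocallyNoetherian G.left := LocallyOfFiniteType.isLocallyNoetherian G.hom
  have hN : IsNoetherian G.left := { }
  have hcomm : ∀ a b, a ≠ b → Com (i a) (i b) := by
    intro a b hab X x y
    refine commute hG (i b) (i a) (hi b) (hi a) ?_ X x y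
    rintro ⟨e, he⟩
    apply hab
    apply f.injective
    apply Subtype.ext
    rw [← hr a, ← hr b, ← he, Over.comp_left, Scheme.Hom.comp_base]
    have : IsIso e.hom.left := inferInstanceAs (IsIso ((Over.forget _).map e.hom))
    exact ((e.hom.left.homeomorph.surjective).range_comp _).symm
  have hcent : ∀ a, ∃ (Z : Over (Spec (CommRingCat.of k))) (_ : GrpObj Z) (z : Z ⟶ G),
      Red.IsCentralizerOf (i a) z ∧ IsClosedImmersion z.left := by
    intro a
    obtain ⟨⟨a1, a2, a3, a4, a5⟩, a6, a7⟩ := hi a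
    have := irr (N a)
    have := mono_of_closed (i a) a2
    obtain ⟨⟨Z, _, zZ, hZ, hZcl, -⟩, -⟩ := CentNorm900.exists_centralizer_normalizer (i a)
    exact ⟨Z, _, zZ, hZ, hZcl⟩
  choose Z gZ z hz hzcl using hcent
  let U : ℕ → TopologicalSpace.Closeds G.left := fun n =>
    ⨅ a : Fin n, ⟨Set.range (z a).left, (hzcl a).isClosedEmbedding.isClosed_range⟩
  have hU : Antitone U := by
    intro n m hnm
    refine le_iInf fun a => ?_
    exact iInf_le (fun a : Fin m => (⟨Set.range (z a).left, (hzcl a).isClosedEmbedding.isClosed_range⟩ :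
      TopologicalSpace.Closeds G.left)) (Fin.castLE hnm a)
  obtain ⟨n, hn⟩ := WellFoundedLT.antitone_chain_condition hU
  have h1 : Set.range (i n).left ⊆ U n := by
    rw [TopologicalSpace.Closeds.coe_iInf]
    refine Set.subset_iInter fun a => ?_
    have hzm := mono_of_closed (z a) (hzcl a)
    have h2 := hcomm a n (by have := a.2; omega)
    obtain ⟨w, hw⟩ := ((hz a).2.2 _ (i n)).2 h2
    change Set.range (i n).left ⊆ Set.range (z a).left
    rw [← hw, Over.comp_left, Scheme.Hom.comp_base]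
    rintro _ ⟨y, rfl⟩
    exact ⟨w.left y, rfl⟩
  have h2 : (U (n + 1) : Set G.left) ⊆ Set.range (z n).left := by
    have h3 : U (n + 1) ≤ ⟨Set.range (z n).left, (hzcl n).isClosedEmbedding.isClosed_range⟩ :=
      iInf_le (fun a : Fin (n + 1) => (⟨Set.range (z a).left, (hzcl a).isClosedEmbedding.isClosed_range⟩ :
        TopologicalSpace.Closeds G.left)) (Fin.last n)
    exact h3
  rw [← hn (n + 1) n.le_succ] at h2
  obtain ⟨⟨a1, a2, a3, a4, a5⟩, a6, a7⟩ := hi n
  have hr1 : IsReduced (N n).left := by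
    have := Flat2B.SmoothGeom.geometricallyReduced_of_smooth (N n).hom
    exact self_of_isIntegral_of_geometrically
      (P := fun X ↦ IsReduced X) (GeometricallyReduced.geometrically_isReduced (f := (N n).hom))
  obtain ⟨w, hw⟩ := Core.factor_of_range (z n) (hzcl n) (i n) (h1.trans h2)
  exact not_comm hG (i n) (hi n) (((hz n).2.2 _ (i n)).1 ⟨w, hw⟩)

end K216.Minimal
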