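import Groth.Agent.Red.K216.DecDef
import Groth.Prelude.Def_WeilRes

set_option autoImplicit false
universe u

open CategoryTheory MonoidalCategory CartesianMonoidalCategory MonObj GrpObj AlgebraicGeometry

namespace K216.PlanDec

open K216.DecDef

/-- NODE A -/
theorem nodeA {σ M : Type} [Fintype σ] [AddCommGroup M] [Module.Finite ℤ M] [Module.Free ℤ M]
    (P : RootPairing σ ℤ M (Module.Dual ℤ M)) (hP : P.toLinearMap = Module.Dual.eval ℤ M)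
    (hsc : Submodule.span ℤ (Set.range P.coroot) = ⊤) (hred : P.IsReduced) (I : Set σ)
    (hI : ∀ a b, a ∈ I → b ∉ I → P.pairing a b = 0) :
    ∃ (M₁ M₂ : Type) (_ : AddCommGroup M₁) (_ : AddCommGroup M₂) (_ : Module.Finite ℤ M₁) (_ : Module.Free ℤ M₁)
      (_ : Module.Finite ℤ M₂) (_ : Module.Free ℤ M₂)
      (P₁ : RootPairing I ℤ M₁ (Module.Dual ℤ M₁)) (P₂ : RootPairing (Iᶜ : Set σ) ℤ M₂ (Module.Dual ℤ M₂))
      (h₁ : P₁.toLinearMap = Module.Dual.eval ℤ M₁) (h₂ : P₂.toLinearMap = Module.Dual.eval ℤ M₂),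
      P₁.IsReduced ∧ P₂.IsReduced ∧
      Submodule.span ℤ (Set.range P₁.coroot) = ⊤ ∧ Submodule.span ℤ (Set.range P₂.coroot) = ⊤ ∧
      Nonempty (RootPairing.Equiv P (prodPairing P₁ P₂ h₁ h₂)) := sorry

/-- NODE P -/
theorem nodeP {S : Scheme.{u}} {G H : Over S} [GrpObj G] [GrpObj H] (D : Red.SplitRed G) (E : Red.SplitRed H) :
    Red.IsSplitOfType (prodPairing D.P E.P D.pairing_eq E.pairing_eq) (G ⊗ H) := sorry

/-- NODE F -/
theorem nodeF {B : Scheme.{u}} {G : Over B} [GrpObj G] (hG : Red.IsSemisimple G) (φ : G ⟶ G) [IsMonHom φ]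
    (hid : φ ≫ φ = φ)
    (heq : ∀ (X : Over B) (h g : X ⟶ G), (h * g * h⁻¹) ≫ φ = h * (g ≫ φ) * h⁻¹) :
    ∃ (F : Over B) (_ : GrpObj F) (i : F ⟶ G) (q : G ⟶ F), IsMonHom i ∧ IsMonHom q ∧
      IsClosedImmersion i.left ∧ i ≫ q = 𝟙 F ∧ q ≫ i = φ ∧ AlgGrp.IsNormalHom i ∧ Red.IsSemisimple F := sorry

/-- NODE R -/
theorem nodeR {B : Scheme.{u}} {H : Over B} [GrpObj H] (hH : Red.IsSemisimple H) (hs : SimpleFibres H)
    (φ : H ⟶ H) [IsMonHom φ] (hid : φ ≫ φ = φ)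
    (heq : ∀ (X : Over B) (h g : X ⟶ H), (h * g * h⁻¹) ≫ φ = h * (g ≫ φ) * h⁻¹) :
    ∃ U : B.Opens, IsClosed (U : Set B) ∧
      (∀ (X : Over B) (g : X ⟶ H), Set.range X.hom ⊆ (U : Set B) → g ≫ φ = 1) ∧
      (∀ (X : Over B) (g : X ⟶ H), Set.range X.hom ⊆ (U : Set B)ᶜ → g ≫ φ = g) := sorry

/-- NODE C -/
theorem nodeC {S : Scheme.{u}} {G A : Over S} [GrpObj G] [GrpObj A] (hG : Red.IsSemisimple G)
    (hA : ∀ (X : Over S) (a b : X ⟶ A), a * b = b * a) {T : Over S} (φ : G ⊗ T ⟶ A)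
    (hφ : AutFam.IsHomFamily G A φ) (X : Over S) (g : X ⟶ G) (t : X ⟶ T) : lift g t ≫ φ = 1 := sorry

/-- NODE L -/
theorem nodeL {V : Scheme.{u}} [Nonempty V] {G : Over V} [GrpObj G] (D : Red.SplitRed G)
    (hsc : Submodule.span ℤ (Set.range D.P.coroot) = ⊤) :
    ∃ r : ℕ, Nonempty (Dec G (Fin r)) := sorry

/-- NODE W -/
theorem nodeW {S S' : Scheme.{u}} (f : S' ⟶ S) {X' : Over S'} {R : Over S} (q : Red.bc f R ⟶ X')
    (h : ∀ s : S, ∃ (V : Scheme.{u}) (v : V ⟶ S), Etale v ∧ s ∈ Set.range v ∧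
      ∀ T : Over V, Function.Bijective (WeilRes.restr f q ((Over.map v).obj T))) :
    WeilRes.IsWeilRes f X' R q := sorry

end K216.PlanDec
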