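import Mathlib.LinearAlgebra.Basis.VectorSpace
import Mathlib.SetTheory.Cardinal.Finite

/-!
# Avoiding finitely many proper subspaces
-/

set_option autoImplicit false

namespace K216.VecCover

/-- Finitely many proper subspaces do not cover a vector space if their number is at most the number of elements
of the field. -/
theorem exists_notMem {κ V ι : Type*} [Field κ] [AddCommGroup V] [Module κ V] (s : Finset ι)
    (H : ι → Submodule κ V) (hH : ∀ i ∈ s, H i ≠ ⊤) (hcard : Infinite κ ∨ s.card ≤ Nat.card κ) :
    ∃ v, ∀ i ∈ s, v ∉ H i := by
  classical
  induction s using Finset.induction_on with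
  | empty => exact ⟨0, by simp⟩
  | insert i s hi ih =>
    have hcard' : Infinite κ ∨ s.card + 1 ≤ Nat.card κ := by
      rcases hcard with h | h
      · exact Or.inl h
      · right
        rwa [Finset.card_insert_of_notMem hi] at h
    obtain ⟨v, hv⟩ := ih (fun j hj => hH j (Finset.mem_insert_of_mem hj))
      (hcard'.imp id (fun h => by omega))
    by_cases hvi : v ∈ H i
    · obtain ⟨w, hw⟩ : ∃ w, w ∉ H i := by
        by_contra hcon
        push Not at hcon
        exact hH i (Finset.mem_insert_self _ _) (eq_top_iff.2 fun x _ => hcon x)
      by_contra hcon
      push Not at hcon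
      have key : ∀ l : κ, ∃ j ∈ s, w + l • v ∈ H j := by
        intro l
        obtain ⟨j, hj, hjl⟩ := hcon (w + l • v)
        rcases Finset.mem_insert.1 hj with rfl | hj'
        · exfalso
          apply hw
          have := (H j).sub_mem hjl ((H j).smul_mem l hvi)
          rwa [add_sub_cancel_right] at this
        · exact ⟨j, hj', hjl⟩
      choose f hf1 hf2 using key
      let g : κ → s := fun l => ⟨f l, hf1 l⟩
      have hg : Function.Injective g := by
        intro l l' hll
        by_contra hne
        have h1 : f l = f l' := congrArg Subtype.val hll
        have h2 := hf2 l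
        rw [h1] at h2
        have h3 := (H (f l')).sub_mem h2 (hf2 l')
        have h4 : w + l • v - (w + l' • v) = (l - l') • v := by
          rw [sub_smul]
          abel
        rw [h4] at h3
        have h5 := (H (f l')).smul_mem (l - l')⁻¹ h3
        rw [smul_smul, inv_mul_cancel₀ (sub_ne_zero.2 hne), one_smul] at h5
        exact hv (f l') (hf1 l') h5
      have hfin : Finite κ := Finite.of_injective g hg
      rcases hcard' with h | h
      · exact not_finite κ
      · have h6 := Nat.card_le_card_of_injective g hg
        have h7 : Nat.card s = s.card := by simp
        omega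
    · refine ⟨v, fun j hj => ?_⟩
      rcases Finset.mem_insert.1 hj with rfl | hj'
      · exact hvi
      · exact hv j hj'

end K216.VecCover
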