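import Groth.Agent.Sga3B.MT.Main
import Groth.Agent.Red.K216.VecCover

/-!
# Regular infinitesimal automorphisms which are trivial on a given maximal torus

`κ → K` a field with an algebraically closed extension, `A` an affine group functor over `R`, `τ` the universal
point of a torus `T₀` of `G_κ` whose base change to `K` is the torus of split cell data, up to conjugation by `g₁`.
If `κ` is infinite or has at least as many elements as there are roots then there is an infinitesimal automorphism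
of `G_κ` trivial on `T₀` which becomes regular over `K`.
-/

set_option autoImplicit false
set_option linter.unusedSectionVars false
universe u

open TensorProduct TrivSqZeroExt
open Groth.Agent.Sga3B.Cell Groth.Agent.Sga3B.MT

namespace K216.RegTorus

section triv

variable {R A : Type u} [CommRing R] [CommRing A] [Algebra R A] [PtGrp R A]
  {B C D : Type u} [CommRing B] [Algebra R B] [CommRing C] [Algebra R C] [CommRing D] [Algebra R D]

/-- the infinitesimal automorphism `x` fixes the point `τ` -/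
def Triv (φ : B →ₐ[R] C) (τ : Pt R A C) (x : InfAut R A B) : Prop := x.app φ τ = Pt.map (eInl R C) τ

lemma triv_iff (φ : B →ₐ[R] C) (τ : Pt R A C) (x : InfAut R A B) :
    Triv φ τ x ↔ ∀ f, evp φ τ (x.1 f) = 0 := by
  constructor
  · intro h f
    have h1 := congrArg (fun k : Pt R A (Eps C) => (k.hom f).snd) h
    simpa using h1
  · intro h
    apply Pt.ext
    intro f
    ext
    · simp
    · simp [h f]

lemma Triv.map {φ : B →ₐ[R] C} {τ : Pt R A C} {x : InfAut R A B} (h : Triv φ τ x) (ψ : C →ₐ[R] D) :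
    Triv (ψ.comp φ) (Pt.map ψ τ) x := by
  have h1 := congrArg (Pt.map (eMap ψ)) h
  rw [InfAut.app_nat, Pt.map_map, eMap_comp_eInl, ← Pt.map_map] at h1
  exact h1

lemma triv_map_iff (χ : B →ₐ[R] C) (ψ : C →ₐ[R] D) (τ : Pt R A D) (x : InfAut R A B) :
    Triv ψ τ (InfAut.map χ x) ↔ Triv (ψ.comp χ) τ x := by
  unfold Triv
  rw [InfAut.app_map]

lemma Triv.Ad {φ : B →ₐ[R] C} {h : Pt R A C} {g : Pt R A B} {x : InfAut R A B}
    (hx : Triv φ ((Pt.map φ g)⁻¹ * h * Pt.map φ g) x) : Triv φ h (InfAut.Ad g x) := by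
  have e : InfAut.inlPt φ g = Pt.map (eInl R C) (Pt.map φ g) := by
    rw [InfAut.inlPt, Pt.map_map]
  have e2 : (Pt.map (eInl R C) (Pt.map φ g))⁻¹ = Pt.map (eInl R C) (Pt.map φ g)⁻¹ := (Pt.map_inv _ _).symm
  unfold Triv
  rw [InfAut.app_Ad, hx, e, e2, ← Pt.map_mul, ← Pt.map_mul]
  congr 1
  group

lemma triv_zero (φ : B →ₐ[R] C) (τ : Pt R A C) : Triv φ τ 0 := by
  rw [triv_iff]
  intro f
  simp

lemma Triv.add {φ : B →ₐ[R] C} {τ : Pt R A C} {x y : InfAut R A B} (hx : Triv φ τ x) (hy : Triv φ τ y) :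
    Triv φ τ (x + y) := by
  rw [triv_iff] at *
  intro f
  rw [InfAut.val_add, LinearMap.add_apply, map_add, hx, hy, add_zero]

lemma evp_smul (φ : B →ₐ[R] C) (τ : Pt R A C) (b : B) (z : B ⊗[R] A) : evp φ τ (b • z) = φ b * evp φ τ z := by
  have : b • z = (b ⊗ₜ[R] (1 : A)) * z := by
    induction z using TensorProduct.induction_on with
    | zero => simp
    | tmul x y => simp [TensorProduct.smul_tmul']
    | add x y hx hy => rw [smul_add, hx, hy, mul_add]
  rw [this, map_mul, evp_tmul, map_one, mul_one]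

lemma Triv.smul {φ : B →ₐ[R] C} {τ : Pt R A C} {x : InfAut R A B} (b : B) (hx : Triv φ τ x) :
    Triv φ τ (b • x) := by
  rw [triv_iff] at *
  intro f
  rw [InfAut.val_smul, LinearMap.smul_apply, evp_smul, hx, mul_zero]

variable (A) in
/-- the infinitesimal automorphisms fixing `τ` -/
noncomputable def trivSub (φ : B →ₐ[R] C) (τ : Pt R A C) : Submodule B (InfAut R A B) where
  carrier := {x | Triv φ τ x}
  zero_mem' := triv_zero φ τ
  add_mem' := fun hx hy => Triv.add hx hy
  smul_mem' := fun b _ hx => Triv.smul b hx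

lemma mem_trivSub (φ : B →ₐ[R] C) (τ : Pt R A C) (x : InfAut R A B) : x ∈ trivSub A φ τ ↔ Triv φ τ x := Iff.rfl

end triv

section diag

variable {idx M : Type} [Fintype idx] [AddCommGroup M] [Module.Free ℤ M] [Module.Finite ℤ M]
variable {P : RootPairing idx ℤ M (Module.Dual ℤ M)} {b : P.Base}
    {R A B₀ B : Type u} [CommRing R] [CommRing A] [Algebra R A] [CommRing B₀] [Algebra R B₀] [PtGrp R A]
    [CommRing B] [Algebra R B]
variable {F : RCell P b R A B₀} {φ : B₀ →ₐ[R] B}

lemma isDiag_add {c c' : P.rootSpan ℤ →+ B} {x y : InfAut R A B} (hx : F.IsDiag φ c x) (hy : F.IsDiag φ c' y) :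
    F.IsDiag φ (c + c') (x + y) := by
  apply RCell.IsDiag'.isDiag
  exact hx.isDiag'.add hy.isDiag'

lemma isDiag_sum {ι : Type*} (s : Finset ι) (c : ι → P.rootSpan ℤ →+ B) (x : ι → InfAut R A B)
    (h : ∀ i ∈ s, F.IsDiag φ (c i) (x i)) : F.IsDiag φ (∑ i ∈ s, c i) (∑ i ∈ s, x i) := by
  classical
  induction s using Finset.induction_on with
  | empty => exact RCell.isDiag_zero
  | insert i s hi ih =>
    rw [Finset.sum_insert hi, Finset.sum_insert hi]
    exact isDiag_add (h i (Finset.mem_insert_self i s)) (ih fun j hj => h j (Finset.mem_insert_of_mem hj))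

/-- multiples of a linear form -/
def smulHom (r : B) (c : P.rootSpan ℤ →+ B) : P.rootSpan ℤ →+ B := (AddMonoidHom.mulLeft r).comp c

lemma isDiag_smul {c : P.rootSpan ℤ →+ B} {x : InfAut R A B} (hx : F.IsDiag φ c x) (r : B) :
    F.IsDiag φ (smulHom r c) (r • x) := by
  refine ⟨fun {B'} _ _ ψ t => ?_, fun a {B'} _ _ ψ z => ?_⟩
  · rw [InfAut.app_smul, hx.1, Pt.map_map]
    congr 1
    ext b <;> simp
  · rw [InfAut.app_smul, hx.2, F.uu_nat]
    have h1 : (eScale R (ψ r)).comp ((eInl R B').comp (ψ.comp φ)) = (eInl R B').comp (ψ.comp φ) := by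
      ext b <;> simp
    rw [h1]
    congr 1
    ext
    · simp
    · simp [smulHom, mul_assoc]

lemma isDiag_unique {c c' : P.rootSpan ℤ →+ B} {x : InfAut R A B} (hx : F.IsDiag φ c x) (hy : F.IsDiag φ c' x) :
    c = c' :=
  (F.inn_unique (φ := φ) (z := 0) (z' := 0) hx hy rfl).2.1

end diag

section expand

variable {R A : Type u} [CommRing R] [CommRing A] [Algebra R A] [PtGrp R A] [Algebra.FinitePresentation R A]
  {κ K : Type u} [Field κ] [Field K] [Algebra R κ] [Algebra R K]

theorem exists_expansion [Algebra κ K] (j : κ →ₐ[R] K) (hj : ∀ r, algebraMap κ K r = j r) {ι : Type*}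
    (ℬ : Module.Basis ι κ K) (x : InfAut R A K) :
    ∃ v : ι →₀ InfAut R A κ, x = v.sum fun i v => ℬ i • InfAut.map j v := by
  classical
  have hfl : j.toRingHom.Flat := by
    have : algebraMap κ K = j.toRingHom := RingHom.ext hj
    rw [← this]
    exact (RingHom.flat_algebraMap_iff).2 inferInstance
  have key : ∀ x ∈ Submodule.span K (Set.range (InfAut.map (A := A) j)), ∀ l : K,
      ∃ v : ι →₀ InfAut R A κ, l • x = v.sum fun i v => ℬ i • InfAut.map j v := by
    intro x hx
    induction hx using Submodule.span_induction with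
    | mem x hx =>
      obtain ⟨w, rfl⟩ := hx
      intro l
      refine ⟨(ℬ.repr l).mapRange (fun r => r • w) (zero_smul _ _), ?_⟩
      rw [Finsupp.sum_mapRange_index (by intro i; rw [map_zero, smul_zero])]
      conv_lhs => rw [← ℬ.linearCombination_repr l, Finsupp.linearCombination_apply, Finsupp.sum, Finset.sum_smul]
      refine Finset.sum_congr rfl fun i _ => ?_
      change ((ℬ.repr l) i • ℬ i) • InfAut.map j w = ℬ i • InfAut.map j ((ℬ.repr l) i • w)
      rw [InfAut.map_smul, Algebra.smul_def, hj, mul_comm, mul_smul]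
    | zero => exact fun l => ⟨0, by simp⟩
    | add x y _ _ hx hy =>
      intro l
      obtain ⟨v, hv⟩ := hx l
      obtain ⟨w, hw⟩ := hy l
      refine ⟨v + w, ?_⟩
      rw [smul_add, hv, hw, Finsupp.sum_add_index' (by intro i; rw [map_zero, smul_zero])
        (by intro i a b; rw [map_add, smul_add])]
    | smul r x _ hx =>
      intro l
      obtain ⟨v, hv⟩ := hx (l * r)
      exact ⟨v, by rw [smul_smul, hv]⟩
  obtain ⟨v, hv⟩ := key x (InfAut.mem_span_of_flat j hfl x) 1
  exact ⟨v, by rw [← hv, one_smul]⟩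

end expand

section main

variable {idx M : Type} [Fintype idx] [AddCommGroup M] [Module.Free ℤ M] [Module.Finite ℤ M]
variable {P : RootPairing idx ℤ M (Module.Dual ℤ M)} {b : P.Base}
    {R A : Type u} [CommRing R] [CommRing A] [Algebra R A] [PtGrp R A] [Algebra.Smooth R A]
    [Algebra.FinitePresentation R A]
    {κ K C₀ : Type u} [Field κ] [Field K] [Algebra R κ] [Algebra R K] [CommRing C₀] [Algebra R C₀]

theorem exists_reg (hdom : Groth.Agent.Sga3B.MT.GeomDom R A) (j : κ →ₐ[R] K) (F : RCell P b R A K) (g₁ : Pt R A K)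
    (φ₀ : κ →ₐ[R] C₀) (τ : Pt R A C₀)
    (hT₁ : ∀ {B : Type u} [CommRing B] [Algebra R B] (ψ : K →ₐ[R] B) (θ : C₀ →ₐ[R] B),
      θ.comp φ₀ = ψ.comp j → F.TorAt ψ (Pt.map ψ g₁) (Pt.map θ τ))
    (hT₂ : ∀ {B : Type u} [CommRing B] [Algebra R B] (ψ : K →ₐ[R] B) (h : Pt R A B),
      F.TorAt ψ (Pt.map ψ g₁) h → ∃ θ : C₀ →ₐ[R] B, θ.comp φ₀ = ψ.comp j ∧ Pt.map θ τ = h)
    (hcard : Infinite κ ∨ Fintype.card idx ≤ Nat.card κ) :
    ∃ (x₀ : InfAut R A κ) (c : P.rootSpan ℤ →+ K) (y : InfAut R A K), F.IsDiag (AlgHom.id R K) c y ∧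
      (∀ a, IsUnit (c (P.rootSpanMem ℤ a))) ∧ InfAut.map j x₀ = InfAut.Ad g₁ y := by
  classical
  -- the linear form attached to an infinitesimal automorphism trivial on the torus
  have key : ∀ x : trivSub A φ₀ τ, ∃ c : P.rootSpan ℤ →+ K,
      F.IsDiag (AlgHom.id R K) c (InfAut.Ad g₁⁻¹ (InfAut.map j x.1)) := by
    intro x
    refine F.exists_isDiag_of_torus hdom (AlgHom.id R K) _ fun {B'} _ _ ψ t => ?_
    change Triv ψ (F.i ψ t) _
    apply Triv.Ad
    rw [triv_map_iff]
    obtain ⟨θ, h1, h2⟩ := hT₂ ψ (Pt.map ψ g₁ * F.i ψ t * (Pt.map ψ g₁)⁻¹) ⟨t, rfl⟩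
    have h3 : (Pt.map ψ g₁⁻¹)⁻¹ * F.i ψ t * Pt.map ψ g₁⁻¹ = Pt.map θ τ := by
      rw [h2, Pt.map_inv, inv_inv]
    rw [h3, ← h1]
    exact Triv.map x.2 θ
  choose c hc using key
  have hadd : ∀ x y : trivSub A φ₀ τ, c (x + y) = c x + c y := by
    intro x y
    refine isDiag_unique (hc (x + y)) ?_
    have h1 := isDiag_add (hc x) (hc y)
    rwa [← InfAut.Ad_add, ← map_add] at h1
  have hsmul : ∀ (r : κ) (x : trivSub A φ₀ τ), c (r • x) = smulHom (j r) (c x) := by
    intro r x
    refine isDiag_unique (hc (r • x)) ?_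
    have h1 := isDiag_smul (hc x) (j r)
    rwa [← InfAut.Ad_smul, ← InfAut.map_smul] at h1
  have hzero : c 0 = 0 := by
    have h1 := hadd 0 0
    rw [add_zero] at h1
    exact left_eq_add.1 h1
  let H : idx → Submodule κ (trivSub A φ₀ τ) := fun a =>
    { carrier := {x | c x (P.rootSpanMem ℤ a) = 0}
      zero_mem' := by
        change c 0 _ = 0
        rw [hzero]
        rfl
      add_mem' := by
        intro x y hx hy
        change c (x + y) _ = 0
        rw [hadd, AddMonoidHom.add_apply]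
        have hx' : c x (P.rootSpanMem ℤ a) = 0 := hx
        have hy' : c y (P.rootSpanMem ℤ a) = 0 := hy
        rw [hx', hy', add_zero]
      smul_mem' := by
        intro r x hx
        change c (r • x) _ = 0
        have hx' : c x (P.rootSpanMem ℤ a) = 0 := hx
        rw [hsmul]
        change j r * c x _ = 0
        rw [hx', mul_zero] }
  have hH : ∀ a ∈ (Finset.univ : Finset idx), H a ≠ ⊤ := by
    intro a _ htop
    obtain ⟨c₀, hc₀⟩ := RegForm.exists_ne_zero b K a
    obtain ⟨y, hy⟩ := F.exists_diag hdom (AlgHom.id R K) c₀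
    -- expansion in a basis
    let _ : Algebra κ K := j.toRingHom.toAlgebra
    let ℬ := Module.Basis.ofVectorSpace κ K
    obtain ⟨v, hv⟩ := exists_expansion j (fun r => rfl) ℬ (InfAut.Ad g₁ y)
    let _ : Algebra κ C₀ := φ₀.toRingHom.toAlgebra
    have hRκK : IsScalarTower R κ K := IsScalarTower.of_algebraMap_eq' j.comp_algebraMap.symm
    have hRκC : IsScalarTower R κ C₀ := IsScalarTower.of_algebraMap_eq' φ₀.comp_algebraMap.symm
    let CK := K ⊗[κ] C₀
    let ψ : K →ₐ[R] CK := (Algebra.TensorProduct.includeLeft : K →ₐ[κ] CK).restrictScalars R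
    let θ : C₀ →ₐ[R] CK := (Algebra.TensorProduct.includeRight : C₀ →ₐ[κ] CK).restrictScalars R
    have hθψ : θ.comp φ₀ = ψ.comp j := by
      apply AlgHom.ext
      intro r
      change (Algebra.TensorProduct.includeRight : C₀ →ₐ[κ] CK) (algebraMap κ C₀ r) =
        (Algebra.TensorProduct.includeLeft : K →ₐ[κ] CK) (algebraMap κ K r)
      rw [AlgHom.commutes, AlgHom.commutes]
    have htriv : Triv ψ (Pt.map θ τ) (InfAut.Ad g₁ y) := by
      apply Triv.Ad
      obtain ⟨t, ht⟩ := hT₁ ψ θ hθψ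
      have h1 : (Pt.map ψ g₁)⁻¹ * Pt.map θ τ * Pt.map ψ g₁ = F.i ψ t := by
        rw [ht]
        group
      rw [h1]
      exact hy.1 ψ t
    -- the coefficients are trivial on the torus
    have hvt : ∀ i, v i ∈ trivSub A φ₀ τ := by
      have h1 := (triv_iff _ _ _).1 htriv
      intro i
      rw [mem_trivSub, triv_iff]
      intro f
      have h2 := h1 f
      have h3 : ∀ (r : K) (w : InfAut R A κ), evp ψ (Pt.map θ τ) ((r • InfAut.map j w).1 f) =
          r ⊗ₜ[κ] evp φ₀ τ (w.1 f) := by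
        intro r w
        rw [InfAut.val_smul, LinearMap.smul_apply, evp_smul, InfAut.map_val]
        have h4 : evp ψ (Pt.map θ τ) (Algebra.TensorProduct.map j (AlgHom.id R A) (w.1 f)) =
            θ (evp φ₀ τ (w.1 f)) := by
          generalize w.1 f = z
          induction z using TensorProduct.induction_on with
          | zero => simp
          | tmul p q =>
            rw [Algebra.TensorProduct.map_tmul, evp_tmul, evp_tmul, map_mul, AlgHom.id_apply,
              Pt.map_hom_apply]
            congr 1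
            exact (DFunLike.congr_fun hθψ p).symm
          | add x y hx hy => rw [map_add, map_add, map_add, map_add, hx, hy]
        rw [h4]
        change (r ⊗ₜ[κ] (1 : C₀)) * ((1 : K) ⊗ₜ[κ] evp φ₀ τ (w.1 f)) = _
        rw [Algebra.TensorProduct.tmul_mul_tmul, mul_one, one_mul]
      rw [hv] at h2
      have h5 : evp ψ (Pt.map θ τ) ((v.sum fun i v => ℬ i • InfAut.map j v).1 f) =
          v.sum fun i w => ℬ i ⊗ₜ[κ] evp φ₀ τ (w.1 f) := by
        let ev : InfAut R A K →+ CK :=
          { toFun := fun x => evp ψ (Pt.map θ τ) (x.1 f)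
            map_zero' := by simp
            map_add' := fun x y => by
              rw [InfAut.val_add, LinearMap.add_apply, map_add] }
        change ev (v.sum _) = _
        rw [map_finsuppSum]
        refine Finset.sum_congr rfl fun i _ => ?_
        exact h3 _ _
      rw [h5] at h2
      let w : Module.Basis.ofVectorSpaceIndex κ K →₀ C₀ := v.mapRange (fun w => evp φ₀ τ (w.1 f)) (by simp)
      have h6 : w.sum (fun i m => ℬ i ⊗ₜ[κ] m) = 0 := by
        rw [Finsupp.sum_mapRange_index (by intro i; rw [TensorProduct.tmul_zero])]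
        exact h2
      have h7 := TensorProduct.sum_tmul_basis_left_eq_zero ℬ w h6
      exact DFunLike.congr_fun h7 i
    -- the value of the form at `a`
    have hyv : y = ∑ i ∈ v.support, ℬ i • InfAut.Ad g₁⁻¹ (InfAut.map j (v i)) := by
      have h1 := congrArg (InfAut.Ad g₁⁻¹) hv
      rw [InfAut.Ad_inv_Ad] at h1
      rw [h1]
      let ad : InfAut R A K →+ InfAut R A K := AddMonoidHom.mk' (InfAut.Ad g₁⁻¹) (InfAut.Ad_add g₁⁻¹)
      change ad (v.sum _) = _
      rw [map_finsuppSum]
      refine Finset.sum_congr rfl fun i _ => ?_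
      exact InfAut.Ad_smul _ _ _
    have hdiag := isDiag_sum v.support (fun i => smulHom (ℬ i) (c ⟨v i, hvt i⟩))
      (fun i => ℬ i • InfAut.Ad g₁⁻¹ (InfAut.map j (v i))) (fun i _ => isDiag_smul (hc ⟨v i, hvt i⟩) (ℬ i))
    rw [← hyv] at hdiag
    apply hc₀
    rw [isDiag_unique hy hdiag, AddMonoidHom.finset_sum_apply]
    refine Finset.sum_eq_zero fun i _ => ?_
    have h1 : (⟨v i, hvt i⟩ : trivSub A φ₀ τ) ∈ H a := by rw [htop]; trivial
    have h2 : c ⟨v i, hvt i⟩ (P.rootSpanMem ℤ a) = 0 := h1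
    change ℬ i * c ⟨v i, hvt i⟩ (P.rootSpanMem ℤ a) = 0
    rw [h2, mul_zero]
  obtain ⟨x, hx⟩ := VecCover.exists_notMem Finset.univ H hH (by
    rwa [Finset.card_univ])
  refine ⟨x.1, c x, _, hc x, fun a => ?_, ?_⟩
  · exact isUnit_iff_ne_zero.2 (hx a (Finset.mem_univ a))
  · rw [InfAut.Ad_Ad_inv]

end main

end K216.RegTorus
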