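import Groth.Agent.Red.K216.ValMain

/-!
# Tori over henselizations of valuation rings: geometric form
-/

set_option autoImplicit false
set_option linter.unusedSectionVars false
universe u

open CategoryTheory MonoidalCategory CartesianMonoidalCategory MonObj GrpObj AlgebraicGeometry
open Groth.Agent.Books.AffBridge Groth.Agent.Sga3B
open WithConv

namespace K216.ValGeom

theorem main (V : Type u) [CommRing V] [IsDomain V]
    [ValuationRing V] (n : ℕ) (hn : 0 < n) (hV : ringKrullDim V = n) (p : Ideal V) [p.IsPrime]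
    (hp : p.height = n - 1) (a : V) (ha : a ∈ IsLocalRing.maximalIdeal V) (hap : a ∉ p)
    (Vh : Type u) [CommRing Vh] [IsLocalRing Vh] [Algebra V Vh] [IsLocalHom (algebraMap V Vh)]
    [Hensel.IsHenselization V Vh]
    (T : Over (Spec (CommRingCat.of V))) [GrpObj T] (hT : Red.IsTorus T)
    (x : Spec (CommRingCat.of (Localization.Away (algebraMap V Vh a))) ⟶ T.left)
    (hx : x ≫ T.hom = Spec.map (CommRingCat.ofHom (algebraMap V (Localization.Away (algebraMap V Vh a))))) :
    ∃ (y : Spec (CommRingCat.of (Localization.Away a)) ⟶ T.left) (z : Spec (CommRingCat.of Vh) ⟶ T.left)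
      (h : Spec (CommRingCat.of (Localization.Away (algebraMap V Vh a))) ⟶ (T ⊗ T).left),
      y ≫ T.hom = Spec.map (CommRingCat.ofHom (algebraMap V (Localization.Away a))) ∧
      z ≫ T.hom = Spec.map (CommRingCat.ofHom (algebraMap V Vh)) ∧
      h ≫ (fst T T).left = Spec.map (CommRingCat.ofHom (Localization.awayMap (algebraMap V Vh) a)) ≫ y ∧
      h ≫ (snd T T).left = Spec.map (CommRingCat.ofHom (algebraMap Vh (Localization.Away (algebraMap V Vh a)))) ≫ z ∧
      x = h ≫ (μ[T]).left := by
  have hTa : IsAffineHom T.hom := TorusAlgClosed.isAffineHom_of_isTorus hT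
  have : IsAffine T.left := isAffine_of_isAffineHom T.hom
  obtain ⟨A, _, _, i, hi⟩ := AffHopf.exists_hopf T
  have he : IsMonHom i.symm.hom := inferInstanceAs (IsMonHom i.inv)
  have hiso : SGA3b.IsIsotrivial V A := K672.AnisoTor.isIsotrivial hT i.symm
  have hft : Algebra.FiniteType V A := by
    have : Smooth T.hom := TorusAlgClosed.smooth_of_isTorus hT
    have : Algebra.Smooth V A := AffHopf.smooth_of_iso i
    infer_instance
  let Sa := Localization.Away (algebraMap V Vh a)
  let jR : Localization.Away a →ₐ[V] Sa :=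
    { toRingHom := Localization.awayMap (algebraMap V Vh) a
      commutes' := fun v => by
        change Localization.awayMap (algebraMap V Vh) a (algebraMap V _ v) = algebraMap V Sa v
        rw [IsScalarTower.algebraMap_apply V Vh Sa]
        exact IsLocalization.map_eq _ v }
  let X : SpecOver V Sa ⟶ T := Over.homMk x hx
  let X' : SpecOver V Sa ⟶ SpecOver V A := X ≫ i.inv
  obtain ⟨y, z, hyz⟩ := ValMain.exists_points hiso n hn hV p hp a ha hap Vh jR (specPreimage V X')
  have h1 : X' = (specMap V jR ≫ specMap V y) *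
      (specMap V (IsScalarTower.toAlgHom V Vh Sa) ≫ specMap V z) := by
    have h2 := congrArg (fun f => specMap V (ofConv f)) hyz
    dsimp only at h2
    rw [ofConv_toConv, specMap_specPreimage] at h2
    have h3 := specMap_mul (k := V) (toConv (jR.comp y)) (toConv ((IsScalarTower.toAlgHom V Vh Sa).comp z))
    rw [ofConv_toConv, ofConv_toConv, specMap_comp, specMap_comp] at h3
    exact h2.trans h3
  have h2 : X = (specMap V jR ≫ specMap V y ≫ i.hom) *
      (specMap V (IsScalarTower.toAlgHom V Vh Sa) ≫ specMap V z ≫ i.hom) := by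
    have h3 : X = X' ≫ i.hom := by simp [X']
    rw [h3, h1, Hom.mul_def, Hom.mul_def, Category.assoc, IsMonHom.mul_hom, lift_map_assoc, Category.assoc,
      Category.assoc]
  let Y : SpecOver V (Localization.Away a) ⟶ T := specMap V y ≫ i.hom
  let Z : SpecOver V Vh ⟶ T := specMap V z ≫ i.hom
  let H : SpecOver V Sa ⟶ T ⊗ T := lift (specMap V jR ≫ Y) (specMap V (IsScalarTower.toAlgHom V Vh Sa) ≫ Z)
  refine ⟨Y.left, Z.left, H.left, Over.w Y, Over.w Z, ?_, ?_, ?_⟩
  · exact congrArg (fun f => f.left) (lift_fst (specMap V jR ≫ Y) (specMap V (IsScalarTower.toAlgHom V Vh Sa) ≫ Z))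
  · exact congrArg (fun f => f.left) (lift_snd (specMap V jR ≫ Y) (specMap V (IsScalarTower.toAlgHom V Vh Sa) ≫ Z))
  · have h3 : X = H ≫ μ[T] := h2
    exact congrArg (fun f => f.left) h3

end K216.ValGeom
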