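import Groth.Agent.Red.K216.ValTorus
import Groth.Agent.Red.K216.GalCover
import Groth.Agent.S0509
import Mathlib.RingTheory.QuasiFinite.Basic
import Mathlib.RingTheory.Unramified.Field
import Mathlib.LinearAlgebra.TensorProduct.Quotient
import Mathlib.RingTheory.Ideal.KrullsHeightTheorem

/-!
# Verification of the hypotheses
-/

set_option autoImplicit false
set_option linter.unusedSectionVars false
universe u

open IsLocalRing TensorProduct

namespace K216.ValGood
open K216.ValLoc K216.ValLift K216.ValHens

section etale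

variable {V V' : Type u} [CommRing V] [IsLocalRing V] [CommRing V'] [Algebra V V'] [Algebra.Etale V V']
  [Module.Finite V V']

lemma under_eq (n : Ideal V') [n.IsMaximal] : n.comap (algebraMap V V') = maximalIdeal V :=
  eq_maximalIdeal (Ideal.isMaximal_comap_of_isIntegral_of_isMaximal n)

lemma le_max (n : MaximalSpectrum V') : (maximalIdeal V).map (algebraMap V V') ≤ n.asIdeal := by
  have := n.isMaximal
  rw [Ideal.map_le_iff_le_comap, under_eq]

variable (V V') in
include V in
lemma finite_max : Finite (MaximalSpectrum V') := by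
  have h1 : ((maximalIdeal V).primesOver V').Finite := Algebra.QuasiFinite.finite_primesOver _
  have := h1.to_subtype
  let f : MaximalSpectrum V' → (maximalIdeal V).primesOver V' := fun n =>
    ⟨n.asIdeal, n.isMaximal.isPrime, ⟨by
      have := n.isMaximal
      exact (under_eq n.asIdeal).symm⟩⟩
  apply Finite.of_injective f
  intro n n' h
  exact MaximalSpectrum.ext (congrArg Subtype.val h)

lemma rad (x : V') (hx : ∀ n : MaximalSpectrum V', x ∈ n.asIdeal) :
    x ∈ (maximalIdeal V).map (algebraMap V V') := by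
  let k := V ⧸ maximalIdeal V
  let _ : Field k := Ideal.Quotient.field _
  have hred : IsReduced (k ⊗[V] V') := Algebra.FormallyUnramified.isReduced_of_field k (k ⊗[V] V')
  have h1 : ((1 : k) ⊗ₜ[V] x) = 0 := by
    apply IsReduced.eq_zero
    rw [← mem_nilradical, nilradical_eq_sInf, Ideal.mem_sInf]
    intro P hP
    have hP' : P.IsPrime := hP
    have hPm : P.IsMaximal := by
      have : Algebra.IsIntegral k (k ⊗[V] V') := inferInstance
      have hc : (P.comap (algebraMap k (k ⊗[V] V'))).IsMaximal := by
        have : (P.comap (algebraMap k (k ⊗[V] V'))) = ⊥ :=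
          (Ideal.eq_bot_or_top _).resolve_right (Ideal.comap_ne_top _ hP'.ne_top)
        rw [this]
        exact Ideal.bot_isMaximal
      exact Ideal.isMaximal_of_isIntegral_of_isMaximal_comap P hc
    let j : V' →+* k ⊗[V] V' := (Algebra.TensorProduct.includeRight : V' →ₐ[V] k ⊗[V] V').toRingHom
    have hj : (P.comap j).IsMaximal := by
      have : (P.comap j).IsPrime := Ideal.IsPrime.comap j
      apply Ideal.isMaximal_of_isIntegral_of_isMaximal_comap (R := V) (P.comap j)
      rw [Ideal.comap_comap]
      have h2 : j.comp (algebraMap V V') = (algebraMap k (k ⊗[V] V')).comp (algebraMap V k) := by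
        ext v
        change (1 : k) ⊗ₜ[V] algebraMap V V' v = (algebraMap V k v) ⊗ₜ[V] 1
        rw [Algebra.algebraMap_eq_smul_one, Algebra.algebraMap_eq_smul_one, TensorProduct.smul_tmul]
      rw [h2, ← Ideal.comap_comap]
      have h3 : (P.comap (algebraMap k (k ⊗[V] V'))) = ⊥ :=
        (Ideal.eq_bot_or_top _).resolve_right (Ideal.comap_ne_top _ hP'.ne_top)
      rw [h3]
      change (Ideal.comap (Ideal.Quotient.mk (maximalIdeal V)) ⊥).IsMaximal
      rw [← RingHom.ker_eq_comap_bot, Ideal.mk_ker]
      infer_instance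
    exact hx ⟨P.comap j, hj⟩
  have h2 := congrArg (TensorProduct.quotTensorEquivQuotSMul V' (maximalIdeal V)) h1
  rw [map_zero, TensorProduct.quotTensorEquivQuotSMul_mk_one_tmul, Submodule.Quotient.mk_eq_zero,
    Ideal.smul_top_eq_map] at h2
  exact h2

end etale

section nil

variable {V : Type u} [CommRing V] [IsDomain V] [ValuationRing V]

theorem nil (n : ℕ) (hn : 0 < n) (hV : ringKrullDim V = n) (p : Ideal V) [p.IsPrime]
    (hp : p.height = n - 1) (a : V) (hap : a ∉ p) (x : V) (hx : x ∈ maximalIdeal V) : ∃ k, a ∣ x ^ k := by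
  have h1 : x ∈ (Ideal.span {a}).radical := by
    rw [Ideal.radical_eq_sInf, Ideal.mem_sInf]
    rintro P ⟨hP, hPp⟩
    have haP : a ∈ P := hP (Ideal.mem_span_singleton_self a)
    by_contra hxP
    have hpP : p < P := by
      refine lt_of_le_of_ne ?_ fun h => hap (h ▸ haP)
      rcases total_of (α := Ideal V) (· ≤ ·) p P with h | h
      · exact h
      · exact absurd (h haP) hap
    have hPm : P < maximalIdeal V := lt_of_le_of_ne (le_maximalIdeal hPp.ne_top) fun h => hxP (h ▸ hx)
    have h2 : p.height + 1 ≤ P.height := Ideal.height_add_one_le_of_lt_of_isPrime hpP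
    have h3 : P.height + 1 ≤ (maximalIdeal V).height := Ideal.height_add_one_le_of_lt_of_isPrime hPm
    have h4 : ((maximalIdeal V).height : WithBot ℕ∞) = n := by
      rw [IsLocalRing.maximalIdeal_height_eq_ringKrullDim, hV]
    have h5 : (maximalIdeal V).height = n := by exact_mod_cast h4
    rw [hp] at h2
    rw [h5] at h3
    obtain ⟨m, rfl⟩ : ∃ m, n = m + 1 := ⟨n - 1, (Nat.sub_add_cancel hn).symm⟩
    have h6 : ((m + 1 : ℕ) : ℕ∞) ≤ P.height := by
      have h7 : (((m + 1 : ℕ) : ℕ∞) - 1) = m := by
        have := ENat.natCast_sub (m + 1) 1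
        rw [Nat.add_sub_cancel, Nat.cast_one] at this
        exact this.symm
      rw [h7] at h2
      exact_mod_cast h2
    have h8 : ((m + 2 : ℕ) : ℕ∞) ≤ ((m + 1 : ℕ) : ℕ∞) := by
      refine le_trans ?_ h3
      have h9 : ((m + 2 : ℕ) : ℕ∞) = ((m + 1 : ℕ) : ℕ∞) + 1 := by push_cast; ring
      rw [h9]
      gcongr
    have h10 : m + 2 ≤ m + 1 := by exact_mod_cast h8
    omega
  obtain ⟨k, hk⟩ := h1
  exact ⟨k, Ideal.mem_span_singleton.1 hk⟩

end nil

end K216.ValGood
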