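import Groth.Agent.Red.K216.ValLift
import Groth.Agent.Red.K216.HensQuot
import Mathlib.RingTheory.TensorProduct.Maps
import Mathlib.RingTheory.TensorProduct.Free
import Mathlib.RingTheory.Flat.Basic

/-!
# Units of `V' ⊗ V^h[1/a]`
-/

set_option autoImplicit false
set_option linter.unusedSectionVars false
universe u

open IsLocalRing TensorProduct

namespace K216.ValHens
open K216.ValLoc K216.ValLift

variable {V V' R' S Sa : Type*} [CommRing V] [CommRing V'] [Algebra V V'] [Module.Free V V']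
  [CommRing R'] [Algebra V' R'] [CommRing S] [Algebra V S] [CommRing Sa] [Algebra V Sa] [Algebra S Sa]
  [IsScalarTower V S Sa] (a : V) [IsLocalization.Away (algebraMap V V' a) R']
  [IsLocalization.Away (algebraMap V S a) Sa]

variable (V V' S Sa) in
/-- the localization map -/
noncomputable def iS : V' ⊗[V] S →ₐ[V'] V' ⊗[V] Sa :=
  Algebra.TensorProduct.map (AlgHom.id V' V') (IsScalarTower.toAlgHom V S Sa)

@[simp] lemma iS_tmul (v : V') (s : S) : iS V V' S Sa (v ⊗ₜ s) = v ⊗ₜ algebraMap S Sa s := rfl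

lemma isUnit_a (a : V) [IsLocalization.Away (algebraMap V S a) Sa] :
    IsUnit (algebraMap V' (V' ⊗[V] Sa) (algebraMap V V' a)) := by
  rw [← IsScalarTower.algebraMap_apply V V' (V' ⊗[V] Sa)]
  have h1 : algebraMap V (V' ⊗[V] Sa) a = (Algebra.TensorProduct.includeRight : Sa →ₐ[V] V' ⊗[V] Sa) (algebraMap V Sa a) := by
    rw [AlgHom.commutes]
  rw [h1, IsScalarTower.algebraMap_apply V S Sa]
  exact (IsLocalization.Away.algebraMap_isUnit (algebraMap V S a)).map _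

variable (V' R' Sa) in
/-- the map `V'[1/a] → V' ⊗ S[1/a]` -/
noncomputable def iR (S : Type*) [CommRing S] [Algebra V S] [Algebra S Sa] [IsScalarTower V S Sa]
    [IsLocalization.Away (algebraMap V S a) Sa] : R' →+* V' ⊗[V] Sa :=
  IsLocalization.Away.lift (algebraMap V V' a) (g := algebraMap V' (V' ⊗[V] Sa)) (isUnit_a (S := S) a)

lemma iR_algebraMap (x : V') : iR V' R' Sa a S (algebraMap V' R' x) = algebraMap V' (V' ⊗[V] Sa) x :=
  IsLocalization.Away.lift_eq _ _ _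

/-- denominators -/
lemma exists_denom (z : V' ⊗[V] Sa) : ∃ (k : ℕ) (s : V' ⊗[V] S),
    z * algebraMap V' (V' ⊗[V] Sa) (algebraMap V V' a) ^ k = iS V V' S Sa s := by
  have h0 : ∀ n : ℕ, algebraMap V' (V' ⊗[V] Sa) (algebraMap V V' a) ^ n =
      (1 : V') ⊗ₜ (algebraMap S Sa (algebraMap V S a) ^ n) := by
    intro n
    rw [← IsScalarTower.algebraMap_apply V V' (V' ⊗[V] Sa), ← IsScalarTower.algebraMap_apply V S Sa,
      ← AlgHom.commutes (Algebra.TensorProduct.includeRight : Sa →ₐ[V] V' ⊗[V] Sa), ← map_pow]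
    rfl
  induction z with
  | zero => exact ⟨0, 0, by simp⟩
  | add x y hx hy =>
    obtain ⟨k, s, hs⟩ := hx
    obtain ⟨l, t, ht⟩ := hy
    refine ⟨k + l, s * algebraMap V' _ (algebraMap V V' a) ^ l + t * algebraMap V' _ (algebraMap V V' a) ^ k, ?_⟩
    rw [map_add, map_mul, map_mul, map_pow, map_pow, AlgHom.commutes, ← hs, ← ht]
    ring
  | tmul v z =>
    obtain ⟨k, s, hs⟩ := IsLocalization.Away.surj (algebraMap V S a) z
    refine ⟨k, v ⊗ₜ s, ?_⟩
    rw [h0, Algebra.TensorProduct.tmul_mul_tmul, mul_one, iS_tmul, hs]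

lemma exists_sub' (hsub : ∀ (N : ℕ) (s : S), ∃ (v : V) (r : S), s = algebraMap V S v + algebraMap V S (a ^ N) * r)
    (N : ℕ) (s : V' ⊗[V] S) :
    ∃ (v : V') (r : V' ⊗[V] S), s = algebraMap V' (V' ⊗[V] S) v + algebraMap V' _ (algebraMap V V' a) ^ N * r := by
  induction s with
  | zero => exact ⟨0, 0, by simp⟩
  | add x y hx hy =>
    obtain ⟨v, r, h⟩ := hx
    obtain ⟨v', r', h'⟩ := hy
    refine ⟨v + v', r + r', ?_⟩
    rw [h, h', map_add]
    ring
  | tmul x s =>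
    obtain ⟨v, r, h⟩ := hsub N s
    refine ⟨v • x, x ⊗ₜ r, ?_⟩
    rw [h, TensorProduct.tmul_add]
    congr 1
    · rw [Algebra.algebraMap_eq_smul_one, TensorProduct.tmul_smul]
      rfl
    · rw [← IsScalarTower.algebraMap_apply V V' (V' ⊗[V] S), ← map_pow, ← Algebra.smul_def,
        ← Algebra.smul_def, TensorProduct.tmul_smul]

lemma dvd_of_dvd' (hdvd : ∀ (N : ℕ) (v : V), algebraMap V S (a ^ N) ∣ algebraMap V S v → a ^ N ∣ v)
    (N : ℕ) (v : V') (h : algebraMap V' (V' ⊗[V] S) (algebraMap V V' a) ^ N ∣ algebraMap V' (V' ⊗[V] S) v) :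
    algebraMap V V' a ^ N ∣ v := by
  obtain ⟨z, hz⟩ := h
  let b : Module.Basis _ V V' := Module.Free.chooseBasis V V'
  let b' : Module.Basis _ S (S ⊗[V] V') := b.baseChange S
  have h1 : (1 : S) ⊗ₜ[V] v = algebraMap V S (a ^ N) • (TensorProduct.comm V V' S z) := by
    have h2 := congrArg (TensorProduct.comm V V' S) hz
    rw [← map_pow, ← map_pow, ← IsScalarTower.algebraMap_apply V V' (V' ⊗[V] S), ← Algebra.smul_def, map_smul] at h2
    rw [algebraMap_smul, ← h2]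
    rfl
  have h3 : ∀ i, a ^ N ∣ b.repr v i := by
    intro i
    apply hdvd
    have h4 := congrArg (fun x => b'.repr x i) h1
    simp only [map_smul, Finsupp.smul_apply] at h4
    rw [Module.Basis.baseChange_repr_tmul] at h4
    rw [smul_eq_mul, Algebra.smul_def, mul_one] at h4
    exact ⟨_, h4⟩
  rw [← b.linearCombination_repr v, Finsupp.linearCombination_apply, Finsupp.sum]
  refine Finset.dvd_sum fun i _ => ?_
  rw [Algebra.smul_def, ← map_pow]
  exact Dvd.dvd.mul_right (map_dvd _ (h3 i)) _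

section main

variable (hsub : ∀ (N : ℕ) (s : S), ∃ (v : V) (r : S), s = algebraMap V S v + algebraMap V S (a ^ N) * r)
  (hdvd : ∀ (N : ℕ) (v : V), algebraMap V S (a ^ N) ∣ algebraMap V S v → a ^ N ∣ v)
  (hjS : ∀ x : V' ⊗[V] S, IsUnit (1 - algebraMap V' (V' ⊗[V] S) (algebraMap V V' a) * x))
  (hjV : ∀ x : V', IsUnit (1 - algebraMap V V' a * x))
  (hinj : Function.Injective (iS V V' S Sa))

include hsub hdvd hjS hjV hinj in
theorem exists_factor (u : (V' ⊗[V] Sa)ˣ) :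
    ∃ (w : R'ˣ) (c : (V' ⊗[V] S)ˣ), (u : V' ⊗[V] Sa) = iR V' R' Sa a S w * iS V V' S Sa c := by
  obtain ⟨k, s, hs⟩ := exists_denom (S := S) a (u : V' ⊗[V] Sa)
  obtain ⟨l, t, ht⟩ := exists_denom (S := S) a ((u⁻¹ : (V' ⊗[V] Sa)ˣ) : V' ⊗[V] Sa)
  have hst : s * t = algebraMap V' (V' ⊗[V] S) (algebraMap V V' a) ^ (k + l) := by
    apply hinj
    rw [map_mul, ← hs, ← ht, map_pow, AlgHom.commutes, pow_add]
    rw [mul_mul_mul_comm, Units.mul_inv, one_mul]
  obtain ⟨v, r, hv⟩ := exists_sub' (V' := V') a hsub (k + l + 1) s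
  obtain ⟨w, r', hw⟩ := exists_sub' (V' := V') a hsub (k + l + 1) t
  have hv1 : algebraMap V' (V' ⊗[V] S) v = s * (1 - algebraMap V' (V' ⊗[V] S) (algebraMap V V' a) * (t * r)) := by
    rw [eq_comm, mul_sub, mul_one, sub_eq_iff_eq_add]
    conv_lhs => rw [hv]
    rw [pow_succ, ← hst]
    ring
  have hw1 : algebraMap V' (V' ⊗[V] S) w = t * (1 - algebraMap V' (V' ⊗[V] S) (algebraMap V V' a) * (s * r')) := by
    rw [eq_comm, mul_sub, mul_one, sub_eq_iff_eq_add]
    conv_lhs => rw [hw]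
    rw [pow_succ, ← hst]
    ring
  obtain ⟨ε, hε⟩ := hjS (t * r)
  obtain ⟨ρ, hρ⟩ : ∃ ρ : V' ⊗[V] S, ρ = t * r + s * r' -
    algebraMap V' (V' ⊗[V] S) (algebraMap V V' a) * (t * r) * (s * r') := ⟨_, rfl⟩
  have hvw : algebraMap V' (V' ⊗[V] S) (v * w) = algebraMap V' (V' ⊗[V] S) (algebraMap V V' a) ^ (k + l) *
      (1 - algebraMap V' (V' ⊗[V] S) (algebraMap V V' a) * ρ) := by
    rw [map_mul, hv1, hw1, ← hst, hρ]
    ring
  obtain ⟨y, hy⟩ := dvd_of_dvd' (V' := V') (S := S) a hdvd (k + l + 1) (algebraMap V V' a ^ (k + l) - v * w) ⟨ρ, by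
    rw [map_sub, hvw, map_pow]
    ring⟩
  obtain ⟨δ, hδ⟩ := hjV y
  have hvw' : v * w = algebraMap V V' a ^ (k + l) * δ := by
    have hy' : v * w = algebraMap V V' a ^ (k + l) - algebraMap V V' a ^ (k + l + 1) * y := by
      rw [← hy, sub_sub_cancel]
    rw [hδ, hy']
    ring
  have hua : IsUnit (algebraMap V' R' (algebraMap V V' a)) := IsLocalization.Away.algebraMap_isUnit _
  have huv : IsUnit (algebraMap V' R' v) := by
    have h1 : IsUnit (algebraMap V' R' (v * w)) := by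
      rw [hvw', map_mul, map_pow]
      exact (hua.pow _).mul (δ.isUnit.map _)
    rw [map_mul] at h1
    exact isUnit_of_mul_isUnit_left h1
  obtain ⟨uv, huv⟩ := huv
  obtain ⟨ua, hua⟩ := hua
  refine ⟨uv * (ua ^ k)⁻¹, ε⁻¹, ?_⟩
  have hu1 := isUnit_a (V' := V') (Sa := Sa) (S := S) a
  have h1 : iR V' R' Sa a S ((uv * (ua ^ k)⁻¹ : R'ˣ) : R') * algebraMap V' (V' ⊗[V] Sa) (algebraMap V V' a) ^ k =
      algebraMap V' (V' ⊗[V] Sa) v := by
    rw [← iR_algebraMap (R' := R') (S := S) a (algebraMap V V' a), ← iR_algebraMap (R' := R') (S := S) a v,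
      ← map_pow, ← map_mul, ← hua, ← Units.val_pow_eq_pow_val, ← Units.val_mul, inv_mul_cancel_right, huv]
  apply (hu1.pow k).mul_right_cancel
  rw [hs, mul_right_comm, h1]
  have h2 : algebraMap V' (V' ⊗[V] Sa) v = iS V V' S Sa (algebraMap V' (V' ⊗[V] S) v) := (AlgHom.commutes _ _).symm
  rw [h2, ← map_mul, hv1, ← hε, mul_assoc, Units.mul_inv, mul_one]

include hdvd hinj in
theorem mem_of_eq (hR : Function.Injective (algebraMap V' R')) (w : R'ˣ) (c : (V' ⊗[V] S)ˣ)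
    (h : iR V' R' Sa a S w = iS V V' S Sa c) : ∃ v : V'ˣ, w = uV V' R' v := by
  have key : ∀ (w : R'ˣ) (c : (V' ⊗[V] S)ˣ), iR V' R' Sa a S w = iS V V' S Sa c → ∃ v : V', algebraMap V' R' v = w := by
    intro w c h
    obtain ⟨k, s, hs⟩ := IsLocalization.Away.surj (algebraMap V V' a) (w : R')
    have h1 : algebraMap V' (V' ⊗[V] S) s = algebraMap V' (V' ⊗[V] S) (algebraMap V V' a) ^ k * c := by
      apply hinj
      rw [AlgHom.commutes, map_mul, map_pow, AlgHom.commutes, ← h, ← iR_algebraMap (R' := R') (S := S) a s, ← hs,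
        map_mul, map_pow, iR_algebraMap, mul_comm]
    obtain ⟨v, hv⟩ := dvd_of_dvd' (V' := V') (S := S) a hdvd k s ⟨c, h1⟩
    have hua : IsUnit (algebraMap V' R' (algebraMap V V' a)) := IsLocalization.Away.algebraMap_isUnit _
    refine ⟨v, (hua.pow k).mul_right_cancel ?_⟩
    rw [hs, hv, map_mul, map_pow, mul_comm]
  obtain ⟨v, hv⟩ := key w c h
  have h' : iR V' R' Sa a S ((w⁻¹ : R'ˣ) : R') = iS V V' S Sa ((c⁻¹ : (V' ⊗[V] S)ˣ) : V' ⊗[V] S) := by
    have h1 : Units.map (iR V' R' Sa a S : R' →* V' ⊗[V] Sa) w =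
        Units.map ((iS V V' S Sa : V' ⊗[V] S →+* V' ⊗[V] Sa) : V' ⊗[V] S →* V' ⊗[V] Sa) c := Units.ext h
    have h2 := congrArg (fun x => ((x⁻¹ : (V' ⊗[V] Sa)ˣ) : V' ⊗[V] Sa)) h1
    exact h2
  obtain ⟨v', hv'⟩ := key w⁻¹ c⁻¹ h'
  have h1 : v * v' = 1 := hR (by rw [map_mul, hv, hv', Units.mul_inv, map_one])
  exact ⟨⟨v, v', h1, by rw [mul_comm, h1]⟩, Units.ext hv.symm⟩

end main

end K216.ValHens
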