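import Groth.Agent.Red.K216.ValLoc

/-!
# Lifting equivariant homomorphisms `M → V'[1/a]ˣ / V'ˣ`
-/

set_option autoImplicit false
set_option linter.unusedSectionVars false
universe u

open IsLocalRing

namespace K216.ValLift
open K216.ValUnits K216.ValSep K216.ValLoc

variable {V V' : Type*} [CommRing V] [IsDomain V] [ValuationRing V] [CommRing V'] [IsDomain V'] [Algebra V V']
  [FaithfulSMul V V'] [Module.Finite V V'] [Module.Free V V'] {R R' : Type*} [CommRing R] [Algebra V R]
  [CommRing R'] [Algebra V' R'] [Algebra R R'] [Algebra V R'] [IsScalarTower V R R'] [IsScalarTower V V' R']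
  (a : V) [IsLocalization.Away a R] [IsLocalization.Away (algebraMap V V' a) R']
  {Γ : Type*} [Group Γ] [MulSemiringAction Γ V'] [SMulCommClass Γ V V']

variable (V' R') in
/-- the action on `R' = V'[1/a]` -/
noncomputable def actR (σ : Γ) : R' →+* R' :=
  IsLocalization.Away.lift (algebraMap V V' a) (g := (algebraMap V' R').comp (MulSemiringAction.toRingHom Γ V' σ)) (by
    change IsUnit (algebraMap V' R' (σ • algebraMap V V' a))
    rw [smul_algebraMap]
    exact IsLocalization.Away.algebraMap_isUnit _)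

lemma actR_algebraMap (σ : Γ) (x : V') : actR V' R' a σ (algebraMap V' R' x) = algebraMap V' R' (σ • x) :=
  IsLocalization.Away.lift_eq _ _ _

lemma actR_mul (σ τ : Γ) (z : R') : actR V' R' a (σ * τ) z = actR V' R' a σ (actR V' R' a τ z) := by
  have h : actR V' R' a (σ * τ) = (actR V' R' a σ).comp (actR V' R' a τ) := by
    apply IsLocalization.ringHom_ext (Submonoid.powers (algebraMap V V' a))
    ext x
    simp only [RingHom.comp_apply, actR_algebraMap, mul_smul]
  rw [h]; rfl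

lemma actR_algebraMap' (σ : Γ) (r : R) : actR V' R' a σ (algebraMap R R' r) = algebraMap R R' r := by
  have h : (actR V' R' a σ).comp (algebraMap R R') = algebraMap R R' := by
    apply IsLocalization.ringHom_ext (Submonoid.powers a)
    ext x
    simp only [RingHom.comp_apply, ← IsScalarTower.algebraMap_apply V R R']
    rw [IsScalarTower.algebraMap_apply V V' R', actR_algebraMap, smul_algebraMap]
  exact RingHom.congr_fun h r

variable (V' R') in
/-- the action on the units -/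
noncomputable def actU (σ : Γ) : R'ˣ →* R'ˣ := Units.map (actR V' R' a σ : R' →* R')

@[simp] lemma coe_actU (σ : Γ) (w : R'ˣ) : (actU V' R' a σ w : R') = actR V' R' a σ w := rfl

lemma actU_mul (σ τ : Γ) (w : R'ˣ) : actU V' R' a (σ * τ) w = actU V' R' a σ (actU V' R' a τ w) :=
  Units.ext (actR_mul a σ τ (w : R'))

lemma actU_uR (σ : Γ) (β : Rˣ) : actU V' R' a σ (uR R R' β) = uR R R' β := Units.ext (actR_algebraMap' a σ (β : R))

lemma actU_mem_B (σ : Γ) (n : MaximalSpectrum V') (w : R'ˣ) (h : w ∈ B R' n) :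
    actU V' R' a σ w ∈ B R' (perm σ n) := by
  obtain ⟨s, t, hs, ht, hst⟩ := h
  refine ⟨σ • s, σ • t, fun h => hs ?_, fun h => ht ?_, ?_⟩
  · exact (smul_mem_perm _ _ _).1 h
  · exact (smul_mem_perm _ _ _).1 h
  · rw [coe_actU, ← actR_algebraMap a σ s, ← actR_algebraMap a σ t, ← map_mul, hst]

variable (V R) in
/-- the value group -/
def Q : Type _ := Rˣ ⧸ (uVR V R).range

noncomputable instance : CommGroup (Q V R) := inferInstanceAs (CommGroup (Rˣ ⧸ (uVR V R).range))

variable (V R) in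
/-- the class of a unit -/
noncomputable def mkQ : Rˣ →* Q V R := QuotientGroup.mk' (uVR V R).range

lemma mkQ_surjective : Function.Surjective (mkQ V R) := QuotientGroup.mk'_surjective _

lemma mkQ_eq_one_iff (β : Rˣ) : mkQ V R β = 1 ↔ β ∈ (uVR V R).range := QuotientGroup.eq_one_iff β

variable (V R R') in
/-- comparison of the value groups -/
noncomputable def E (n : MaximalSpectrum V') : Q V R →* R'ˣ ⧸ B R' n :=
  QuotientGroup.map (uVR V R).range _ (uR R R') (by
    rintro _ ⟨c, rfl⟩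
    have h1 : uR R R' (uVR V R c) = uV V' R' (Units.map (algebraMap V V' : V →* V') c) := by
      apply Units.ext
      rw [coe_uR, coe_uVR, coe_uV, ← IsScalarTower.algebraMap_apply V R R', IsScalarTower.algebraMap_apply V V' R']
      rfl
    change uR R R' (uVR V R c) ∈ B R' n
    rw [h1]
    exact uV_mem_B n _)

@[simp] lemma E_mk (n : MaximalSpectrum V') (β : Rˣ) :
    E V R R' n (mkQ V R β) = QuotientGroup.mk (uR R R' β) := rfl

theorem bijective_E (hg : Good V V' a) (n : MaximalSpectrum V') : Function.Bijective (E V R R' n) := by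
  constructor
  · rw [injective_iff_map_eq_one]
    intro q hq
    obtain ⟨β, rfl⟩ := mkQ_surjective q
    rw [E_mk, QuotientGroup.eq_one_iff] at hq
    rw [mkQ_eq_one_iff]
    exact mem_range_of_mem_B a hg n β hq
  · intro q
    obtain ⟨w, rfl⟩ := QuotientGroup.mk_surjective q
    obtain ⟨β, hβ⟩ := exists_mul (R := R) a hg n w
    refine ⟨mkQ V R β, ?_⟩
    rw [E_mk, QuotientGroup.eq, mul_comm]
    exact hβ

variable (R R') in
/-- the value at `n` -/
noncomputable def val (hg : Good V V' a) (n : MaximalSpectrum V') : R'ˣ →* Q V R :=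
  (MulEquiv.ofBijective (E V R R' n) (bijective_E a hg n)).symm.toMonoidHom.comp (QuotientGroup.mk' (B R' n))

lemma E_val (hg : Good V V' a) (n : MaximalSpectrum V') (w : R'ˣ) : E V R R' n (val R R' a hg n w) = QuotientGroup.mk w :=
  (MulEquiv.ofBijective (E V R R' n) (bijective_E a hg n)).apply_symm_apply _

lemma val_eq (hg : Good V V' a) (n : MaximalSpectrum V') (w : R'ˣ) (β : Rˣ) (h : w * (uR R R' β)⁻¹ ∈ B R' n) :
    val R R' a hg n w = mkQ V R β := by
  apply (bijective_E (R := R) (R' := R') a hg n).1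
  rw [E_val, E_mk, eq_comm, QuotientGroup.eq, mul_comm]
  exact h

lemma val_eq_one (hg : Good V V' a) (n : MaximalSpectrum V') (w : R'ˣ) (h : w ∈ B R' n) :
    val R R' a hg n w = 1 := by
  have := val_eq (R := R) a hg n w 1 (by rwa [map_one, inv_one, mul_one])
  rwa [map_one] at this

lemma mem_of_val_eq_one (hg : Good V V' a) (n : MaximalSpectrum V') (w : R'ˣ) (h : val R R' a hg n w = 1) :
    w ∈ B R' n := by
  have h1 := E_val (R := R) a hg n w
  rw [h, map_one, eq_comm, QuotientGroup.eq_one_iff] at h1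
  exact h1

lemma val_act (hg : Good V V' a) (σ : Γ) (n : MaximalSpectrum V') (w : R'ˣ) :
    val R R' a hg (perm σ n) (actU V' R' a σ w) = val R R' a hg n w := by
  obtain ⟨β, hβ⟩ := exists_mul (R := R) a hg n w
  rw [val_eq a hg n w β hβ]
  apply val_eq
  have h1 := actU_mem_B a σ n _ hβ
  rwa [map_mul, map_inv, actU_uR] at h1

/-- existence of the families -/
def Fam (hg : Good V V' a) (Γ : Type*) [Group Γ] [MulSemiringAction Γ V'] [SMulCommClass Γ V V']
    (q : Q V R) : Prop :=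
  ∃ u : MaximalSpectrum V' → R'ˣ, (∀ (σ : Γ) n, actU V' R' a σ (u n) = u (perm σ n)) ∧
    (∀ n, val R R' a hg n (u n) = q) ∧ ∀ n n', n ≠ n' → val R R' a hg n' (u n) = 1

lemma Fam.mul {hg : Good V V' a} {q q' : Q V R} (h : Fam (R' := R') a hg Γ q) (h' : Fam (R' := R') a hg Γ q') :
    Fam (R' := R') a hg Γ (q * q') := by
  obtain ⟨u, h1, h2, h3⟩ := h
  obtain ⟨u', h1', h2', h3'⟩ := h'
  refine ⟨fun n => u n * u' n, fun σ n => ?_, fun n => ?_, fun n n' hn => ?_⟩
  · rw [map_mul, h1, h1']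
  · rw [map_mul, h2, h2']
  · rw [map_mul, h3 n n' hn, h3' n n' hn, _root_.one_mul]

lemma Fam.inv {hg : Good V V' a} {q : Q V R} (h : Fam (R' := R') a hg Γ q) : Fam (R' := R') a hg Γ q⁻¹ := by
  obtain ⟨u, h1, h2, h3⟩ := h
  refine ⟨fun n => (u n)⁻¹, fun σ n => ?_, fun n => ?_, fun n n' hn => ?_⟩
  · rw [map_inv, h1]
  · rw [map_inv, h2]
  · rw [map_inv, h3 n n' hn, inv_one]

variable (Γ) in
/-- transitivity -/
lemma exists_perm [Finite Γ] [Algebra.IsInvariant V V' Γ] (n n' : MaximalSpectrum V') :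
    ∃ σ : Γ, perm σ n = n' := by
  have h1 : ∀ n : MaximalSpectrum V', n.asIdeal.under V = maximalIdeal V := by
    intro n
    apply (eq_maximalIdeal ?_)
    have := n.isMaximal
    exact Ideal.isMaximal_comap_of_isIntegral_of_isMaximal _
  have := n.isMaximal.isPrime
  have := n'.isMaximal.isPrime
  obtain ⟨σ, hσ⟩ := Algebra.IsInvariant.exists_smul_of_under_eq V V' Γ n.asIdeal n'.asIdeal (by rw [h1, h1])
  refine ⟨σ, ?_⟩
  ext x
  rw [hσ, mem_perm]
  exact Ideal.mem_pointwise_smul_iff_inv_smul_mem.symm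

variable (Γ) in
lemma fam_of_dvd (hg : Good V V' a) [Finite Γ] [Algebra.IsInvariant V V' Γ] (β : Rˣ) (v v₂ : V) (N : ℕ)
    (hv : v * v₂ = a ^ N) (hβ : (β : R) = algebraMap V R v) :
    Fam (R' := R') a hg Γ (mkQ V R β) := by
  classical
  have := hg.hfin
  obtain ⟨m₀, hm₀⟩ := Ideal.exists_maximal V'
  let n₀ : MaximalSpectrum V' := ⟨m₀, hm₀⟩
  obtain ⟨w, s, t, ⟨k, hk⟩, hst, hs, ht, hw, hw'⟩ :=
    exists_conc (Γ := Γ) a hg.ha hg.hnil hg.hrad hg.hover n₀ N v v₂ hv
  have huw : IsUnit (algebraMap V' R' w) := (IsLocalization.Away.algebraMap_isUnit_iff (algebraMap V V' a)).2 ⟨k, hk⟩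
  obtain ⟨u₀, hu₀⟩ := huw
  have hst' : ∀ τ : Γ, perm τ n₀ = n₀ → actU V' R' a τ u₀ = u₀ := by
    intro τ hτ
    apply Units.ext
    rw [coe_actU, hu₀, actR_algebraMap, hst τ hτ]
  choose γ hγ using fun n => exists_perm (V := V) Γ n₀ n
  have hγ' : ∀ (σ : Γ) n, perm σ n₀ = n → actU V' R' a σ u₀ = actU V' R' a (γ n) u₀ := by
    intro σ n h
    have h1 : σ = γ n * ((γ n)⁻¹ * σ) := by rw [mul_inv_cancel_left]
    rw [h1, actU_mul, hst']
    rw [perm_mul, h, perm_inv_of_eq (hγ n)]
  have hv0 : val R R' a hg n₀ u₀ = mkQ V R β := by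
    apply val_eq
    refine ⟨s, t, hs, ht, ?_⟩
    have h1 : IsUnit (uR R R' β : R') := (uR R R' β).isUnit
    apply h1.mul_right_cancel
    have h2 : ((u₀ * (uR R R' β)⁻¹ : R'ˣ) : R') * (uR R R' β : R') = u₀ := by
      rw [Units.val_mul, Units.inv_mul_cancel_right]
    rw [mul_assoc, h2, hu₀, coe_uR, hβ, ← IsScalarTower.algebraMap_apply V R R',
      IsScalarTower.algebraMap_apply V V' R', ← map_mul, ← map_mul, hw]
  have hv1 : ∀ n', n' ≠ n₀ → val R R' a hg n' u₀ = 1 := by
    intro n' hn'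
    apply val_eq_one
    refine ⟨1, w, (Ideal.ne_top_iff_one _).1 n'.isMaximal.ne_top, hw' n' hn', ?_⟩
    rw [map_one, _root_.one_mul, hu₀]
  refine ⟨fun n => actU V' R' a (γ n) u₀, fun σ n => ?_, fun n => ?_, fun n n' hn => ?_⟩
  · rw [← actU_mul]
    apply hγ'
    rw [perm_mul, hγ]
  · have h1 := val_act (R := R) a hg (γ n) n₀ u₀
    rw [hγ] at h1
    rw [h1, hv0]
  · have h1 := val_act (R := R) a hg (γ n) (perm (γ n)⁻¹ n') u₀
    rw [← perm_mul, mul_inv_cancel, perm_one] at h1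
    rw [h1, hv1]
    intro h
    apply hn
    rw [← hγ n, ← h, ← perm_mul, mul_inv_cancel, perm_one]

variable (Γ) in
theorem fam (hg : Good V V' a) [Finite Γ] [Algebra.IsInvariant V V' Γ] (q : Q V R) : Fam (R' := R') a hg Γ q := by
  obtain ⟨β, rfl⟩ := mkQ_surjective q
  have hua : IsUnit (algebraMap V R a) := IsLocalization.Away.algebraMap_isUnit a
  obtain ⟨k, s, hs⟩ := IsLocalization.Away.surj a (β : R)
  have hus : IsUnit (algebraMap V R s) := by
    rw [← hs]
    exact β.isUnit.mul (hua.pow _)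
  obtain ⟨N, v₂, hN⟩ := (IsLocalization.Away.algebraMap_isUnit_iff a).1 hus
  obtain ⟨us, hus⟩ := hus
  obtain ⟨ua, hua⟩ := hua
  have h1 : β = us * (ua ^ k)⁻¹ := by
    rw [eq_mul_inv_iff_mul_eq]
    apply Units.ext
    rw [Units.val_mul, Units.val_pow_eq_pow_val, hua, hus, hs]
  rw [h1, map_mul, map_inv]
  refine Fam.mul a (fam_of_dvd a Γ hg us s v₂ N hN.symm hus) (Fam.inv a ?_)
  refine fam_of_dvd a Γ hg (ua ^ k) (a ^ k) 1 k (mul_one _) ?_
  rw [Units.val_pow_eq_pow_val, hua, map_pow]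

/-- **The lifting theorem.** -/
theorem exists_lift {M : Type*} [CommGroup M] [Group.FG M] (hg : Good V V' a) [Finite Γ]
    [Algebra.IsInvariant V V' Γ] (R : Type*) [CommRing R] [Algebra V R] [Algebra R R'] [IsScalarTower V R R']
    [IsLocalization.Away a R] (ψ : Γ → M → M) (f : M → R'ˣ)
    (hf : ∀ m m', ∃ c : V'ˣ, f (m * m') = f m * f m' * uV V' R' c)
    (hfσ : ∀ (σ : Γ) m, ∃ c : V'ˣ, f (ψ σ m) = actU V' R' a σ (f m) * uV V' R' c) :
    ∃ g : M →* R'ˣ, (∀ (σ : Γ) m, g (ψ σ m) = actU V' R' a σ (g m)) ∧ ∀ m, ∃ c : V'ˣ, g m = f m * uV V' R' c := by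
  have := hg.hfin
  have hinj : Function.Injective (algebraMap V' R') := injective_algebraMap a hg.ha0
  have hU : ∀ (n : MaximalSpectrum V') (c : V'ˣ), val R R' a hg n (uV V' R' c) = 1 := fun n c =>
    val_eq_one a hg n _ (uV_mem_B n c)
  obtain ⟨g, h1, h2⟩ := EquivLift.exists_lift (Q := Q V R) (actU V' R' a (Γ := Γ)) ψ perm (val R R' a hg) (val_act a hg) (by
      intro q n hn hq
      obtain ⟨β, rfl⟩ := mkQ_surjective q
      rw [mkQ_eq_one_iff]
      have h1 : (mkQ V R β) ^ n.natAbs = 1 := by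
        rcases Int.natAbs_eq n with h | h
        · rw [← zpow_natCast, ← h, hq]
        · rw [← zpow_natCast, ← neg_neg ((n.natAbs : ℤ)), ← h, zpow_neg, hq, inv_one]
      rw [← map_pow, mkQ_eq_one_iff] at h1
      exact torsion_free a hg.ha0 β _ (Int.natAbs_ne_zero.2 hn) h1) (fun q => fam (R := R) (R' := R') a Γ hg q) f (by
      intro m m' n
      obtain ⟨c, hc⟩ := hf m m'
      rw [hc, map_mul, map_mul, hU, mul_one]) (by
      intro σ m n
      obtain ⟨c, hc⟩ := hfσ σ m
      rw [hc, map_mul, hU, mul_one])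
  refine ⟨g, h1, fun m => ?_⟩
  have h3 : (f m)⁻¹ * g m ∈ (uV V' R').range := by
    apply mem_range_of_forall _ _ hinj
    intro n
    apply mem_of_val_eq_one (R := R) a hg
    rw [map_mul, map_inv, h2, inv_mul_cancel]
  obtain ⟨c, hc⟩ := h3
  exact ⟨c, by rw [hc, mul_inv_cancel_left]⟩

end K216.ValLift
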