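import Groth.Agent.Red.K216.ValSep
import Groth.Agent.Red.K216.EquivLift

/-!
# The group of units of `V'[1/a]` modulo the units of `V'`
-/

set_option autoImplicit false
set_option linter.unusedSectionVars false
universe u

open IsLocalRing

namespace K216.ValLoc
open K216.ValUnits K216.ValSep

/-- the hypotheses on `V → V'` and `a` -/
structure Good (V V' : Type*) [CommRing V] [IsLocalRing V] [CommRing V'] [Algebra V V'] (a : V) : Prop where
  ha : a ∈ maximalIdeal V
  ha0 : a ≠ 0
  hnil : ∀ x ∈ maximalIdeal V, ∃ k, a ∣ x ^ k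
  hfin : Finite (MaximalSpectrum V')
  hrad : ∀ x : V', (∀ n : MaximalSpectrum V', x ∈ n.asIdeal) → x ∈ (maximalIdeal V).map (algebraMap V V')
  hover : ∀ n : MaximalSpectrum V', (maximalIdeal V).map (algebraMap V V') ≤ n.asIdeal

variable {V V' : Type*} [CommRing V] [IsDomain V] [ValuationRing V] [CommRing V'] [IsDomain V'] [Algebra V V']
  [FaithfulSMul V V'] [Module.Finite V V'] [Module.Free V V'] {R R' : Type*} [CommRing R] [Algebra V R]
  [CommRing R'] [Algebra V' R'] [Algebra R R'] [Algebra V R'] [IsScalarTower V R R'] [IsScalarTower V V' R']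

lemma algebraMap_mem {a : V} (hg : Good V V' a) (n : MaximalSpectrum V') {x : V} (hx : x ∈ maximalIdeal V) :
    algebraMap V V' x ∈ n.asIdeal := hg.hover n (Ideal.mem_map_of_mem _ hx)

lemma isUnit_of_notMem {a : V} (hg : Good V V' a) (n : MaximalSpectrum V') {x : V}
    (hx : algebraMap V V' x ∉ n.asIdeal) : IsUnit x := by
  by_contra h
  exact hx (algebraMap_mem hg n ((mem_maximalIdeal _).2 h))

lemma injective_algebraMap (a : V) (ha0 : a ≠ 0) [IsLocalization.Away (algebraMap V V' a) R'] :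
    Function.Injective (algebraMap V' R') := by
  apply IsLocalization.injective (M := Submonoid.powers (algebraMap V V' a))
  apply powers_le_nonZeroDivisors_of_noZeroDivisors
  rw [Ne, ← map_zero (algebraMap V V'), (FaithfulSMul.algebraMap_injective V V').eq_iff]
  exact ha0

lemma injective_algebraMap' (a : V) (ha0 : a ≠ 0) [IsLocalization.Away a R] :
    Function.Injective (algebraMap V R) := by
  apply IsLocalization.injective (M := Submonoid.powers a)
  exact powers_le_nonZeroDivisors_of_noZeroDivisors ha0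

variable (R') in
/-- the units of `R'` which are units at `n` -/
def B (n : MaximalSpectrum V') : Subgroup R'ˣ where
  carrier := {w | ∃ s t : V', s ∉ n.asIdeal ∧ t ∉ n.asIdeal ∧ algebraMap V' R' s * w = algebraMap V' R' t}
  mul_mem' := by
    rintro w w' ⟨s, t, hs, ht, h⟩ ⟨s', t', hs', ht', h'⟩
    have hp := n.isMaximal.isPrime
    refine ⟨s * s', t * t', fun h1 => ?_, fun h1 => ?_, ?_⟩
    · exact (hp.mem_or_mem h1).elim hs hs'
    · exact (hp.mem_or_mem h1).elim ht ht'
    · rw [map_mul, map_mul, ← h, ← h', Units.val_mul]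
      ring
  one_mem' := ⟨1, 1, (Ideal.ne_top_iff_one _).1 n.isMaximal.ne_top, (Ideal.ne_top_iff_one _).1 n.isMaximal.ne_top,
    by simp⟩
  inv_mem' := by
    rintro w ⟨s, t, hs, ht, h⟩
    refine ⟨t, s, ht, hs, ?_⟩
    rw [← h, mul_assoc, Units.mul_inv, mul_one]

variable (V' R') in
/-- units of `V'` -/
def uV : V'ˣ →* R'ˣ := Units.map (algebraMap V' R' : V' →* R')

@[simp] lemma coe_uV (x : V'ˣ) : (uV V' R' x : R') = algebraMap V' R' x := rfl

variable (R R') in
/-- units of `R` -/
def uR : Rˣ →* R'ˣ := Units.map (algebraMap R R' : R →* R')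

@[simp] lemma coe_uR (x : Rˣ) : (uR R R' x : R') = algebraMap R R' x := rfl

lemma uV_mem_B (n : MaximalSpectrum V') (x : V'ˣ) : uV V' R' x ∈ B R' n := by
  refine ⟨1, x, (Ideal.ne_top_iff_one _).1 n.isMaximal.ne_top, fun h => ?_, by simp⟩
  exact n.isMaximal.ne_top (Ideal.eq_top_of_isUnit_mem _ h x.isUnit)

theorem exists_mul (a : V) (hg : Good V V' a) [IsLocalization.Away a R] [IsLocalization.Away (algebraMap V V' a) R']
    (n : MaximalSpectrum V') (w : R'ˣ) : ∃ β : Rˣ, w * (uR R R' β)⁻¹ ∈ B R' n := by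
  have := hg.hfin
  have hinj : Function.Injective (algebraMap V' R') := injective_algebraMap a hg.ha0
  have hinjV := FaithfulSMul.algebraMap_injective V V'
  obtain ⟨k, w', hw'⟩ := IsLocalization.Away.surj (algebraMap V V' a) (w : R')
  have hua : IsUnit (algebraMap V R a) := IsLocalization.Away.algebraMap_isUnit a
  have hua' : IsUnit (algebraMap V' R' (algebraMap V V' a)) := IsLocalization.Away.algebraMap_isUnit _
  have huw : IsUnit (algebraMap V' R' w') := by
    rw [← hw']
    exact w.isUnit.mul (hua'.pow _)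
  obtain ⟨N, w₂, hN⟩ := (IsLocalization.Away.algebraMap_isUnit_iff (algebraMap V V' a)).1 huw
  have hN' : w' * w₂ = algebraMap V V' (a ^ N) := by rw [← hN, map_pow]
  obtain ⟨c, e, w₁, he, hw₁, hc⟩ := exists_value a hg.ha hg.ha0 hg.hnil hg.hrad hg.hover n N w' w₂ hN'
  have haN : algebraMap V V' (a ^ N) ≠ 0 := by
    rw [Ne, ← map_zero (algebraMap V V'), hinjV.eq_iff]
    exact pow_ne_zero _ hg.ha0
  have huc : IsUnit (algebraMap V R c) := by
    rcases ValuationRing.dvd_total (a ^ N) c with h | h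
    · obtain ⟨d, hd⟩ := h
      have h1 : algebraMap V V' (a ^ N) * e = algebraMap V V' (a ^ N) * (algebraMap V V' d * w₁ * w₂) := by
        rw [← hN']
        calc w' * w₂ * e = w' * e * w₂ := by ring
          _ = algebraMap V V' c * w₁ * w₂ := by rw [hc]
          _ = _ := by
            rw [hd, map_mul, hN']
            ring
      have h2 := mul_left_cancel₀ haN h1
      have h3 : algebraMap V V' d ∉ n.asIdeal := by
        intro h
        apply he
        rw [h2]
        exact Ideal.mul_mem_right _ _ (Ideal.mul_mem_right _ _ h)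
      have h4 := isUnit_of_notMem hg n h3
      rw [hd, map_mul, map_pow]
      exact (hua.pow _).mul (h4.map _)
    · exact (IsLocalization.Away.algebraMap_isUnit_iff a).2 ⟨N, h⟩
  obtain ⟨uc, huc⟩ := huc
  obtain ⟨ua, hua⟩ := hua
  refine ⟨uc * (ua ^ k)⁻¹, e, w₁, he, hw₁, ?_⟩
  have h1 : w * (uR R R' (uc * (ua ^ k)⁻¹))⁻¹ * uR R R' uc = w * (uR R R' ua) ^ k := by
    rw [map_mul, map_inv, map_pow, mul_inv, inv_inv, mul_comm (uR R R' uc)⁻¹, ← mul_assoc, inv_mul_cancel_right]
  have h2 : ((w * (uR R R' (uc * (ua ^ k)⁻¹))⁻¹ : R'ˣ) : R') * (uR R R' uc : R'ˣ) =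
      (w : R') * ((uR R R' ua ^ k : R'ˣ) : R') := congrArg (Units.val) h1
  rw [Units.val_pow_eq_pow_val, coe_uR, coe_uR, huc, hua,
    ← IsScalarTower.algebraMap_apply V R R', ← IsScalarTower.algebraMap_apply V R R',
    IsScalarTower.algebraMap_apply V V' R' a, hw', IsScalarTower.algebraMap_apply V V' R' c] at h2
  have hc0 : IsUnit (algebraMap V' R' (algebraMap V V' c)) := by
    rw [← IsScalarTower.algebraMap_apply V V' R', IsScalarTower.algebraMap_apply V R R', ← huc]
    exact (uc.isUnit).map (algebraMap R R')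
  apply hc0.mul_right_cancel
  rw [mul_assoc, h2, ← map_mul, ← map_mul]
  congr 1
  rw [mul_comm, hc, mul_comm]

/-- an element of `Rˣ` or its inverse is in `V` -/
lemma exists_or (a : V) [IsLocalization.Away a R] (β : Rˣ) :
    ∃ v : V, algebraMap V R v = β ∨ algebraMap V R v = (β⁻¹ : Rˣ) := by
  have hua : IsUnit (algebraMap V R a) := IsLocalization.Away.algebraMap_isUnit a
  obtain ⟨k, s, hs⟩ := IsLocalization.Away.surj a (β : R)
  rcases ValuationRing.dvd_total (a ^ k) s with ⟨v, hv⟩ | ⟨v, hv⟩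
  · refine ⟨v, Or.inl ?_⟩
    rw [hv, map_mul, map_pow, mul_comm] at hs
    exact ((hua.pow k).mul_left_cancel hs).symm
  · refine ⟨v, Or.inr ?_⟩
    have hus : IsUnit (algebraMap V R s) := by
      rw [← hs]
      exact β.isUnit.mul (hua.pow _)
    rw [← map_pow, hv, map_mul, mul_left_comm] at hs
    have h1 : (β : R) * algebraMap V R v = 1 := hus.mul_left_cancel (by rw [hs, mul_one])
    rw [← β.inv_mul_cancel_left (algebraMap V R v), h1, mul_one]

variable (V R) in
/-- units of `V` -/
def uVR : Vˣ →* Rˣ := Units.map (algebraMap V R : V →* R)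

@[simp] lemma coe_uVR (x : Vˣ) : (uVR V R x : R) = algebraMap V R x := rfl

lemma mem_range_uVR_of (β : Rˣ) (v : V) (hv : IsUnit v) (h : algebraMap V R v = β ∨ algebraMap V R v = (β⁻¹ : Rˣ)) :
    β ∈ (uVR V R).range := by
  obtain ⟨v, rfl⟩ := hv
  rcases h with h | h
  · exact ⟨v, Units.ext h⟩
  · refine ⟨v⁻¹, ?_⟩
    rw [map_inv]
    exact inv_eq_iff_eq_inv.2 (Units.ext h)

theorem mem_range_of_mem_B (a : V) (hg : Good V V' a) [IsLocalization.Away a R]
    [IsLocalization.Away (algebraMap V V' a) R'] (n : MaximalSpectrum V') (β : Rˣ) (h : uR R R' β ∈ B R' n) :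
    β ∈ (uVR V R).range := by
  have hinj : Function.Injective (algebraMap V' R') := injective_algebraMap a hg.ha0
  obtain ⟨v, hv⟩ := exists_or a β
  refine mem_range_uVR_of β v ?_ hv
  apply isUnit_of_notMem hg n
  intro hn
  obtain ⟨s, t, hs, ht, hst⟩ := h
  rcases hv with hv | hv
  · apply ht
    have h1 : s * algebraMap V V' v = t := by
      apply hinj
      rw [map_mul, ← hst, ← IsScalarTower.algebraMap_apply V V' R', IsScalarTower.algebraMap_apply V R R', hv]
      rfl
    rw [← h1]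
    exact Ideal.mul_mem_left _ _ hn
  · apply hs
    have h1 : t * algebraMap V V' v = s := by
      apply hinj
      rw [map_mul, ← hst, ← IsScalarTower.algebraMap_apply V V' R', IsScalarTower.algebraMap_apply V R R', hv]
      have h2 : algebraMap R R' ((β⁻¹ : Rˣ) : R) = ((uR R R' β)⁻¹ : R'ˣ) := by
        rw [← map_inv]
        rfl
      rw [h2, mul_assoc, Units.mul_inv, mul_one]
    rw [← h1]
    exact Ideal.mul_mem_left _ _ hn

theorem mem_range_of_forall (w : R'ˣ) (h : ∀ n : MaximalSpectrum V', w ∈ B R' n)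
    (hinj : Function.Injective (algebraMap V' R')) : w ∈ (uV V' R').range := by
  have key : ∀ w : R'ˣ, (∀ n : MaximalSpectrum V', w ∈ B R' n) → ∃ t : V', algebraMap V' R' t = w := by
    intro w h
    let I : Ideal V' :=
      { carrier := {s | ∃ t, algebraMap V' R' s * w = algebraMap V' R' t}
        add_mem' := by
          rintro s s' ⟨t, ht⟩ ⟨t', ht'⟩
          exact ⟨t + t', by rw [map_add, map_add, add_mul, ht, ht']⟩
        zero_mem' := ⟨0, by simp⟩
        smul_mem' := by
          rintro r s ⟨t, ht⟩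
          exact ⟨r * t, by rw [smul_eq_mul, map_mul, map_mul, mul_assoc, ht]⟩ }
    have hI : I = ⊤ := by
      by_contra hI
      obtain ⟨n, hn, hIn⟩ := Ideal.exists_le_maximal I hI
      obtain ⟨s, t, hs, -, hst⟩ := h ⟨n, hn⟩
      exact hs (hIn ⟨t, hst⟩)
    have h1 : (1 : V') ∈ I := by rw [hI]; trivial
    obtain ⟨t, ht⟩ := h1
    exact ⟨t, by rw [← ht, map_one, one_mul]⟩
  obtain ⟨t, ht⟩ := key w h
  obtain ⟨t', ht'⟩ := key w⁻¹ fun n => inv_mem (h n)
  have h1 : t * t' = 1 := hinj (by rw [map_mul, ht, ht', Units.mul_inv, map_one])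
  exact ⟨⟨t, t', h1, by rw [mul_comm, h1]⟩, Units.ext ht⟩

theorem torsion_free (a : V) (ha0 : a ≠ 0) [IsLocalization.Away a R] (β : Rˣ) (n : ℕ) (hn : n ≠ 0)
    (h : β ^ n ∈ (uVR V R).range) : β ∈ (uVR V R).range := by
  have hinj : Function.Injective (algebraMap V R) := injective_algebraMap' a ha0
  obtain ⟨v, hv⟩ := exists_or a β
  refine mem_range_uVR_of β v ?_ hv
  obtain ⟨c, hc⟩ := h
  have h1 : ∃ c' : Vˣ, v ^ n = c' := by
    rcases hv with hv | hv
    · refine ⟨c, hinj ?_⟩
      rw [map_pow, hv, ← Units.val_pow_eq_pow_val, ← hc]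
      rfl
    · refine ⟨c⁻¹, hinj ?_⟩
      rw [map_pow, hv, ← Units.val_pow_eq_pow_val, inv_pow, ← hc, ← map_inv]
      rfl
  obtain ⟨c', hc'⟩ := h1
  have h2 : IsUnit (v ^ n) := hc' ▸ c'.isUnit
  exact (isUnit_pow_iff hn).1 h2

end K216.ValLoc
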