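import Groth.Agent.Red.K216.ValGood
import Groth.Agent.Red.K672.AnisoTor
import Groth.Agent.Sga3A.MTNormal

/-!
# Tori over henselizations of valuation rings
-/

set_option autoImplicit false
set_option linter.unusedSectionVars false
universe u

open IsLocalRing TensorProduct WithConv
open Groth.Agent Groth.Agent.Sga3A Groth.Agent.Sga3A.MTBasis Groth.Agent.Sga3B.Hens.Dict

namespace K216.ValMain
open K216.ValLoc K216.ValLift K216.ValHens K216.ValTorus K216.ValGood K216.GalCover

section cover

variable {V A : Type u} [CommRing V] [IsDomain V] [IsIntegrallyClosed V] [CommRing A] [HopfAlgebra V A]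
  [Algebra.FiniteType V A]

theorem exists_cover (h : SGA3b.IsIsotrivial V A) :
    ∃ (V' : Type u) (_ : CommRing V') (_ : IsDomain V') (_ : Algebra V V') (_ : Algebra.Etale V V')
      (_ : Module.Finite V V') (_ : FaithfulSMul V V') (Γ : Type u) (_ : Group Γ) (_ : Finite Γ)
      (_ : MulSemiringAction Γ V') (_ : SMulCommClass Γ V V') (_ : Algebra.IsInvariant V V' Γ)
      (M : Type u) (_ : CommGroup M) (_ : Group.FG M), Nonempty (GBasis V' (V' ⊗[V] A) M) := by
  obtain ⟨T, _, _, _, _, _, M, _, ⟨e⟩⟩ := h
  have hTn : Nontrivial T := (FaithfulSMul.algebraMap_injective V T).nontrivial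
  obtain ⟨w, hd, -, het, hfin, hff, hs⟩ := MTNormal.exists_component (R := V) T
  obtain ⟨V', _, _, _, _, _, _, Γ, _, _, _, _, _, ⟨φ⟩⟩ := exists_galois V (Localization.Away w)
  let g₀ : GBasis T (T ⊗[V] A) M := GBasis.ofBialgEquiv e
  let g : GBasis V' (V' ⊗[V] A) M := g₀.bc (φ.comp (IsScalarTower.toAlgHom V T (Localization.Away w)))
  have hM : Group.FG M := by
    have h1 : Algebra.FiniteType V' (MonoidAlgebra V' M) := by
      have h2 : Algebra.FiniteType V' (V' ⊗[V] A) := inferInstance
      exact h2.equiv (g.bialgEquiv.symm : V' ⊗[V] A ≃ₐ[V'] MonoidAlgebra V' M)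
    exact MonoidAlgebra.finiteType_iff_group_fg.mp h1
  exact ⟨V', inferInstance, inferInstance, inferInstance, inferInstance, inferInstance, inferInstance, Γ, inferInstance,
    inferInstance, inferInstance, inferInstance, inferInstance, M, inferInstance, hM, ⟨g⟩⟩

end cover

section main

lemma isUnit_one_sub {A : Type u} [CommRing A] (a x : A) (h : ∀ n : Ideal A, n.IsMaximal → a ∈ n) :
    IsUnit (1 - a * x) := by
  by_contra hu
  obtain ⟨n, hn, hxn⟩ := exists_max_ideal_of_mem_nonunits hu
  apply (Ideal.ne_top_iff_one _).1 hn.ne_top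
  have := n.add_mem hxn (Ideal.mul_mem_right x _ (h n hn))
  rwa [sub_add_cancel] at this

variable {V A : Type u} [CommRing V] [IsDomain V] [ValuationRing V] [CommRing A] [HopfAlgebra V A]
  [Algebra.FiniteType V A]

theorem exists_points (h : SGA3b.IsIsotrivial V A) (n : ℕ) (hn : 0 < n) (hV : ringKrullDim V = n) (p : Ideal V)
    [p.IsPrime] (hp : p.height = n - 1) (a : V) (ha : a ∈ maximalIdeal V) (hap : a ∉ p)
    (S : Type u) [CommRing S] [IsLocalRing S] [Algebra V S] [IsLocalHom (algebraMap V S)]
    [hS : Hensel.IsHenselization V S]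
    (jR : Localization.Away a →ₐ[V] Localization.Away (algebraMap V S a))
    (x : A →ₐ[V] Localization.Away (algebraMap V S a)) :
    ∃ (y : A →ₐ[V] Localization.Away a) (z : A →ₐ[V] S),
      toConv x = (toConv (jR.comp y) *
        toConv ((IsScalarTower.toAlgHom V S (Localization.Away (algebraMap V S a))).comp z) :
          WithConv (A →ₐ[V] Localization.Away (algebraMap V S a))) := by
  obtain ⟨V', _, _, _, _, _, _, Γ, _, _, _, _, _, M, _, _, ⟨g⟩⟩ := exists_cover h
  have hnil : ∀ x ∈ maximalIdeal V, ∃ k, a ∣ x ^ k := nil n hn hV p hp a hap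
  have ha0 : a ≠ 0 := fun h => hap (h ▸ p.zero_mem)
  have hg : Good V V' a := ⟨ha, ha0, hnil, finite_max V V', rad, le_max⟩
  have hfree : Module.Free V V' := Module.free_of_flat_of_isLocalRing
  have hflS : Module.FaithfullyFlat V S := Groth.Agent.S0509.result V S
  have hsub : ∀ (N : ℕ) (s : S), ∃ (v : V) (r : S), s = algebraMap V S v + algebraMap V S (a ^ N) * r := by
    intro N s
    rcases Nat.eq_zero_or_pos N with rfl | hN
    · exact ⟨0, s, by simp⟩
    · refine HensQuot.exists_sub (a ^ N) (Ideal.pow_mem_of_mem _ ha _ hN) (fun y hy => ?_) s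
      obtain ⟨k, z, hz⟩ := hnil y hy
      exact ⟨k * N, z ^ N, by rw [pow_mul, hz, mul_pow]⟩
  have hdvd : ∀ (N : ℕ) (v : V), algebraMap V S (a ^ N) ∣ algebraMap V S v → a ^ N ∣ v := by
    intro N v hv
    rcases Nat.eq_zero_or_pos N with rfl | hN
    · simp
    · refine HensQuot.dvd_of_dvd (S := S) (a ^ N) (Ideal.pow_mem_of_mem _ ha _ hN) (fun y hy => ?_) v hv
      obtain ⟨k, z, hz⟩ := hnil y hy
      exact ⟨k * N, z ^ N, by rw [pow_mul, hz, mul_pow]⟩
  have hjV : ∀ x : V', IsUnit (1 - algebraMap V V' a * x) := by
    intro x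
    apply isUnit_one_sub
    intro n hn
    exact algebraMap_mem hg ⟨n, hn⟩ ha
  have haS : algebraMap V S a ∈ maximalIdeal S := by
    rw [mem_maximalIdeal, mem_nonunits_iff] at ha ⊢
    exact fun hu => ha (isUnit_of_map_unit (algebraMap V S) a hu)
  have hjS : ∀ x : V' ⊗[V] S, IsUnit (1 - algebraMap V' (V' ⊗[V] S) (algebraMap V V' a) * x) := by
    intro x
    apply isUnit_one_sub
    intro n hn
    let j : S →+* V' ⊗[V] S := (Algebra.TensorProduct.includeRight : S →ₐ[V] V' ⊗[V] S).toRingHom
    have hj : j.IsIntegral := by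
      have h1 : (algebraMap S (S ⊗[V] V')).IsIntegral := algebraMap_isIntegral_iff.2 inferInstance
      have h2 : j = ((Algebra.TensorProduct.comm V S V' : S ⊗[V] V' ≃ₐ[V] V' ⊗[V] S).toRingEquiv : S ⊗[V] V' →+* V' ⊗[V] S).comp
          (algebraMap S (S ⊗[V] V')) := by
        ext s
        rfl
      rw [h2]
      exact h1.trans _ _ (RingHom.isIntegral_of_surjective _ (RingEquiv.surjective _))
    have h3 : (n.comap j).IsMaximal := by
      algebraize [j]
      exact Ideal.isMaximal_comap_of_isIntegral_of_isMaximal (R := S) n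
    have h4 : algebraMap V S a ∈ n.comap j := by
      rw [eq_maximalIdeal h3]
      exact haS
    have h5 : j (algebraMap V S a) = algebraMap V' (V' ⊗[V] S) (algebraMap V V' a) := by
      rw [← IsScalarTower.algebraMap_apply V V' (V' ⊗[V] S)]
      exact (Algebra.TensorProduct.includeRight : S →ₐ[V] V' ⊗[V] S).commutes a
    rw [← h5]
    exact h4
  have hinj : Function.Injective (iS V V' S (Localization.Away (algebraMap V S a))) := by
    have h1 : Function.Injective (algebraMap S (Localization.Away (algebraMap V S a))) := by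
      apply IsLocalization.injective (M := Submonoid.powers (algebraMap V S a))
      rw [Submonoid.powers_le]
      have h2 : a ∈ nonZeroDivisors V := mem_nonZeroDivisors_of_ne_zero ha0
      have h3 : IsSMulRegular S a := Module.Flat.isSMulRegular_of_nonZeroDivisors h2
      rw [mem_nonZeroDivisors_iff_right]
      intro s hs
      apply h3
      change a • s = a • (0 : S)
      rw [smul_zero, Algebra.smul_def, mul_comm, hs]
    exact Module.Flat.lTensor_preserves_injective_linearMap (M := V')
      (IsScalarTower.toAlgHom V S (Localization.Away (algebraMap V S a))).toLinearMap h1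
  let _ : Algebra (Localization.Away a) (Localization.Away (algebraMap V V' a)) :=
    (Localization.awayMap (algebraMap V V') a).toAlgebra
  have hst : IsScalarTower V (Localization.Away a) (Localization.Away (algebraMap V V' a)) := by
    refine .of_algebraMap_eq' ?_
    ext v
    change _ = Localization.awayMap (algebraMap V V') a (algebraMap V _ v)
    rw [IsScalarTower.algebraMap_apply V V' (Localization.Away (algebraMap V V' a))]
    exact (IsLocalization.map_eq _ v).symm
  exact ValTorus.exists_points g a hg hsub hdvd hjS hjV hinj (Localization.Away a)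
    (Localization.Away (algebraMap V V' a)) jR Γ x

end main

end K216.ValMain
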