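import Groth.Agent.Red.K216.ValUnits

/-!
# Equivariant families of units concentrated at one maximal ideal
-/

set_option autoImplicit false
set_option linter.unusedSectionVars false
universe u

open IsLocalRing

namespace K216.ValSep
open K216.ValUnits

section perm

variable {V' Γ : Type*} [CommRing V'] [Group Γ] [MulSemiringAction Γ V']

/-- the action on the maximal ideals -/
def perm (σ : Γ) : MaximalSpectrum V' ≃ MaximalSpectrum V' where
  toFun n := ⟨n.asIdeal.comap (MulSemiringAction.toRingEquiv Γ V' σ⁻¹), Ideal.comap_isMaximal_of_equiv _⟩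
  invFun n := ⟨n.asIdeal.comap (MulSemiringAction.toRingEquiv Γ V' σ), Ideal.comap_isMaximal_of_equiv _⟩
  left_inv n := by
    ext x
    simp
  right_inv n := by
    ext x
    simp

@[simp] lemma mem_perm (σ : Γ) (n : MaximalSpectrum V') (x : V') :
    x ∈ (perm σ n).asIdeal ↔ σ⁻¹ • x ∈ n.asIdeal := Iff.rfl

lemma smul_mem_perm (σ : Γ) (n : MaximalSpectrum V') (x : V') :
    σ • x ∈ (perm σ n).asIdeal ↔ x ∈ n.asIdeal := by
  rw [mem_perm, inv_smul_smul]

lemma perm_mul (σ τ : Γ) (n : MaximalSpectrum V') : perm (σ * τ) n = perm σ (perm τ n) := by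
  ext x
  simp only [mem_perm, mul_inv_rev, mul_smul]

lemma perm_one (n : MaximalSpectrum V') : perm (1 : Γ) n = n := by
  ext x
  simp only [mem_perm, inv_one, one_smul]

lemma perm_inv_of_eq {σ : Γ} {n n' : MaximalSpectrum V'} (h : perm σ n = n') : perm σ⁻¹ n' = n := by
  rw [← h, ← perm_mul, inv_mul_cancel, perm_one]

end perm

variable {V V' Γ : Type*} [CommRing V] [IsDomain V] [ValuationRing V] [CommRing V'] [IsDomain V'] [Algebra V V']
  [FaithfulSMul V V'] [Module.Finite V V'] [Module.Free V V'] [Group Γ] [Finite Γ] [MulSemiringAction Γ V']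
  [SMulCommClass Γ V V']

/-- a stable version of `exists_sep` -/
lemma exists_sep' [Finite (MaximalSpectrum V')] (n : MaximalSpectrum V') :
    ∃ e : V', 1 - e ∈ n.asIdeal ∧ (∀ n' : MaximalSpectrum V', n' ≠ n → e ∈ n'.asIdeal) ∧
      ∀ τ : Γ, perm τ n = n → τ • e = e := by
  classical
  have := Fintype.ofFinite Γ
  obtain ⟨e₀, h1, h2⟩ := exists_sep n
  let s : Finset Γ := Finset.univ.filter fun τ => perm τ n = n
  refine ⟨∏ τ ∈ s, τ • e₀, ?_, fun n' hn' => ?_, fun τ hτ => ?_⟩
  · rw [← Ideal.Quotient.eq_zero_iff_mem, map_sub, map_one, map_prod, sub_eq_zero, eq_comm]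
    refine Finset.prod_eq_one fun τ hτ => ?_
    have h3 : perm τ n = n := (Finset.mem_filter.1 hτ).2
    have h4 : τ • (1 - e₀) ∈ (perm τ n).asIdeal := (smul_mem_perm _ _ _).2 h1
    rw [h3, smul_sub, smul_one] at h4
    have h5 := Ideal.Quotient.eq_zero_iff_mem.2 h4
    rw [map_sub, map_one, sub_eq_zero] at h5
    exact h5.symm
  · have h3 : (1 : Γ) ∈ s := Finset.mem_filter.2 ⟨Finset.mem_univ _, perm_one n⟩
    apply Ideal.mem_of_dvd _ (Finset.dvd_prod_of_mem _ h3)
    rw [one_smul]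
    exact h2 n' hn'
  · rw [Finset.smul_prod']
    have h3 : ∀ ρ ∈ s, τ • ρ • e₀ = (τ * ρ) • e₀ := fun ρ _ => (mul_smul _ _ _).symm
    rw [Finset.prod_congr rfl h3]
    refine Finset.prod_bij' (fun ρ _ => τ * ρ) (fun ρ _ => τ⁻¹ * ρ) ?_ ?_ ?_ ?_ ?_
    · intro ρ hρ
      refine Finset.mem_filter.2 ⟨Finset.mem_univ _, ?_⟩
      rw [perm_mul, (Finset.mem_filter.1 hρ).2, hτ]
    · intro ρ hρ
      refine Finset.mem_filter.2 ⟨Finset.mem_univ _, ?_⟩
      rw [perm_mul, (Finset.mem_filter.1 hρ).2, perm_inv_of_eq hτ]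
    · intro ρ _
      rw [inv_mul_cancel_left]
    · intro ρ _
      rw [mul_inv_cancel_left]
    · intro ρ _
      rfl

/-- the element concentrated at `n` -/
theorem exists_conc [Finite (MaximalSpectrum V')] (a : V) (ha : a ∈ maximalIdeal V)
    (hnil : ∀ x ∈ maximalIdeal V, ∃ k, a ∣ x ^ k)
    (hrad : ∀ x : V', (∀ n : MaximalSpectrum V', x ∈ n.asIdeal) → x ∈ (maximalIdeal V).map (algebraMap V V'))
    (hover : ∀ n : MaximalSpectrum V', (maximalIdeal V).map (algebraMap V V') ≤ n.asIdeal)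
    (n : MaximalSpectrum V') (N : ℕ) (v v₂ : V) (hv : v * v₂ = a ^ N) :
    ∃ (w s t : V'), (∃ k, w ∣ algebraMap V V' a ^ k) ∧ (∀ τ : Γ, perm τ n = n → τ • w = w) ∧ s ∉ n.asIdeal ∧
      t ∉ n.asIdeal ∧ s * w = t * algebraMap V V' v ∧ ∀ n' : MaximalSpectrum V', n' ≠ n → w ∉ n'.asIdeal := by
  obtain ⟨e, he, he', hst⟩ := exists_sep' (Γ := Γ) n
  have h1 : e * (1 - e) ∈ (maximalIdeal V).map (algebraMap V V') := by
    apply hrad
    intro n'
    by_cases h : n' = n
    · rw [h]
      exact Ideal.mul_mem_left _ _ he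
    · exact Ideal.mul_mem_right _ _ (he' n' h)
  obtain ⟨k₀, y₀, hy₀⟩ := exists_pow_dvd a hnil (N + 1) _ h1
  let k := k₀ + 1
  obtain ⟨y, hy⟩ : ∃ y, (e * (1 - e)) ^ k = algebraMap V V' (a ^ (N + 1)) * y :=
    ⟨y₀ * (e * (1 - e)), by
      change (e * (1 - e)) ^ (k₀ + 1) = _
      rw [pow_succ, hy₀]
      ring⟩
  have hav : ∀ n : MaximalSpectrum V', algebraMap V V' a ∈ n.asIdeal := fun n => hover n (Ideal.mem_map_of_mem _ ha)
  have one_mem : ∀ n : MaximalSpectrum V', ¬ ((1 : V') ∈ n.asIdeal) := fun n =>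
    (Ideal.ne_top_iff_one _).1 n.isMaximal.ne_top
  have hen : e ∉ n.asIdeal := by
    intro h
    apply one_mem n
    have := n.asIdeal.add_mem h he
    rwa [add_sub_cancel] at this
  have hek : e ^ k ∉ n.asIdeal := fun h => hen (n.isMaximal.isPrime.mem_of_pow_mem _ h)
  let t : V' := e ^ k * e ^ k + algebraMap V V' a * (algebraMap V V' v₂ * y)
  have ht : t ∉ n.asIdeal := by
    intro h
    have h2 : e ^ k * e ^ k ∈ n.asIdeal := by
      have h3 := n.asIdeal.sub_mem h (Ideal.mul_mem_right (algebraMap V V' v₂ * y) _ (hav n))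
      rwa [add_sub_cancel_right] at h3
    rcases n.isMaximal.isPrime.mem_or_mem h2 with h3 | h3 <;> exact hek h3
  let w : V' := algebraMap V V' v * e ^ k + (1 - e) ^ k
  have hw : e ^ k * w = t * algebraMap V V' v := by
    have h2 : e ^ k * (1 - e) ^ k = algebraMap V V' a * algebraMap V V' v₂ * y * algebraMap V V' v := by
      rw [← mul_pow, hy, pow_succ, ← hv, map_mul, map_mul]
      ring
    change e ^ k * (algebraMap V V' v * e ^ k + (1 - e) ^ k) = _
    rw [mul_add, h2]
    ring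
  have hwn : ∀ n' : MaximalSpectrum V', n' ≠ n → w ∉ n'.asIdeal := by
    intro n' hn' h
    have h2 : algebraMap V V' v * e ^ k ∈ n'.asIdeal := by
      apply Ideal.mul_mem_left
      exact Ideal.pow_mem_of_mem _ (he' n' hn') _ (Nat.succ_pos _)
    have h3 : (1 - e) ^ k ∈ n'.asIdeal := by
      have h4 := n'.asIdeal.sub_mem h h2
      rwa [add_sub_cancel_left] at h4
    have h5 := n'.isMaximal.isPrime.mem_of_pow_mem _ h3
    apply one_mem n'
    have := n'.asIdeal.add_mem (he' n' hn') h5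
    rwa [add_sub_cancel] at this
  refine ⟨w, e ^ k, t, ?_, fun τ hτ => ?_, hek, ht, hw, hwn⟩
  · have h2 : algebraMap V V' a ∈ (Ideal.span {w}).radical := by
      rw [Ideal.radical_eq_sInf, Ideal.mem_sInf]
      rintro P ⟨hP, hPp⟩
      by_contra haP
      obtain ⟨n₁, hn₁, hPn⟩ := Ideal.exists_le_maximal P hPp.ne_top
      have hwP : w ∈ P := hP (Ideal.mem_span_singleton_self w)
      by_cases h : (⟨n₁, hn₁⟩ : MaximalSpectrum V') = n
      · have h3 : t * algebraMap V V' v ∈ P := by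
          rw [← hw]
          exact Ideal.mul_mem_left _ _ hwP
        rcases hPp.mem_or_mem h3 with h4 | h4
        · apply ht
          rw [← h]
          exact hPn h4
        · apply haP
          apply hPp.mem_of_pow_mem N
          rw [← map_pow, ← hv, map_mul]
          exact Ideal.mul_mem_right _ _ h4
      · exact hwn _ h (hPn hwP)
    obtain ⟨k', hk'⟩ := h2
    exact ⟨k', Ideal.mem_span_singleton.1 hk'⟩
  · change τ • (algebraMap V V' v * e ^ k + (1 - e) ^ k) = _
    rw [smul_add, smul_mul', smul_pow', smul_pow', smul_sub, smul_one, hst τ hτ, smul_algebraMap]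

end K216.ValSep
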