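import Groth.Agent.Red.K216.ValHens
import Groth.Agent.Sga3A.MTBasis
import Groth.Agent.Sga3B.Hens.Dict
import Mathlib.LinearAlgebra.TensorProduct.Pi

/-!
# Points of tori over `V^h[1/a]`
-/

set_option autoImplicit false
set_option linter.unusedSectionVars false
universe u

open IsLocalRing TensorProduct WithConv
open Groth.Agent.Sga3A.MTBasis Groth.Agent.Sga3B.Hens.Dict

namespace K216.ValTorus
open K216.ValLoc K216.ValLift K216.ValHens

section tw

variable {V V' Γ : Type*} [CommRing V] [CommRing V'] [Algebra V V'] [Group Γ] [MulSemiringAction Γ V']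
  [SMulCommClass Γ V V']

variable (V V') in
/-- the action of `σ` on `V' ⊗ B` -/
noncomputable def tw (σ : Γ) (B : Type*) [CommRing B] [Algebra V B] : V' ⊗[V] B →ₐ[V] V' ⊗[V] B :=
  Algebra.TensorProduct.map (MulSemiringAction.toAlgHom V V' σ) (AlgHom.id V B)

@[simp] lemma tw_tmul (σ : Γ) {B : Type*} [CommRing B] [Algebra V B] (v : V') (b : B) :
    tw V V' σ B (v ⊗ₜ b) = (σ • v) ⊗ₜ b := rfl

lemma tw_algebraMap (σ : Γ) {B : Type*} [CommRing B] [Algebra V B] (v : V') :
    tw V V' σ B (algebraMap V' (V' ⊗[V] B) v) = algebraMap V' (V' ⊗[V] B) (σ • v) := rfl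

/-- invariants -/
theorem exists_of_tw (B : Type*) [CommRing B] [Algebra V B] [Module.Flat V B] [Finite Γ] [Algebra.IsInvariant V V' Γ]
    (z : V' ⊗[V] B) (hz : ∀ σ : Γ, tw V V' σ B z = z) : ∃ b : B, (1 : V') ⊗ₜ[V] b = z := by
  classical
  have := Fintype.ofFinite Γ
  let D : V' →ₗ[V] (Γ → V') := LinearMap.pi fun σ => (MulSemiringAction.toAlgHom V V' σ).toLinearMap - LinearMap.id
  have h1 : Function.Exact (Algebra.linearMap V V') D := by
    intro v
    constructor
    · intro h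
      obtain ⟨r, hr⟩ := Algebra.IsInvariant.isInvariant (A := V) (G := Γ) v fun σ => sub_eq_zero.1 (congrFun h σ)
      exact ⟨r, hr⟩
    · rintro ⟨r, rfl⟩
      ext σ
      change σ • (algebraMap V V' r) - algebraMap V V' r = 0
      rw [smul_algebraMap, sub_self]
  have h2 := Module.Flat.lTensor_exact B h1
  let z' : B ⊗[V] V' := TensorProduct.comm V V' B z
  have h3 : D.lTensor B z' = 0 := by
    apply (TensorProduct.piRight V V B (fun _ : Γ => V')).injective
    rw [map_zero]
    ext σ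
    have h4 : ∀ y : V' ⊗[V] B, (TensorProduct.piRight V V B (fun _ : Γ => V')) (D.lTensor B (TensorProduct.comm V V' B y)) σ =
        TensorProduct.comm V V' B (tw V V' σ B y) - TensorProduct.comm V V' B y := by
      intro y
      induction y with
      | zero => simp
      | add x y hx hy =>
        rw [map_add, map_add, map_add, Pi.add_apply, hx, hy, map_add, map_add]
        abel
      | tmul v b =>
        rw [TensorProduct.comm_tmul, LinearMap.lTensor_tmul, TensorProduct.piRight_apply, TensorProduct.piRightHom_tmul,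
          tw_tmul, TensorProduct.comm_tmul, ← TensorProduct.tmul_sub]
        rfl
    rw [h4, hz, sub_self]
    rfl
  obtain ⟨y, hy⟩ := (h2 z').1 h3
  refine ⟨TensorProduct.rid V B y, ?_⟩
  apply (TensorProduct.comm V V' B).injective
  change _ = z'
  rw [← hy]
  clear hy h3
  induction y with
  | zero => simp
  | add x y hx hy => rw [map_add, TensorProduct.tmul_add, map_add, map_add, hx, hy]
  | tmul b r =>
    rw [TensorProduct.rid_tmul, TensorProduct.comm_tmul, LinearMap.lTensor_tmul, TensorProduct.smul_tmul,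
      Algebra.linearMap_apply, Algebra.algebraMap_eq_smul_one]

end tw

section chars

variable {V V' A M : Type*} [CommRing V] [CommRing V'] [IsDomain V'] [Algebra V V'] [CommRing A] [HopfAlgebra V A]
  [CommGroup M] (g : GBasis V' (V' ⊗[V] A) M)

lemma exists_eq {B : Type*} [CommRing B] [Bialgebra V' B] (g : GBasis V' B M) {x : B} (hx : IsGroupLikeElem V' x) :
    ∃ m, x = g.b m := by
  classical
  by_contra hcon
  push Not at hcon
  have h1 : ∀ m, g.b.repr x m = 0 := by
    intro m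
    have h2 := g.repr_mul_repr hx m m
    rw [if_pos rfl] at h2
    by_contra h0
    apply hcon m
    apply g.eq_of_repr_eq_one hx
    exact mul_left_cancel₀ h0 (by rw [h2, mul_one])
  have h2 := g.sum_repr hx
  rw [Finsupp.sum, Finset.sum_eq_zero fun m _ => h1 m] at h2
  exact zero_ne_one h2

variable {Γ : Type*} [Group Γ] [MulSemiringAction Γ V'] [SMulCommClass Γ V V']

/-- the action on the characters -/
noncomputable def ψ (σ : Γ) (m : M) : M :=
  (exists_eq g (isGroupLikeElem_bc (A := A) (MulSemiringAction.toAlgHom V V' σ) (g.gl m))).choose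

lemma tw_b (σ : Γ) (m : M) : tw V V' σ A (g.b m) = g.b (ψ g σ m) :=
  (exists_eq g (isGroupLikeElem_bc (A := A) (MulSemiringAction.toAlgHom V V' σ) (g.gl m))).choose_spec

lemma ψ_mul (σ : Γ) (m n : M) : ψ g σ (m * n) = ψ g σ m * ψ g σ n := by
  apply g.b_injective
  rw [← tw_b, g.mul, g.mul, map_mul, tw_b, tw_b]

/-- the algebra map attached to a homomorphism -/
noncomputable def ofHom {B : Type*} [CommRing B] [Algebra V' B] (f : M →* Bˣ) : V' ⊗[V] A →ₐ[V'] B :=
  (MonoidAlgebra.lift V' B M ((Units.coeHom B).comp f)).comp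
    (g.bialgEquiv.symm : V' ⊗[V] A →ₐ[V'] MonoidAlgebra V' M)

lemma ofHom_b {B : Type*} [CommRing B] [Algebra V' B] (f : M →* Bˣ) (m : M) : ofHom g f (g.b m) = f m := by
  have h1 : g.bialgEquiv (MonoidAlgebra.single m 1) = g.b m := by
    change g.lift _ = _
    rw [GBasis.lift, MonoidAlgebra.lift_single, one_smul]
    rfl
  rw [← h1]
  change MonoidAlgebra.lift V' B M ((Units.coeHom B).comp f) (g.bialgEquiv.symm (g.bialgEquiv _)) = _
  rw [BialgEquiv.symm_apply_apply, MonoidAlgebra.lift_single, one_smul]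
  rfl

end chars

section main

variable {V V' A M R' S Sa : Type u} [CommRing V] [IsDomain V] [ValuationRing V] [CommRing V'] [IsDomain V']
  [Algebra V V'] [FaithfulSMul V V'] [Module.Finite V V'] [Module.Free V V'] [CommRing A] [HopfAlgebra V A]
  [CommGroup M] [Group.FG M] (g : GBasis V' (V' ⊗[V] A) M)
  [CommRing R'] [Algebra V' R'] [Algebra V R']
  [IsScalarTower V V' R'] [CommRing S] [Algebra V S] [CommRing Sa] [Algebra V Sa] [Algebra S Sa]
  [IsScalarTower V S Sa] (a : V) [IsLocalization.Away (algebraMap V V' a) R']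
  [IsLocalization.Away (algebraMap V S a) Sa]
  {Γ : Type u} [Group Γ] [Finite Γ] [MulSemiringAction Γ V'] [SMulCommClass Γ V V'] [Algebra.IsInvariant V V' Γ]

lemma iS_tw (σ : Γ) (c : V' ⊗[V] S) : iS V V' S Sa (tw V V' σ S c) = tw V V' σ Sa (iS V V' S Sa c) := by
  induction c with
  | zero => simp
  | add x y hx hy => simp only [map_add, hx, hy]
  | tmul v s => rw [tw_tmul, iS_tmul, iS_tmul, tw_tmul]

lemma iR_act (σ : Γ) (w : R') : iR V' R' Sa a S (actR V' R' a σ w) = tw V V' σ Sa (iR V' R' Sa a S w) := by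
  have h : (iR V' R' Sa a S).comp (actR V' R' a σ) =
      ((tw V V' σ Sa : V' ⊗[V] Sa →ₐ[V] V' ⊗[V] Sa) : V' ⊗[V] Sa →+* V' ⊗[V] Sa).comp (iR V' R' Sa a S) := by
    apply IsLocalization.ringHom_ext (Submonoid.powers (algebraMap V V' a))
    ext v
    simp only [RingHom.comp_apply, actR_algebraMap, iR_algebraMap]
    rfl
  exact RingHom.congr_fun h w

lemma map_tw {B : Type u} [CommRing B] [Algebra V B] (x : A →ₐ[V] B) (σ : Γ) (z : V' ⊗[V] A) :
    Algebra.TensorProduct.map (AlgHom.id V' V') x (tw V V' σ A z) =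
      tw V V' σ B (Algebra.TensorProduct.map (AlgHom.id V' V') x z) := by
  induction z with
  | zero => simp
  | add x y hx hy => simp only [map_add, hx, hy]
  | tmul v s => rfl

/-- semilinear maps which agree on the basis -/
lemma ofHom_tw {B : Type u} [CommRing B] [Algebra V' B] (f : M →* Bˣ) (σ : Γ) (τ : B →+* B)
    (hτ : ∀ v : V', τ (algebraMap V' B v) = algebraMap V' B (σ • v))
    (hf : ∀ m, (f (ψ g σ m) : B) = τ (f m)) (z : V' ⊗[V] A) :
    ofHom g f (tw V V' σ A z) = τ (ofHom g f z) := by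
  rw [← g.b.linearCombination_repr z, Finsupp.linearCombination_apply, Finsupp.sum]
  simp only [map_sum]
  refine Finset.sum_congr rfl fun m _ => ?_
  rw [Algebra.smul_def, map_mul, map_mul, map_mul, map_mul, tw_b, ofHom_b, ofHom_b, hf, tw_algebraMap,
    AlgHom.commutes, AlgHom.commutes, hτ]

variable (hg : Good V V' a)
  (hsub : ∀ (N : ℕ) (s : S), ∃ (v : V) (r : S), s = algebraMap V S v + algebraMap V S (a ^ N) * r)
  (hdvd : ∀ (N : ℕ) (v : V), algebraMap V S (a ^ N) ∣ algebraMap V S v → a ^ N ∣ v)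
  (hjS : ∀ x : V' ⊗[V] S, IsUnit (1 - algebraMap V' (V' ⊗[V] S) (algebraMap V V' a) * x))
  (hjV : ∀ x : V', IsUnit (1 - algebraMap V V' a * x))
  (hinj : Function.Injective (iS V V' S Sa))

include hg hsub hdvd hjS hjV hinj in
theorem exists_hom (R : Type u) [CommRing R] [Algebra V R] [Algebra R R'] [IsScalarTower V R R']
    [IsLocalization.Away a R] (x : A →ₐ[V] Sa) : ∃ (f : M →* R'ˣ) (c : M →* (V' ⊗[V] S)ˣ),
    (∀ (σ : Γ) m, f (ψ g σ m) = actU V' R' a σ (f m)) ∧
    (∀ (σ : Γ) m, (c (ψ g σ m) : V' ⊗[V] S) = tw V V' σ S (c m)) ∧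
    ∀ m, Algebra.TensorProduct.map (AlgHom.id V' V') x (g.b m) = iR V' R' Sa a S (f m) * iS V V' S Sa (c m) := by
  have hR : Function.Injective (algebraMap V' R') := injective_algebraMap a hg.ha0
  let X : V' ⊗[V] A →ₐ[V'] V' ⊗[V] Sa := Algebra.TensorProduct.map (AlgHom.id V' V') x
  have hX1 : ∀ m : M, X (g.b m) * X (g.b m⁻¹) = 1 := by
    intro m
    rw [← map_mul, ← g.mul, mul_inv_cancel, g.one, map_one]
  let χ : M → (V' ⊗[V] Sa)ˣ := fun m => ⟨X (g.b m), X (g.b m⁻¹), hX1 m, by rw [mul_comm, hX1]⟩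
  have hχ : ∀ m, (χ m : V' ⊗[V] Sa) = X (g.b m) := fun _ => rfl
  have hfac := fun m => exists_factor (V' := V') (R' := R') (S := S) (Sa := Sa) a hsub hdvd hjS hjV hinj (χ m)
  choose f c hfc using hfac
  let uiR : R'ˣ →* (V' ⊗[V] Sa)ˣ := Units.map (iR V' R' Sa a S : R' →* V' ⊗[V] Sa)
  let uiS : (V' ⊗[V] S)ˣ →* (V' ⊗[V] Sa)ˣ :=
    Units.map ((iS V V' S Sa : V' ⊗[V] S →+* V' ⊗[V] Sa) : V' ⊗[V] S →* V' ⊗[V] Sa)
  have hfc' : ∀ m, χ m = uiR (f m) * uiS (c m) := fun m => Units.ext (hfc m)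
  have hmem : ∀ (w : R'ˣ) (d : (V' ⊗[V] S)ˣ), uiR w = uiS d → ∃ v : V'ˣ, w = uV V' R' v := fun w d h =>
    mem_of_eq (V' := V') (R' := R') (S := S) (Sa := Sa) a hdvd hinj hR w d (congrArg Units.val h)
  have h1 : ∀ m m', ∃ v : V'ˣ, f (m * m') = f m * f m' * uV V' R' v := by
    intro m m'
    obtain ⟨v, hv⟩ := hmem ((f m * f m')⁻¹ * f (m * m')) (c m * c m' * (c (m * m'))⁻¹) (by
      have h2 : χ (m * m') = χ m * χ m' := by
        apply Units.ext
        rw [Units.val_mul, hχ, hχ, hχ, g.mul, map_mul]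
      rw [hfc', hfc', hfc'] at h2
      rw [map_mul, map_mul, map_mul, map_inv, map_inv, map_mul, inv_mul_eq_iff_eq_mul, ← mul_assoc,
        eq_mul_inv_iff_mul_eq, h2, mul_mul_mul_comm])
    exact ⟨v, by rw [← hv, mul_inv_cancel_left]⟩
  have h2 : ∀ (σ : Γ) m, ∃ v : V'ˣ, f (ψ g σ m) = actU V' R' a σ (f m) * uV V' R' v := by
    intro σ m
    let d : (V' ⊗[V] S)ˣ := Units.map ((tw V V' σ S : V' ⊗[V] S →+* V' ⊗[V] S) : V' ⊗[V] S →* V' ⊗[V] S) (c m)
    obtain ⟨v, hv⟩ := hmem ((actU V' R' a σ (f m))⁻¹ * f (ψ g σ m)) (d * (c (ψ g σ m))⁻¹) (by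
      have h3 : χ (ψ g σ m) = uiR (actU V' R' a σ (f m)) * uiS d := by
        apply Units.ext
        rw [Units.val_mul, hχ, ← tw_b, map_tw, ← hχ, hfc, map_mul, ← iR_act, ← iS_tw]
        rfl
      rw [hfc'] at h3
      rw [map_mul, map_mul, map_inv, map_inv, inv_mul_eq_iff_eq_mul, ← mul_assoc, eq_mul_inv_iff_mul_eq, h3])
    exact ⟨v, by rw [← hv, mul_inv_cancel_left]⟩
  obtain ⟨f', hf', hff'⟩ := exists_lift (V := V) (V' := V') (R' := R') (Γ := Γ) a hg R (ψ g) f h1 h2
  choose v hv using hff'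
  have hvS : ∀ m, ∃ e : (V' ⊗[V] S)ˣ, uiR (uV V' R' (v m)) = uiS e := by
    intro m
    refine ⟨Units.map (algebraMap V' (V' ⊗[V] S) : V' →* V' ⊗[V] S) (v m), Units.ext ?_⟩
    change iR V' R' Sa a S (algebraMap V' R' (v m)) = iS V V' S Sa (algebraMap V' (V' ⊗[V] S) (v m))
    rw [iR_algebraMap, AlgHom.commutes]
  choose e he using hvS
  have hinj' : Function.Injective uiS := by
    intro d d' h
    exact Units.ext (hinj (congrArg Units.val h))
  have hc : ∀ m, χ m = uiR (f' m) * uiS (c m * (e m)⁻¹) := by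
    intro m
    rw [hv, map_mul, map_mul, map_inv, he, hfc']
    rw [mul_mul_mul_comm, mul_inv_cancel, mul_one]
  have hc' : ∀ m, uiS (c m * (e m)⁻¹) = (uiR (f' m))⁻¹ * χ m := by
    intro m
    rw [hc, inv_mul_cancel_left]
  let c' : M →* (V' ⊗[V] S)ˣ := MonoidHom.mk' (fun m => c m * (e m)⁻¹) (by
    intro m m'
    apply hinj'
    have h3 : χ (m * m') = χ m * χ m' := by
      apply Units.ext
      rw [Units.val_mul, hχ, hχ, hχ, g.mul, map_mul]
    rw [map_mul uiS (c m * (e m)⁻¹), hc', hc', hc', map_mul, map_mul, mul_inv, h3, mul_mul_mul_comm])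
  refine ⟨f', c', hf', fun σ m => ?_, fun m => ?_⟩
  · apply hinj
    have h3 : χ (ψ g σ m) = Units.map ((tw V V' σ Sa : V' ⊗[V] Sa →+* V' ⊗[V] Sa) : V' ⊗[V] Sa →* V' ⊗[V] Sa) (χ m) := by
      apply Units.ext
      change X (g.b (ψ g σ m)) = tw V V' σ Sa (X (g.b m))
      rw [← tw_b, map_tw]
    have h4 : uiR (actU V' R' a σ (f' m)) =
        Units.map ((tw V V' σ Sa : V' ⊗[V] Sa →+* V' ⊗[V] Sa) : V' ⊗[V] Sa →* V' ⊗[V] Sa) (uiR (f' m)) :=
      Units.ext (iR_act (S := S) (Sa := Sa) a σ (f' m : R'))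
    have h5 : uiS (c' (ψ g σ m)) =
        Units.map ((tw V V' σ Sa : V' ⊗[V] Sa →+* V' ⊗[V] Sa) : V' ⊗[V] Sa →* V' ⊗[V] Sa) (uiS (c' m)) := by
      change uiS (c (ψ g σ m) * (e (ψ g σ m))⁻¹) = Units.map _ (uiS (c m * (e m)⁻¹))
      rw [hc', hc', h3, hf', h4, map_mul, map_inv]
    rw [iS_tw]
    exact congrArg Units.val h5
  · exact congrArg Units.val (hc m)

lemma exists_algHom {A B C : Type u} [CommRing A] [Algebra V A] [CommRing B] [Algebra V B] [CommRing C]
    [Algebra V C] (i : B →ₐ[V] C) (hi : Function.Injective i) (φ : A →ₐ[V] C) (h : ∀ x, ∃ y, i y = φ x) :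
    ∃ f : A →ₐ[V] B, ∀ x, i (f x) = φ x := by
  refine ⟨((AlgEquiv.ofInjective i hi).symm : i.range →ₐ[V] B).comp (φ.codRestrict i.range fun x => h x), fun x => ?_⟩
  have h1 := (AlgEquiv.ofInjective i hi).apply_symm_apply (φ.codRestrict i.range (fun x => h x) x)
  exact congrArg Subtype.val h1

lemma exists_of_actR (R : Type u) [CommRing R] [Algebra V R] [Algebra R R'] [IsScalarTower V R R']
    [IsLocalization.Away a R] (hR : Function.Injective (algebraMap V' R')) (z : R')
    (hz : ∀ σ : Γ, actR V' R' a σ z = z) : ∃ r : R, algebraMap R R' r = z := by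
  obtain ⟨k, s, hs⟩ := IsLocalization.Away.surj (algebraMap V V' a) z
  obtain ⟨v, hv⟩ := Algebra.IsInvariant.isInvariant (A := V) (G := Γ) s (by
    intro σ
    apply hR
    rw [← actR_algebraMap a, ← hs, map_mul, hz, map_pow, actR_algebraMap, smul_algebraMap])
  have hua : IsUnit (algebraMap V R a) := IsLocalization.Away.algebraMap_isUnit a
  have hua' : IsUnit (algebraMap V' R' (algebraMap V V' a)) := IsLocalization.Away.algebraMap_isUnit _
  obtain ⟨ua, hua⟩ := hua
  refine ⟨algebraMap V R v * ((ua ^ k)⁻¹ : Rˣ), (hua'.pow k).mul_right_cancel ?_⟩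
  rw [hs, ← hv, ← IsScalarTower.algebraMap_apply V V' R', ← IsScalarTower.algebraMap_apply V V' R',
    IsScalarTower.algebraMap_apply V R R' a, ← hua, ← map_pow, ← map_mul, ← Units.val_pow_eq_pow_val,
    Units.inv_mul_cancel_right, ← IsScalarTower.algebraMap_apply V R R']

lemma injective_RR' (R : Type u) [CommRing R] [Algebra V R] [Algebra R R'] [IsScalarTower V R R']
    [IsLocalization.Away a R] (hR : Function.Injective (algebraMap V' R')) :
    Function.Injective (algebraMap R R') := by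
  rw [injective_iff_map_eq_zero]
  intro r hr
  obtain ⟨k, v, hv⟩ := IsLocalization.Away.surj a r
  have hua : IsUnit (algebraMap V R a) := IsLocalization.Away.algebraMap_isUnit a
  have h1 : v = 0 := by
    apply FaithfulSMul.algebraMap_injective V V'
    apply hR
    rw [map_zero, map_zero, ← IsScalarTower.algebraMap_apply V V' R', IsScalarTower.algebraMap_apply V R R', ← hv,
      map_mul, hr, zero_mul]
  apply (hua.pow k).mul_right_cancel
  rw [hv, h1, map_zero, zero_mul]

variable [Module.Flat V S]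

lemma comp_conv {B C : Type u} [CommRing B] [Algebra V B] [CommRing C] [Algebra V C] (i : B →ₐ[V] C)
    (f f' : WithConv (A →ₐ[V] B)) : i.comp (f * f').ofConv = (toConv (i.comp f.ofConv) * toConv (i.comp f'.ofConv)).ofConv := by
  ext c
  let r := Coalgebra.Repr.arbitrary V c
  change i ((f * f') c) = (toConv (i.comp f.ofConv) * toConv (i.comp f'.ofConv)) c
  rw [AlgHom.convMul_apply, AlgHom.convMul_apply, ← r.eq]
  simp

include g hg hsub hdvd hjS hjV hinj in
theorem exists_points (R R' : Type u) [CommRing R] [Algebra V R] [CommRing R'] [Algebra V' R'] [Algebra V R']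
    [IsScalarTower V V' R'] [Algebra R R'] [IsScalarTower V R R']
    [IsLocalization.Away a R] [IsLocalization.Away (algebraMap V V' a) R'] (jR : R →ₐ[V] Sa) (Γ : Type u) [Group Γ]
    [Finite Γ] [MulSemiringAction Γ V'] [SMulCommClass Γ V V'] [Algebra.IsInvariant V V' Γ] (x : A →ₐ[V] Sa) :
    ∃ (y : A →ₐ[V] R) (z : A →ₐ[V] S),
      toConv x = (toConv (jR.comp y) * toConv ((IsScalarTower.toAlgHom V S Sa).comp z) : WithConv (A →ₐ[V] Sa)) := by
  have hR : Function.Injective (algebraMap V' R') := injective_algebraMap a hg.ha0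
  obtain ⟨f, c, hf, hc, hfc⟩ := exists_hom (R' := R') (Γ := Γ) g a hg hsub hdvd hjS hjV hinj R x
  let f' : V' ⊗[V] A →ₐ[V'] R' := ofHom g f
  let c' : V' ⊗[V] A →ₐ[V'] V' ⊗[V] S := ofHom g c
  have hf' : ∀ (σ : Γ) z, f' (tw V V' σ A z) = actR V' R' a σ (f' z) := fun σ z =>
    ofHom_tw g f σ (actR V' R' a σ) (actR_algebraMap a σ) (fun m => by rw [hf]; rfl) z
  have hc' : ∀ (σ : Γ) z, c' (tw V V' σ A z) = tw V V' σ S (c' z) := fun σ z =>
    ofHom_tw g c σ (tw V V' σ S : V' ⊗[V] S →+* V' ⊗[V] S) (tw_algebraMap σ) (hc σ) z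
  have h1A : ∀ (σ : Γ) (t : A), tw V V' σ A ((1 : V') ⊗ₜ t) = 1 ⊗ₜ t := by
    intro σ t
    rw [tw_tmul, smul_one]
  -- the point `y`
  obtain ⟨y, hy⟩ := exists_algHom (IsScalarTower.toAlgHom V R R') (injective_RR' a R hR)
    ((f'.restrictScalars V).comp (Algebra.TensorProduct.includeRight : A →ₐ[V] V' ⊗[V] A)) (by
      intro t
      apply exists_of_actR (Γ := Γ) a R hR
      intro σ
      change actR V' R' a σ (f' (1 ⊗ₜ t)) = f' (1 ⊗ₜ t)
      rw [← hf', h1A])
  have hinjS : Function.Injective (Algebra.TensorProduct.includeRight : S →ₐ[V] V' ⊗[V] S) :=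
    Algebra.TensorProduct.includeRight_injective (FaithfulSMul.algebraMap_injective V V')
  obtain ⟨z, hz⟩ := exists_algHom (Algebra.TensorProduct.includeRight : S →ₐ[V] V' ⊗[V] S) hinjS
    ((c'.restrictScalars V).comp (Algebra.TensorProduct.includeRight : A →ₐ[V] V' ⊗[V] A)) (by
      intro t
      apply exists_of_tw (Γ := Γ) S
      intro σ
      change tw V V' σ S (c' (1 ⊗ₜ t)) = c' (1 ⊗ₜ t)
      rw [← hc', h1A])
  have hfl : Module.Flat V Sa := by
    have : Module.Flat S Sa := IsLocalization.flat Sa (Submonoid.powers (algebraMap V S a))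
    exact Module.Flat.trans V S Sa
  let ι : Sa →ₐ[V] V' ⊗[V] Sa := Algebra.TensorProduct.includeRight
  have hι : Function.Injective ι :=
    Algebra.TensorProduct.includeRight_injective (FaithfulSMul.algebraMap_injective V V')
  have hjR : ∀ r : R, iR V' R' Sa a S (algebraMap R R' r) = ι (jR r) := by
    intro r
    have h1 : (iR V' R' Sa a S).comp (algebraMap R R') = (ι.comp jR : R →+* V' ⊗[V] Sa) := by
      apply IsLocalization.ringHom_ext (Submonoid.powers a)
      ext v
      simp only [RingHom.comp_apply]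
      rw [← IsScalarTower.algebraMap_apply V R R', IsScalarTower.algebraMap_apply V V' R', iR_algebraMap,
        ← IsScalarTower.algebraMap_apply V V' (V' ⊗[V] Sa)]
      exact ((ι.comp jR).commutes v).symm
    exact RingHom.congr_fun h1 r
  have hY : ∀ w : V' ⊗[V] A, ex V' (ι.comp (jR.comp y)) w = iR V' R' Sa a S (f' w) := by
    intro w
    induction w with
    | zero => simp
    | add w w' hw hw' => rw [map_add, hw, hw', map_add, map_add]
    | tmul v t =>
      have h1 : v ⊗ₜ[V] t = v • ((1 : V') ⊗ₜ[V] t) := by rw [TensorProduct.smul_tmul', smul_eq_mul, mul_one]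
      have h2 : f' ((1 : V') ⊗ₜ[V] t) = algebraMap R R' (y t) := (hy t).symm
      rw [ex_tmul, h1, map_smul, h2, Algebra.smul_def, map_mul, iR_algebraMap, hjR]
      rfl
  have hZ : ∀ w : V' ⊗[V] A, ex V' (ι.comp ((IsScalarTower.toAlgHom V S Sa).comp z)) w = iS V V' S Sa (c' w) := by
    intro w
    induction w with
    | zero => simp
    | add w w' hw hw' => rw [map_add, hw, hw', map_add, map_add]
    | tmul v t =>
      have h1 : v ⊗ₜ[V] t = v • ((1 : V') ⊗ₜ[V] t) := by rw [TensorProduct.smul_tmul', smul_eq_mul, mul_one]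
      have h2 : c' ((1 : V') ⊗ₜ[V] t) = (1 : V') ⊗ₜ[V] (z t) := (hz t).symm
      rw [ex_tmul, h1, map_smul, h2, map_smul, iS_tmul, Algebra.smul_def]
      rfl
  have hX : ∀ w : V' ⊗[V] A, ex V' (ι.comp x) w = Algebra.TensorProduct.map (AlgHom.id V' V') x w := by
    intro w
    induction w with
    | zero => simp
    | add w w' hw hw' => rw [map_add, hw, hw', map_add]
    | tmul v t =>
      rw [ex_tmul, Algebra.TensorProduct.map_tmul]
      change (v ⊗ₜ[V] (1 : Sa)) * ((1 : V') ⊗ₜ[V] x t) = _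
      rw [Algebra.TensorProduct.tmul_mul_tmul, mul_one, one_mul]
      rfl
  have hmain : ex V' (ι.comp x) = (toConv (ex V' (ι.comp (jR.comp y))) *
      toConv (ex V' (ι.comp ((IsScalarTower.toAlgHom V S Sa).comp z)))).ofConv := by
    apply AlgHom.toLinearMap_injective
    apply g.b.ext
    intro m
    change ex V' (ι.comp x) (g.b m) = (toConv (ex V' (ι.comp (jR.comp y))) *
      toConv (ex V' (ι.comp ((IsScalarTower.toAlgHom V S Sa).comp z)))) (g.b m)
    rw [AlgHom.convMul_apply, (g.gl m).comul_eq_tmul_self, hX, hfc]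
    change _ = ex V' (ι.comp (jR.comp y)) (g.b m) * ex V' (ι.comp ((IsScalarTower.toAlgHom V S Sa).comp z)) (g.b m)
    rw [hY, hZ, ofHom_b, ofHom_b]
  refine ⟨y, z, ?_⟩
  have hP := ex_conv (R := V') (toConv (ι.comp (jR.comp y))) (toConv (ι.comp ((IsScalarTower.toAlgHom V S Sa).comp z)))
  have h1 : ι.comp x = ι.comp (toConv (jR.comp y) * toConv ((IsScalarTower.toAlgHom V S Sa).comp z)).ofConv := by
    rw [comp_conv]
    have h2 := hmain.trans hP.symm
    have h3 := congrArg (res (A := V) (R := V')) h2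
    rw [res_ex, res_ex] at h3
    exact h3
  have h2 : x = (toConv (jR.comp y) * toConv ((IsScalarTower.toAlgHom V S Sa).comp z)).ofConv := by
    ext t
    exact hι (DFunLike.congr_fun h1 t)
  rw [← toConv_ofConv (toConv (jR.comp y) * toConv ((IsScalarTower.toAlgHom V S Sa).comp z)), ← h2]

end main

end K216.ValTorus
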