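import Mathlib.RingTheory.Valuation.ValuationRing
import Mathlib.RingTheory.Localization.Away.Basic
import Mathlib.RingTheory.LocalRing.MaximalIdeal.Basic
import Mathlib.RingTheory.Bezout
import Mathlib.RingTheory.Ideal.Over
import Mathlib.RingTheory.Invariant.Basic
import Mathlib.LinearAlgebra.FreeModule.Basic
import Mathlib.LinearAlgebra.FreeModule.Finite.Basic

/-!
# Units of `V'[1/a]` at the maximal ideals of `V'`

`V` a valuation ring, `V'` a finite free `V`-algebra which is a domain, `a` in the maximal ideal of `V`.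
-/

set_option autoImplicit false
set_option linter.unusedSectionVars false
universe u

open IsLocalRing

namespace K216.ValUnits

section content

variable {V V' : Type*} [CommRing V] [IsDomain V] [ValuationRing V] [CommRing V'] [Algebra V V']
  [Module.Finite V V'] [Module.Free V V']

/-- content of an element of a finite free algebra over a valuation ring -/
theorem exists_content (z : V') (hz : z ≠ 0) :
    ∃ (c : V) (z₁ : V'), z = algebraMap V V' c * z₁ ∧ z₁ ∉ (maximalIdeal V).map (algebraMap V V') := by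
  classical
  let ι := Module.Free.ChooseBasisIndex V V'
  let b : Module.Basis ι V V' := Module.Free.chooseBasis V V'
  let c : ι → V := fun i => b.repr z i
  have hfg : (Ideal.span (Set.range c)).FG := ⟨Finset.univ.image c, by simp⟩
  obtain ⟨g, hg⟩ := (IsBezout.isPrincipal_of_FG _ hfg).principal
  have hgc : ∀ i, ∃ c', c i = g * c' := by
    intro i
    have h1 : c i ∈ Ideal.span (Set.range c) := Ideal.subset_span ⟨i, rfl⟩
    rw [hg] at h1
    exact Ideal.mem_span_singleton.1 h1
  choose c' hc' using hgc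
  have hg0 : g ≠ 0 := by
    rintro rfl
    apply hz
    apply b.repr.injective
    ext i
    rw [map_zero, Finsupp.zero_apply]
    exact (hc' i).trans (zero_mul _)
  have hg1 : g ∈ Ideal.span (Set.range c) := by
    rw [hg]
    exact Ideal.mem_span_singleton_self g
  obtain ⟨r, hr⟩ := (Ideal.mem_span_range_iff_exists_fun).1 hg1
  have hr1 : ∑ i, r i * c' i = 1 := by
    apply mul_left_cancel₀ hg0
    rw [mul_one, Finset.mul_sum]
    conv_rhs => rw [← hr]
    refine Finset.sum_congr rfl fun i _ => ?_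
    rw [hc' i]
    ring
  obtain ⟨i, hi⟩ : ∃ i, c' i ∉ maximalIdeal V := by
    by_contra hcon
    push Not at hcon
    have h1 : (1 : V) ∈ maximalIdeal V := by
      rw [← hr1]
      exact Ideal.sum_mem _ fun i _ => Ideal.mul_mem_left _ _ (hcon i)
    exact (Ideal.ne_top_iff_one _).1 (maximalIdeal.isMaximal V).ne_top h1
  refine ⟨g, ∑ i, c' i • b i, ?_, fun h => hi ?_⟩
  · rw [Finset.mul_sum]
    conv_lhs => rw [← b.sum_repr z]
    refine Finset.sum_congr rfl fun i _ => ?_
    change c i • b i = _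
    rw [hc' i, Algebra.smul_def, Algebra.smul_def, map_mul, mul_assoc]
  · have h1 : (∑ i, c' i • b i) ∈ (maximalIdeal V • ⊤ : Submodule V V') := by
      rw [Ideal.smul_top_eq_map]
      exact h
    have h2 : b.coord i (∑ i, c' i • b i) ∈ Submodule.map (b.coord i) (maximalIdeal V • ⊤ : Submodule V V') :=
      Submodule.mem_map_of_mem h1
    rw [Submodule.map_smul''] at h2
    have h3 := (Submodule.smul_le_right (I := maximalIdeal V) (N := Submodule.map (b.coord i) ⊤))
    have h4 : b.coord i (∑ i, c' i • b i) = c' i := by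
      rw [b.coord_apply, b.repr_sum_self]
    rw [h4] at h2
    have h5 : maximalIdeal V • Submodule.map (b.coord i) ⊤ ≤ maximalIdeal V := by
      rw [Submodule.smul_le]
      intro r hr n _
      exact Ideal.mul_mem_right _ _ hr
    exact h5 h2

end content

section units

variable {V V' : Type*} [CommRing V] [IsDomain V] [ValuationRing V] [CommRing V'] [IsDomain V'] [Algebra V V']
  [FaithfulSMul V V'] [Module.Finite V V'] [Module.Free V V']

lemma exists_pow_dvd (a : V) (hnil : ∀ x ∈ maximalIdeal V, ∃ k, a ∣ x ^ k) (N : ℕ) (x : V')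
    (hx : x ∈ (maximalIdeal V).map (algebraMap V V')) : ∃ k, algebraMap V V' (a ^ N) ∣ x ^ k := by
  have h1 : (maximalIdeal V).map (algebraMap V V') ≤ (Ideal.span {algebraMap V V' (a ^ N)}).radical := by
    rw [Ideal.map_le_iff_le_comap]
    intro y hy
    obtain ⟨k, z, hz⟩ := hnil y hy
    refine ⟨k * N, ?_⟩
    rw [Ideal.mem_span_singleton, ← map_pow, pow_mul, hz, mul_pow]
    exact map_dvd _ (Dvd.intro _ rfl)
  obtain ⟨k, hk⟩ := h1 hx
  exact ⟨k, Ideal.mem_span_singleton.1 hk⟩

/-- elements which are small at all the maximal ideals but one -/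
lemma exists_sep [Finite (MaximalSpectrum V')] (n : MaximalSpectrum V') :
    ∃ e : V', 1 - e ∈ n.asIdeal ∧ ∀ n' : MaximalSpectrum V', n' ≠ n → e ∈ n'.asIdeal := by
  classical
  have := Fintype.ofFinite (MaximalSpectrum V')
  have h1 : n.asIdeal ⊔ ⨅ n' ∈ (Finset.univ.erase n : Finset (MaximalSpectrum V')), n'.asIdeal = ⊤ := by
    apply Ideal.sup_iInf_eq_top
    intro n' hn'
    exact n.isMaximal.coprime_of_ne n'.isMaximal fun h => (Finset.mem_erase.1 hn').1 (MaximalSpectrum.ext h.symm)
  have h2 : (1 : V') ∈ n.asIdeal ⊔ ⨅ n' ∈ (Finset.univ.erase n : Finset (MaximalSpectrum V')), n'.asIdeal := by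
    rw [h1]
    trivial
  obtain ⟨f, hf, e, he, hfe⟩ := Submodule.mem_sup.1 h2
  refine ⟨e, ?_, fun n' hn' => ?_⟩
  · rw [← hfe, add_sub_cancel_right]
    exact hf
  · have h3 := (Submodule.mem_iInf _).1 he n'
    exact (Submodule.mem_iInf _).1 h3 (Finset.mem_erase.2 ⟨hn', Finset.mem_univ _⟩)

/-- the value of a divisor of `a ^ N` at `n` -/
theorem exists_value [Finite (MaximalSpectrum V')] (a : V) (ha : a ∈ maximalIdeal V) (ha0 : a ≠ 0)
    (hnil : ∀ x ∈ maximalIdeal V, ∃ k, a ∣ x ^ k)
    (hrad : ∀ x : V', (∀ n : MaximalSpectrum V', x ∈ n.asIdeal) → x ∈ (maximalIdeal V).map (algebraMap V V'))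
    (hover : ∀ n : MaximalSpectrum V', (maximalIdeal V).map (algebraMap V V') ≤ n.asIdeal)
    (n : MaximalSpectrum V') (N : ℕ) (w w₂ : V') (hw : w * w₂ = algebraMap V V' (a ^ N)) :
    ∃ (c : V) (e w₁ : V'), e ∉ n.asIdeal ∧ w₁ ∉ n.asIdeal ∧ w * e = algebraMap V V' c * w₁ := by
  have hinj := FaithfulSMul.algebraMap_injective V V'
  have haN : algebraMap V V' (a ^ N) ≠ 0 := by
    rw [Ne, ← map_zero (algebraMap V V'), hinj.eq_iff]
    exact pow_ne_zero _ ha0
  obtain ⟨e₀, he₀, he₀'⟩ := exists_sep n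
  have h1 : e₀ * (1 - e₀) ∈ (maximalIdeal V).map (algebraMap V V') := by
    apply hrad
    intro n'
    by_cases h : n' = n
    · rw [h]
      exact Ideal.mul_mem_left _ _ he₀
    · exact Ideal.mul_mem_right _ _ (he₀' n' h)
  obtain ⟨k, y, hy⟩ := exists_pow_dvd a hnil (N + 1) _ h1
  have hen : e₀ ∉ n.asIdeal := by
    intro h
    apply (Ideal.ne_top_iff_one _).1 n.isMaximal.ne_top
    have := n.asIdeal.add_mem h he₀
    rwa [add_sub_cancel] at this
  have hn := n.isMaximal.isPrime
  have hek : e₀ ^ k ∉ n.asIdeal := fun h => hen (hn.mem_of_pow_mem _ h)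
  have hw0 : w ≠ 0 := by
    rintro rfl
    rw [zero_mul] at hw
    exact haN hw.symm
  have hwe : w * e₀ ^ k ≠ 0 := by
    refine mul_ne_zero hw0 fun h => hek ?_
    rw [h]
    exact Ideal.zero_mem _
  obtain ⟨c, w₁, hc, hw₁⟩ := exists_content (V := V) (w * e₀ ^ k) hwe
  refine ⟨c, e₀ ^ k, w₁, hek, fun hn₁ => ?_, hc⟩
  obtain ⟨n', hn'⟩ : ∃ n' : MaximalSpectrum V', w₁ ∉ n'.asIdeal := by
    by_contra hcon
    push Not at hcon
    exact hw₁ (hrad _ hcon)
  have hnn' : n' ≠ n := by
    rintro rfl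
    exact hn' hn₁
  have hp' := n'.isMaximal.isPrime
  have hf : (1 - e₀) ^ k ∉ n'.asIdeal := by
    intro h
    have h2 := hp'.mem_of_pow_mem _ h
    apply (Ideal.ne_top_iff_one _).1 n'.isMaximal.ne_top
    have := n'.asIdeal.add_mem (he₀' n' hnn') h2
    rwa [add_sub_cancel] at this
  -- `a ^ (N + 1)` divides `c` up to a unit
  have hkey : algebraMap V V' c * (w₁ * (1 - e₀) ^ k) = w * algebraMap V V' (a ^ (N + 1)) * y := by
    rw [← mul_assoc, ← hc, mul_assoc w, ← mul_pow, hy]
    ring
  have hdvd : a ^ (N + 1) ∣ c := by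
    rcases ValuationRing.dvd_total (a ^ (N + 1)) c with h | h
    · exact h
    obtain ⟨d, hd⟩ := h
    have hc0 : algebraMap V V' c ≠ 0 := by
      intro h
      rw [h, zero_mul] at hc
      exact hwe hc
    have h2 : w₁ * (1 - e₀) ^ k = w * algebraMap V V' d * y := by
      apply mul_left_cancel₀ hc0
      rw [hkey, hd, map_mul]
      ring
    have hdm : d ∉ maximalIdeal V := by
      intro hdm
      have h3 : algebraMap V V' d ∈ n'.asIdeal := hover n' (Ideal.mem_map_of_mem _ hdm)
      have h4 : w₁ * (1 - e₀) ^ k ∈ n'.asIdeal := by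
        rw [h2]
        exact Ideal.mul_mem_right _ _ (Ideal.mul_mem_left _ _ h3)
      rcases hp'.mem_or_mem h4 with h5 | h5
      · exact hn' h5
      · exact hf h5
    rw [mem_maximalIdeal, mem_nonunits_iff, not_not] at hdm
    rw [hd]
    exact (hdm.mul_right_dvd).2 dvd_rfl
  obtain ⟨d, hd⟩ := hdvd
  have h2 : algebraMap V V' (a ^ N) * e₀ ^ k = algebraMap V V' (a ^ N) * (algebraMap V V' (a * d) * w₁ * w₂) := by
    rw [← hw]
    calc w * w₂ * e₀ ^ k = w * e₀ ^ k * w₂ := by ring
      _ = algebraMap V V' c * w₁ * w₂ := by rw [hc]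
      _ = _ := by
        rw [hw, hd, pow_succ, map_mul, map_mul, map_mul]
        ring
  have h3 := mul_left_cancel₀ haN h2
  apply hek
  rw [h3]
  refine Ideal.mul_mem_right _ _ (Ideal.mul_mem_right _ _ (hover n (Ideal.mem_map_of_mem _ ?_)))
  exact Ideal.mul_mem_right _ _ ha

end units

end K216.ValUnits
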